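import Mathlib
import Cfsg.Agent.Base
import Cfsg.Agent.Lib.Chain.Len
import Cfsg.Agent.Lib.BG.Api.Core3
import Cfsg.Agent.Lib.Inv73.D8
import Cfsg.Agent.Lib.Inv73.ZStar
import Cfsg.Agent.Lib.TwoFusion.QDMax
import Cfsg.Agent.Lib.PGroup.Basic
import Cfsg.Agent.Lib.PGroup.TwoCyclic
import Cfsg.Agent.Lib.SL2.Klein
import Cfsg.Agent.S0205

/-! Transfer, fusion and solvability tools for groups with short chains. -/

set_option autoImplicit false
set_option linter.style.haveILetI false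
set_option linter.unusedSectionVars false

namespace H72.Ch

open Cfsg H45 H69 Subgroup

universe u

variable {G : Type u} [Group G]

instance factTwo : Fact (Nat.Prime 2) := ⟨Nat.prime_two⟩

theorem norm_of_relIndex_two {M S : Subgroup G} (hMS : M ≤ S) (h : M.relIndex S = 2) : S ≤ 𝐍(M) :=
  fun s hs => mem_normalizer_iff.2 fun a => ⟨fun ha => (H41.conj_mem_iff_of_relIndex_two h hs (hMS ha)).2 ha,
    fun ha => (H41.conj_mem_iff_of_relIndex_two h hs (by
      have := S.mul_mem (S.mul_mem (S.inv_mem hs) (hMS ha)) hs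
      simpa [mul_assoc] using this)).1 ha⟩

theorem relIndex_two_of_card [Finite G] {M S : Subgroup G} (hle : M ≤ S)
    (h : Nat.card S = 2 * Nat.card M) : M.relIndex S = 2 :=
  H41.relIndex_eq_two_of_card hle Nat.card_pos.ne' rfl h

theorem norm_of_card [Finite G] {M S : Subgroup G} (hle : M ≤ S)
    (h : Nat.card S = 2 * Nat.card M) : S ≤ 𝐍(M) := norm_of_relIndex_two hle (relIndex_two_of_card hle h)

/-- Membership in an extension of index at most two. -/
theorem mem_ext {K : Subgroup G} {x : G} (hx : x ∈ 𝐍(K)) (hx2 : x * x ∈ K) {g : G} :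
    g ∈ K ⊔ zpowers x ↔ g ∈ K ∨ ∃ k ∈ K, g = k * x := by
  constructor
  · intro hg
    obtain ⟨k, hk, i, rfl⟩ := (H5.mem_sup_zpowers_iff hx).1 hg
    obtain ⟨j, rfl | rfl⟩ := Int.even_or_odd' i
    · left
      rw [zpow_mul, zpow_two]
      exact K.mul_mem hk (K.zpow_mem hx2 j)
    · right
      refine ⟨k * (x * x) ^ j, K.mul_mem hk (K.zpow_mem hx2 j), ?_⟩
      rw [zpow_add, zpow_mul, zpow_two, zpow_one, mul_assoc]
  · rintro (h | ⟨k, hk, rfl⟩)
    · exact mem_sup_left h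
    · exact mul_mem (mem_sup_left hk) (mem_sup_right (mem_zpowers x))

theorem card_ext {K : Subgroup G} {x : G} (hx : x ∈ 𝐍(K)) (hxK : x ∉ K) (hx2 : x * x ∈ K) :
    Nat.card (K ⊔ zpowers x : Subgroup G) = 2 * Nat.card K := by
  rw [H5.card_sup_zpowers Nat.prime_two hx hxK (by rwa [sq]), mul_comm]

theorem eq_mul_of_relIndex_two {M S : Subgroup G} (h : M.relIndex S = 2) {x g : G} (hx : x ∈ S)
    (hxM : x ∉ M) (hg : g ∈ S) (hgM : g ∉ M) : ∃ k ∈ M, g = k * x :=
  ⟨g * x⁻¹, (H41.mul_mem_of_relIndex_two h hg (S.inv_mem hx)).2 (by simp [hgM, hxM]), by group⟩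

theorem eq_mul_of_relIndex_two' {M S : Subgroup G} (h : M.relIndex S = 2) {x g : G} (hx : x ∈ S)
    (hxM : x ∉ M) (hg : g ∈ S) (hgM : g ∉ M) : ∃ k ∈ M, g = x * k :=
  ⟨x⁻¹ * g, (H41.mul_mem_of_relIndex_two h (S.inv_mem hx) hg).2 (by simp [hgM, hxM]), by group⟩

theorem sq_mem_of_relIndex_two {M S : Subgroup G} (h : M.relIndex S = 2) {x : G} (hx : x ∈ S) :
    x * x ∈ M := (H41.mul_mem_of_relIndex_two h hx hx).2 Iff.rfl

variable [Finite G]

/-- A step upwards in a `2`-group. -/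
theorem exists_step {T S : Subgroup G} (hS : IsPGroup 2 S) (h : T < S) :
    ∃ x ∈ S, x ∈ 𝐍(T) ∧ x ∉ T ∧ x * x ∈ T := by
  obtain ⟨y, hy, hyT⟩ := SetLike.exists_of_lt (lt_inf_normalizer_of_lt hS h)
  obtain ⟨k, hk⟩ := hS ⟨y, hy.1⟩
  have hk' : y ^ 2 ^ k ∈ T := by
    have := congrArg Subtype.val hk
    simp only [SubmonoidClass.mk_pow, OneMemClass.coe_one] at this
    rw [this]; exact T.one_mem
  clear hk
  induction k generalizing y with
  | zero => exact absurd (by simpa using hk') hyT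
  | succ k ih =>
    by_cases h2 : y * y ∈ T
    · exact ⟨y, hy.1, hy.2, hyT, h2⟩
    · exact ih (y * y) (mul_mem hy hy) h2 (by rwa [← sq, ← pow_mul, ← pow_succ'])

theorem solv_odd {H : Subgroup G} (h : ¬ 2 ∣ Nat.card H) : Group.IsSolvable H :=
  Cfsg.Agent.S0205.result (Nat.odd_iff.2 (by omega))

theorem solv_ext {N H : Subgroup G} (h : N ⊴ H) (hN : Group.IsSolvable N)
    (hq : ∀ _ : (N.subgroupOf H).Normal, Group.IsSolvable (H ⧸ N.subgroupOf H)) : Group.IsSolvable H := by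
  haveI := h.normal_subgroupOf
  exact H1.isSolvable_of_normal_of_quotient (N.subgroupOf H)
    (Group.isSolvable_of_isSolvable_injective (f := (subgroupOfEquivOfLe h.1).toMonoidHom)
      (subgroupOfEquivOfLe h.1).injective) (hq this)

theorem solv_of_pgroup {p : ℕ} [Fact p.Prime] {X : Type*} [Group X] [Finite X] (h : IsPGroup p X) :
    Group.IsSolvable X := by
  haveI := h.isNilpotent
  infer_instance

theorem solv_of_normal_syl {P H : Subgroup G} (hP : Syl 2 P H) (hn : H ≤ 𝐍(P)) : Group.IsSolvable H :=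
  solv_ext ⟨hP.le, hn⟩ (solv_of_pgroup hP.isP) fun _ =>
    Cfsg.Agent.S0205.result (Nat.odd_iff.2 (by have := hP.not_dvd_relIndex; unfold relIndex index at this; omega))

theorem solv_of_burnside {P H : Subgroup G} (hP : Syl 2 P H) (h : H ⊓ 𝐍(P) ≤ 𝐂(P)) :
    Group.IsSolvable H := by
  have h1 := normalPCompl_Burnside hP h
  refine solv_ext (pcore_normal _ _) (solv_odd ((isPi_compl_singleton_iff Nat.prime_two).1 h1.isPi))
    fun _ => ?_
  have h2 := h1.piNat_relIndex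
  rw [compl_compl] at h2
  refine solv_of_pgroup (p := 2) (IsPGroup.iff_card.2 ?_)
  exact ⟨_, Nat.eq_prime_pow_of_unique_prime_dvd Nat.card_pos.ne' fun hd hdv => h2 _ hd hdv⟩

/-- Burnside's fusion lemma. -/
theorem exists_norm_conj {p : ℕ} [Fact p.Prime] {P H : Subgroup G} (hP : Syl p P H) {x g : G}
    (hg : g ∈ H) (hx : P ≤ 𝐂[x]) (hy : P ≤ 𝐂[g * x * g⁻¹]) :
    ∃ n ∈ H, n ∈ 𝐍(P) ∧ n * x * n⁻¹ = g * x * g⁻¹ := by
  have h1 : Syl p P (H ⊓ 𝐂[g * x * g⁻¹]) := hP.mono (le_inf hP.le hy) inf_le_left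
  have h2 : Syl p (P ^ᶜ g) (H ⊓ 𝐂[g * x * g⁻¹]) := (hP.cj_of_mem hg).mono
    (le_inf (cj_le_of_mem hP.le hg) (by rw [H73.centralizer_conj]; exact cj_mono g hx)) inf_le_left
  obtain ⟨c, hc, e⟩ := h2.conj h1
  refine ⟨c * g, mul_mem hc.1 hg, cj_eq_self_iff.1 (by rw [← cj_cj, e]), ?_⟩
  have := H73.mem_centralizer_singleton_iff_conj.1 hc.2
  rw [← this]; group

/-- Transfer of an involution all of whose conjugates in `S` have the same image. -/
theorem transfer_eq_of_inv {A : Type*} [CommGroup A] (S : Subgroup G) (hS : Odd S.index) (φ : S →* A)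
    {t : G} (ht : t * t = 1) {c : A} (hc : c * c = 1)
    (h : ∀ (g : G) (hg : g⁻¹ * t * g ∈ S), φ ⟨_, hg⟩ = c) : MonoidHom.transfer φ t = c := by
  classical
  have := S.fintypeQuotientOfFiniteIndex
  have : Fintype (Quotient (MulAction.orbitRel (zpowers t) (G ⧸ S))) := Fintype.ofFinite _
  rw [MonoidHom.transfer_eq_prod_quotient_orbitRel_zpowers_quot]
  rw [Finset.prod_congr rfl (g := fun q : Quotient (MulAction.orbitRel (zpowers t) (G ⧸ S)) =>
    c ^ Function.minimalPeriod (t • ·) q.out)]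
  · obtain ⟨k, hk⟩ := hS
    rw [Finset.prod_pow_eq_pow_sum, ← index_eq_sum_minimalPeriod S t, hk, pow_succ, pow_mul, sq, hc,
      one_pow, one_mul]
  · intro q _
    have hord : Function.IsPeriodicPt (t • ·) 2 q.out := by
      change t • t • q.out = q.out
      rw [smul_smul, ht, one_smul]
    have key : ∀ (k : ℕ) (hk : q.out.out⁻¹ * t ^ k * q.out.out ∈ S), k ∣ 2 → φ ⟨_, hk⟩ = c ^ k := by
      intro k hk hd
      rcases (Nat.dvd_prime Nat.prime_two).1 hd with rfl | rfl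
      · simpa using h _ (by simpa using hk)
      · rw [sq c, hc, ← φ.map_one]
        congr 1
        exact Subtype.ext (by simp [sq, ht])
    exact key _ _ hord.minimalPeriod_dvd

theorem map_eq_one_of_perfect {A : Type*} [CommGroup A] (hG : commutator G = ⊤) (f : G →* A) (g : G) :
    f g = 1 := by
  have : g ∈ commutator G := hG ▸ mem_top g
  exact Abelianization.commutator_subset_ker f this

/-- Thompson transfer for a cyclic quotient. -/
theorem transfer_cyclic (hG : commutator G = ⊤) {S D : Subgroup G} (hS : Syl 2 S ⊤) (hD : D ⊴ S)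
    {x : G} (hx : x ∈ S) (hgen : S ≤ D ⊔ zpowers x) {t : G} (ht : t * t = 1) (htS : t ∈ S)
    (h : ∀ g : G, g * t * g⁻¹ ∉ D) : False := by
  haveI := hD.normal_subgroupOf
  let π := QuotientGroup.mk' (D.subgroupOf S)
  have hker : ∀ s : S, π s = 1 ↔ (s : G) ∈ D := fun s => QuotientGroup.eq_one_iff s
  haveI : IsCyclic (S ⧸ D.subgroupOf S) := ⟨⟨π ⟨x, hx⟩, fun y => by
    obtain ⟨s, rfl⟩ := QuotientGroup.mk'_surjective _ y
    obtain ⟨k, hk, i, e⟩ := (H5.mem_sup_zpowers_iff (hD.2 hx)).1 (hgen s.2)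
    refine ⟨i, ?_⟩
    have : s = ⟨k, hD.1 hk⟩ * ⟨x, hx⟩ ^ i := Subtype.ext (by simpa using e)
    rw [this, map_mul, (hker ⟨k, hD.1 hk⟩).2 hk, one_mul, map_zpow]⟩⟩
  letI : CommGroup (S ⧸ D.subgroupOf S) := IsCyclic.commGroup
  have hne : ∀ (g : G) (hg : g⁻¹ * t * g ∈ S), orderOf (π ⟨_, hg⟩) = 2 := fun g hg =>
    H9.orderOf_eq_two_of_mul_self (fun e => h g⁻¹ (by simpa using (hker _).1 e)) (by
      rw [← map_mul, ← π.map_one]; congr 1
      exact Subtype.ext (by simpa using H73.conj_mul_self ht g⁻¹))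
  have h1 : orderOf (π ⟨t, htS⟩) = 2 := by simpa using hne 1 (by simpa using htS)
  have hodd : Odd S.index := by
    have := hS.not_dvd_relIndex; rw [relIndex_top_right] at this; exact Nat.odd_iff.2 (by omega)
  have h2 := transfer_eq_of_inv S hodd π ht (c := π ⟨t, htS⟩)
    (by rw [← sq, ← h1, pow_orderOf_eq_one]) fun g hg => by
      by_contra e
      have h3 := hne g hg
      exact H5.not_isCyclic_of_two_invol (V := ⊤) (mem_top _) (mem_top _) (H9.ne_one_of_orderOf_two h1)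
        (H9.ne_one_of_orderOf_two h3) e (by rw [← sq, ← h1, pow_orderOf_eq_one])
        (by rw [← sq, ← h3, pow_orderOf_eq_one]) inferInstance
  rw [map_eq_one_of_perfect hG] at h2
  rw [← h2, orderOf_one] at h1; omega

/-- Transfer for elements which are not fused. -/
theorem mem_der_of_unfused {L P : Subgroup G} (hL : ⁅L, L⁆ = L) (hP : Syl 2 P L) {v : G} (hv : v ∈ P)
    (h : ∀ (k : ℕ), ∀ g ∈ L, g⁻¹ * v ^ k * g ∈ P → g⁻¹ * v ^ k * g = v ^ k) : v ∈ ⁅P, P⁆ := by
  have hG : commutator L = ⊤ := by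
    apply map_injective L.subtype_injective
    rw [H45.map_subtype_commutator, hL, ← MonoidHom.range_eq_map, range_subtype]
  let P' := P.subgroupOf L
  have h1 := MonoidHom.transfer_eq_pow (Abelianization.of : P' →* _) (⟨v, hP.le hv⟩ : L)
    fun k g hg => Subtype.ext (h k g g.2 hg)
  rw [map_eq_one_of_perfect hG, eq_comm, ← MonoidHom.mem_ker, Abelianization.ker_of] at h1
  have h2 : v ^ P'.index ∈ ⁅P, P⁆ := by
    have h3 := mem_map_of_mem (L.subtype.comp P'.subtype) h1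
    rw [_root_.commutator_def, Subgroup.map_commutator, ← Subgroup.map_map, ← MonoidHom.range_eq_map,
      range_subtype, map_subgroupOf_eq_of_le hP.le] at h3
    exact h3
  obtain ⟨k, hk⟩ := hP.isP ⟨v, hv⟩
  have hk' : v ^ 2 ^ k = 1 := congrArg Subtype.val hk
  have hc : (P'.index).Coprime (orderOf v) :=
    (Nat.Coprime.pow_right k ((Nat.Prime.coprime_iff_not_dvd Nat.prime_two).2
      hP.not_dvd_relIndex).symm).coprime_dvd_right (orderOf_dvd_of_pow_eq_one hk')
  obtain ⟨m, hm⟩ := exists_pow_eq_self_of_coprime hc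
  rw [← hm]; exact pow_mem h2 m

theorem mem_der_of_central {L P : Subgroup G} (hL : ⁅L, L⁆ = L) (hP : Syl 2 P L) {v : G} (hv : v ∈ P)
    (h : L ≤ 𝐂[v]) : v ∈ ⁅P, P⁆ :=
  mem_der_of_unfused hL hP hv fun k g hg _ => by
    have : Commute g v := mem_cent1_iff.1 (h hg)
    rw [mul_assoc, ← (this.pow_right k).eq, inv_mul_cancel_left]

theorem eq_one_of_abelian_syl {L P : Subgroup G} (hL : ⁅L, L⁆ = L) (hP : Syl 2 P L) (hab : P ≤ 𝐂(P))
    {v : G} (hv : v ∈ P) (h : L ⊓ 𝐍(P) ≤ 𝐂[v]) : v = 1 := by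
  have h1 := mem_der_of_unfused hL hP hv fun k g hg hm => by
    have hc : ∀ y ∈ P, P ≤ 𝐂[y] := fun y hy => hab.trans (cent_le_cent1 hy)
    obtain ⟨n, hn, hnP, e⟩ := exists_norm_conj hP (x := v ^ k) (inv_mem hg) (hc _ (pow_mem hv k))
      (hc _ (by rwa [inv_inv]))
    rw [inv_inv] at e
    have : Commute n v := mem_cent1_iff.1 (h ⟨hn, hnP⟩)
    rw [← e, (this.pow_right k).eq, mul_inv_cancel_right]
  rwa [abelian_iff_der_eq_bot.1 (abelian_iff_le_centralizer.2 hab), mem_bot] at h1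

end H72.Ch
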