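import Mathlib
import Cfsg.Agent.Base
import Cfsg.Agent.Lib.Chain.Tools

/-! Lower bounds for the length of non-solvable groups. -/

set_option autoImplicit false
set_option linter.style.haveILetI false
set_option linter.unusedSectionVars false

namespace H72.Ch

open Cfsg H45 H69 Subgroup

universe u

variable {G : Type u} [Group G] [Finite G]

theorem exists_card_pow {P : Subgroup G} (h : IsPGroup 2 P) : ∃ k, Nat.card P = 2 ^ k :=
  IsPGroup.iff_card.1 h

theorem norm_le_cent_of_card_le_two {P : Subgroup G} (h : Nat.card P ≤ 2) : 𝐍(P) ≤ 𝐂(P) := by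
  intro g hg x hx
  by_cases h1 : x = 1
  · simp [h1]
  have h2 : g * x * g⁻¹ ∈ P := (mem_normalizer_iff.1 hg x).1 hx
  have h3 : g * x * g⁻¹ ≠ 1 := by simpa using h1
  by_contra h4
  have h5 : ({1, x, g * x * g⁻¹} : Set G).ncard ≤ Nat.card P :=
    Set.ncard_le_ncard (t := (P : Set G)) (by
      rintro y (rfl | rfl | rfl)
      exacts [P.one_mem, hx, h2]) (Set.toFinite _)
  rw [Set.ncard_eq_three.2 ⟨_, _, _, Ne.symm h1, Ne.symm h3, fun e => h4 (by
    conv_lhs => rw [e]
    group), rfl⟩] at h5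
  omega

theorem abelian_of_card_four {P : Subgroup G} (h : Nat.card P = 4) : P ≤ 𝐂(P) :=
  abelian_iff_le_centralizer.1 (IsPGroup.isMulCommutative_of_card_eq_prime_sq (p := 2) h)

theorem syl_lt_of_not_solvable {P H : Subgroup G} (hP : Syl 2 P H) (h : ¬ Group.IsSolvable H) : P < H :=
  lt_of_le_of_ne hP.le fun e => h (e ▸ solv_of_pgroup hP.isP)

theorem four_le_len {H : Subgroup G} (h : ¬ Group.IsSolvable H) : 4 ≤ len H := by
  obtain ⟨P, hP⟩ := Sylow_exists 2 H
  obtain ⟨k, hk⟩ := exists_card_pow hP.isP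
  have h1 := len_lt (syl_lt_of_not_solvable hP h)
  have h2 := le_len_of_card hk
  by_cases h3 : 3 ≤ k
  · omega
  have h4 : ¬ H ⊓ 𝐍(P) ≤ 𝐂(P) := fun h4 => h (solv_of_burnside hP h4)
  obtain rfl : k = 2 := by
    by_contra h5
    refine h4 (inf_le_right.trans (norm_le_cent_of_card_le_two ?_))
    rw [hk]
    have : k = 0 ∨ k = 1 := by omega
    rcases this with rfl | rfl <;> norm_num
  have h5 : P < H ⊓ 𝐍(P) := lt_of_le_of_ne (le_inf hP.le le_normalizer) fun e =>
    h4 (e ▸ abelian_of_card_four hk)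
  have h6 : H ⊓ 𝐍(P) < H := lt_of_le_of_ne inf_le_left fun e =>
    h (solv_of_normal_syl hP (inf_eq_left.1 e))
  have := len_lt h5
  have := len_lt h6
  omega

theorem solv_top_iff {X : Type*} [Group X] : Group.IsSolvable (⊤ : Subgroup X) ↔ Group.IsSolvable X :=
  ⟨fun _ => Group.isSolvable_of_isSolvable_injective (f := (topEquiv (G := X)).symm.toMonoidHom)
      topEquiv.symm.injective,
    fun _ => inferInstance⟩

theorem four_le_len_top (h : ¬ Group.IsSolvable G) : 4 ≤ len (⊤ : Subgroup G) :=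
  four_le_len fun h1 => h (solv_top_iff.1 h1)

theorem one_le_len {H : Subgroup G} (h : H ≠ ⊥) : 1 ≤ len H :=
  Nat.lt_of_le_of_lt (Nat.zero_le _) (len_lt (bot_lt_iff_ne_bot.2 h))

theorem exists_central_inv {P N : Subgroup G} (hP : IsPGroup 2 P) (hN : N ⊴ P) (h : N ≠ ⊥) :
    ∃ z ∈ N, orderOf z = 2 ∧ P ≤ 𝐂[z] := by
  haveI := hN.normal_subgroupOf
  have h1 : N.subgroupOf P ≠ ⊥ := fun e => h (by
    rw [subgroupOf_eq_bot, disjoint_iff, inf_eq_left.2 hN.1] at e; exact e)
  obtain ⟨z, hz, hz2⟩ := H9.exists_involution_of_isPGroup (hP.to_subgroup _) (H5.inf_center_ne_bot hP _ h1)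
  exact ⟨z, hz.1, by rwa [orderOf_coe], fun g hg => mem_cent1_iff.2
    (congrArg Subtype.val (mem_center_iff.1 hz.2 ⟨g, hg⟩))⟩

theorem card_pair {s t : G} (h : H29.IsPair s t) : Nat.card (closure ({s, t} : Set G)) = 4 :=
  h.isKleinFour.card_four

theorem five_le_len_top (h : ¬ Group.IsSolvable G) (h8 : 8 ∣ Nat.card G) :
    5 ≤ len (⊤ : Subgroup G) := by
  by_contra h5
  haveI : Nontrivial G := by
    by_contra h1
    haveI := not_nontrivial_iff_subsingleton.1 h1
    exact h inferInstance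
  haveI : IsSimpleGroup G := ⟨fun N _ => by
    by_contra h1
    push Not at h1
    have h2 := len_quot N
    have h3 := one_le_len h1.1
    have h4 : 1 ≤ len (⊤ : Subgroup (G ⧸ N)) := by
      haveI : Nontrivial (G ⧸ N) := QuotientGroup.nontrivial_iff.2 h1.2
      exact one_le_len top_ne_bot
    by_cases h6 : Group.IsSolvable N
    · have := four_le_len_top (G := G ⧸ N) fun h7 => h (H1.isSolvable_of_normal_of_quotient N h6 h7)
      omega
    · have := four_le_len h6
      omega⟩
  obtain ⟨S⟩ : Nonempty (Sylow 2 G) := inferInstance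
  have hP := isSylowIn_top S
  obtain ⟨k, hk⟩ := exists_card_pow hP.isP
  have h3 : 3 ≤ len (S : Subgroup G) := le_len_of_pow_dvd Nat.prime_two
    (S.pow_dvd_card_of_pow_dvd_card (n := 3) h8)
  have hmax : ∀ K : Subgroup G, (S : Subgroup G) ≤ K → K ≠ ⊤ → K = S := fun K h1 h2 => by
    by_contra h4
    have := len_lt (lt_of_le_of_ne h1 (Ne.symm h4))
    have := len_lt_top h2
    omega
  have hk3 : k = 3 := by
    have := len_lt (syl_lt_of_not_solvable hP fun h1 => h (solv_top_iff.1 h1))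
    have := le_len_of_card hk
    have h4 := S.pow_dvd_card_of_pow_dvd_card (n := 3) h8
    rw [hk] at h4
    have := (Nat.pow_dvd_pow_iff_le_right (by norm_num)).1 h4
    omega
  have hnorm : ∀ X : Subgroup G, X ≠ ⊥ → IsPGroup 2 X → 𝐍(X) ≠ ⊤ := fun X h1 h2 e =>
    ((normalizer_eq_top_iff.1 e).eq_bot_or_eq_top).elim h1 fun e' =>
      h (solv_top_iff.1 (e' ▸ solv_of_pgroup h2))
  obtain ⟨z, hz, hz2, hzc⟩ := exists_central_inv hP.isP (NormalIn.refl _) (fun e => by
    rw [e, card_bot, hk3] at hk; omega)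
  have hzp : IsPGroup 2 (zpowers z) := .of_card (n := 1) (by rw [Nat.card_zpowers, hz2, pow_one])
  have hz1 := H9.ne_one_of_orderOf_two hz2
  have hC : 𝐂[z] = S := hmax _ hzc fun e => hnorm (zpowers z) (by simpa using hz1) hzp
    (eq_top_iff.2 (e ▸ (centralizer_zpowers z).symm.le.trans (centralizer_le_normalizer _)))
  refine h (solv_top_iff.1 (H73.zpowers_eq_top_of_isolated S hz2 hz (fun g hg => ?_) ▸ solv_of_pgroup hzp))
  by_contra hne
  have hzz : z * z = 1 := by rw [← sq, ← hz2, pow_orderOf_eq_one]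
  have hp : H29.IsPair z (g * z * g⁻¹) := ⟨hzz, hz1, H73.conj_mul_self hzz g, by simpa using hz1,
    Ne.symm hne, (mem_cent1_iff.1 (hzc hg)).symm⟩
  let V := closure ({z, g * z * g⁻¹} : Set G)
  have hV1 : V ≤ S := (closure_le _).2 (by rintro _ (rfl | rfl); exacts [hz, hg])
  have hV2 : V ≤ (S : Subgroup G) ^ᶜ g := (closure_le _).2 (by
    rintro _ (rfl | rfl)
    · rw [← hC, ← H73.centralizer_conj]; exact mem_cent1_iff.2 hp.comm
    · exact cj_mem g hz)
  have h4 : 𝐍(V) = S := hmax _ (norm_of_card hV1 (by rw [card_pair hp, hk, hk3]; rfl))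
    (hnorm V (fun e => by have := card_pair hp; rw [show Subgroup.closure _ = ⊥ from e, card_bot] at this; omega)
      (hP.isP.to_le hV1))
  have h6 : (S : Subgroup G) ^ᶜ g = S := eq_of_le_of_card_ge
    ((norm_of_card hV2 (by rw [card_pair hp, card_cj, hk, hk3]; rfl)).trans h4.le) (by rw [card_cj])
  have h7 : g ∈ (S : Subgroup G) := hmax _ le_normalizer (hnorm _ (fun e => by
    rw [e, card_bot, hk3] at hk; omega) hP.isP) ▸ cj_eq_self_iff.1 h6
  exact hne (H73.mem_centralizer_singleton_iff_conj.1 (hzc h7))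

theorem five_le_len {H : Subgroup G} (h : ¬ Group.IsSolvable H) (h8 : 8 ∣ Nat.card H) : 5 ≤ len H :=
  len_top H ▸ five_le_len_top h h8

theorem len_add_quot {N H : Subgroup G} (h : N ⊴ H) [(N.subgroupOf H).Normal] :
    len N + len (⊤ : Subgroup (H ⧸ N.subgroupOf H)) ≤ len H := by
  have := len_quot (N.subgroupOf H)
  rwa [len_subgroupOf h.1, len_top] at this

theorem len_add_four {N H : Subgroup G} (h : N ⊴ H) (hN : Group.IsSolvable N)
    (hH : ¬ Group.IsSolvable H) : len N + 4 ≤ len H := by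
  haveI := h.normal_subgroupOf
  have h1 := len_add_quot h
  have := four_le_len_top (G := H ⧸ N.subgroupOf H) fun h2 => hH (solv_ext h hN fun _ => h2)
  omega

theorem len_add_five {N H : Subgroup G} (h : N ⊴ H) (hN : Group.IsSolvable N)
    (hH : ¬ Group.IsSolvable H) (h8 : 8 ∣ N.relIndex H) : len N + 5 ≤ len H := by
  haveI := h.normal_subgroupOf
  have h1 := len_add_quot h
  have := five_le_len_top (G := H ⧸ N.subgroupOf H) (fun h2 => hH (solv_ext h hN fun _ => h2)) h8
  omega

theorem nonempty_dih_three {X : Type*} [Group X] (hc : Nat.card X = 6) (hna : ¬ ∀ a b : X, a * b = b * a) :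
    Nonempty (X ≃* DihedralGroup 3) := by
  classical
  haveI : Finite X := Nat.finite_of_card_ne_zero (by omega)
  haveI : Fact (Nat.Prime 3) := ⟨Nat.prime_three⟩
  obtain ⟨x, hx⟩ := exists_prime_orderOf_dvd_card' (G := X) 3 (by rw [hc]; norm_num)
  obtain ⟨t, ht⟩ := exists_prime_orderOf_dvd_card' (G := X) 2 (by rw [hc]; norm_num)
  have hn : (⊤ : Subgroup X) ≤ 𝐍(zpowers x) := norm_of_card le_top (by
    rw [card_top, Nat.card_zpowers, hx, hc])
  have htx : t ∉ zpowers x := fun h => by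
    have := orderOf_dvd_of_mem_zpowers h
    rw [hx, ht] at this; omega
  have htt : t * t = 1 := by rw [← sq, ← ht, pow_orderOf_eq_one]
  have htop : zpowers x ⊔ zpowers t = ⊤ := eq_top_of_card_eq _ (by
    rw [card_ext (hn (mem_top t)) htx (htt ▸ one_mem _), Nat.card_zpowers, hx, hc])
  have hconj : t * x * t⁻¹ = x⁻¹ := by
    have h1 : t * x * t⁻¹ ∈ zpowers x := (mem_normalizer_iff.1 (hn (mem_top t)) x).1 (mem_zpowers x)
    obtain ⟨i, hi, e⟩ := Finset.mem_image.1 (mem_zpowers_iff_mem_range_orderOf.1 h1)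
    rw [hx, Finset.mem_range] at hi
    interval_cases i
    · exact absurd (by simpa using e.symm : x = 1) (fun h => by rw [h, orderOf_one] at hx; omega)
    · exfalso
      have h2 := H5.isMulCommutative_sup_zpowers (A := zpowers x) inferInstance (x := t) (by
        rw [centralizer_zpowers]; exact H73.mem_centralizer_singleton_iff_conj.2 (by simpa using e.symm))
      rw [htop] at h2
      exact hna fun a b => setLike_mul_comm (s := (⊤ : Subgroup X)) (mem_top a) (mem_top b)
    · rw [← e, eq_inv_iff_mul_eq_one, ← pow_succ]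
      exact (congrArg (x ^ ·) hx).symm.trans (pow_orderOf_eq_one x)
  obtain ⟨e⟩ := (H73.DihData.mk (H := ⊤) hx htt hconj htx fun g => ⟨fun _ => by
    rcases (mem_ext (hn (mem_top t)) (htt ▸ one_mem _)).1 (htop ▸ mem_top g) with ⟨i, hi⟩ | ⟨_, ⟨i, rfl⟩, hi⟩
    exacts [⟨i, Or.inl hi.symm⟩, ⟨i, Or.inr hi⟩], fun _ => mem_top g⟩).nonempty_mulEquiv (by norm_num)
  exact ⟨topEquiv.symm.trans e⟩

end H72.Ch
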