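import Mathlib
import Cfsg.Agent.Base
import Cfsg.Agent.Lib.Chain.Non
import Cfsg.Agent.S2765

/-! A maximal Sylow `2`-subgroup of order `128` and subgroups of order `192`. -/

set_option autoImplicit false
set_option linter.style.haveILetI false
set_option linter.unusedSectionVars false

namespace H72.Ch

open Cfsg H45 H69 Subgroup

universe u

variable {G : Type u} [Group G] [Finite G]

theorem card_mul_card_le {A B H : Subgroup G} (hA : A ≤ H) (hB : B ≤ H) :
    Nat.card A * Nat.card B ≤ Nat.card H * Nat.card (A ⊓ B : Subgroup G) := by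
  have h1 := relIndex_le_of_le_right (H := B) hA (FiniteIndex.index_ne_zero (H := B.subgroupOf H))
  rw [← H3.relIndex_mul_card hB, ← H3.relIndex_mul_card (inf_le_left : A ⊓ B ≤ A), inf_relIndex_left]
  calc _ ≤ B.relIndex H * Nat.card (A ⊓ B : Subgroup G) * Nat.card B := by gcongr
    _ = _ := by ring

theorem charIn_map_inj {G' : Type u} [Group G'] {K H : Subgroup G} (h : CharIn K H) {f : G →* G'}
    (hf : Function.Injective f) : CharIn (K.map f) (H.map f) := by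
  refine charIn_iff.2 ⟨map_mono h.1, fun φ x hx => ?_⟩
  let e := H.equivMapOfInjective f hf
  obtain ⟨y, rfl⟩ := e.surjective x
  have h1 : (y : G) ∈ K := by
    obtain ⟨k, hk, h2⟩ := hx
    exact hf h2 ▸ hk
  have h2 := (charIn_iff.1 h).2 (e.trans (φ.trans e.symm)) y h1
  refine ⟨_, h2, ?_⟩
  exact congrArg Subtype.val (e.apply_symm_apply (φ (e y)))

theorem nonempty_psl_two : Nonempty (Matrix.ProjectiveSpecialLinearGroup (Fin 2) (ZMod 2) ≃* DihedralGroup 3) := by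
  have hZ : center (Matrix.SpecialLinearGroup (Fin 2) (ZMod 2)) = ⊥ := by
    rw [eq_bot_iff]
    intro g hg
    rw [mem_center_iff] at hg
    rw [mem_bot]
    revert g
    decide
  have e := QuotientGroup.quotientMulEquivOfEq hZ |>.trans QuotientGroup.quotientBot
  obtain ⟨f⟩ := nonempty_dih_three (X := Matrix.SpecialLinearGroup (Fin 2) (ZMod 2))
    (by rw [Nat.card_eq_fintype_card]; decide) (by decide)
  exact ⟨e.trans f⟩

theorem card_pCore_of_192 (hc : Nat.card G = 192) (S : Sylow 2 G) (hn : ¬ (S : Subgroup G).Normal) :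
    Nat.card S = 64 ∧ Nat.card (pCore 2 G) = 32 := by
  have h1 : Nat.card S = 64 := by
    rw [S.card_eq_multiplicity, hc, show 192 = 2 ^ 6 * 3 by norm_num,
      Nat.factorization_mul (by norm_num) (by norm_num), Nat.prime_two.factorization_pow,
      Nat.prime_three.factorization]
    simp
  have h2 : (S : Subgroup G).index = 3 := by
    have := (S : Subgroup G).card_mul_index
    rw [show Nat.card (S : Subgroup G) = 64 from h1, hc] at this; omega
  have h3 : (pCore 2 G).index ∣ 6 := by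
    rw [H1.pCore_eq_normalCore S, normalCore_eq_ker, index_ker]
    have := card_subgroup_dvd_card (MulAction.toPermHom G (G ⧸ (S : Subgroup G))).range
    rwa [Nat.card_perm, ← index_eq_card, h2] at this
  have h4 := (pCore 2 G).card_mul_index
  have h5 : Nat.card (pCore 2 G) < 64 := h1 ▸ H1.card_lt_of_lt (lt_of_le_of_ne (H1.pCore_le_sylow S)
    fun e => hn (e ▸ inferInstance))
  refine ⟨h1, ?_⟩
  have h6 := Nat.le_of_dvd (by norm_num) h3
  rw [hc] at h4
  generalize (pCore 2 G).index = i at *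
  interval_cases i <;> omega

theorem class_two_of_192 (hc : Nat.card G = 192) (S : Sylow 2 G) (hn : ¬ (S : Subgroup G).Normal)
    (hC : 𝐂(pCore 2 G) ≤ pCore 2 G) (hd : ∀ T : Subgroup (S : Subgroup G), T ≠ ⊥ → T.Characteristic →
      ¬ (T.map (S : Subgroup G).subtype).Normal) : ⁅⁅(S : Subgroup G), (S : Subgroup G)⁆, (S : Subgroup G)⁆ = ⊥ := by
  obtain ⟨h1, h2⟩ := card_pCore_of_192 hc S hn
  have h3 : (S : Subgroup G).index = 3 := by
    have := (S : Subgroup G).card_mul_index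
    rw [show Nat.card (S : Subgroup G) = 64 from h1, hc] at this; omega
  have hco : IsCoatom (S : Subgroup G) := H5.isCoatom_of_index_prime (h3 ▸ Nat.prime_three)
  obtain ⟨e⟩ := nonempty_dih_three (X := G ⧸ pCore 2 G) (by
    have := (pCore 2 G).card_mul_index
    rw [h2, hc, index_eq_card] at this; omega) fun h => hn (by
      refine ⟨fun x hx g => ?_⟩
      have h4 : g * x * g⁻¹ * x⁻¹ ∈ pCore 2 G := (QuotientGroup.eq_one_iff _).1 (by
        simp only [QuotientGroup.mk_mul, QuotientGroup.mk_inv]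
        rw [h (g : G ⧸ pCore 2 G)]; group)
      simpa using mul_mem (H1.pCore_le_sylow S h4) hx)
  obtain ⟨f⟩ := nonempty_psl_two
  rcases Cfsg.Agent.S2765.result S hC ⟨S, ⟨hco, le_rfl⟩, fun M hM => (hco.le_iff.1 hM.2).resolve_left hM.1.1⟩
    (pCore 2 G) (ZMod 2) 1 le_rfl (by simp) ⟨e.trans f.symm⟩ hd with h | h
  · exact h.1
  · exact absurd h.1 (by norm_num)

theorem no_192 {S H : Subgroup G} (hS : IsPGroup 2 S) (hc : Nat.card S = 128)
    (hmax : ∀ X : Subgroup G, X ≠ ⊥ → X ≤ S → S ≤ 𝐍(X) → 𝐍(X) ≤ S) (hH : Nat.card H = 192)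
    {P : Subgroup G} (hP : Syl 2 P H) (hPS : P ≤ S) : False := by
  haveI : Fact (Nat.Prime 3) := ⟨Nat.prime_three⟩
  obtain ⟨P', hP'⟩ := hP.exists_sylow_subgroupOf
  have hP1 : (P' : Subgroup H).map H.subtype = P := by rw [hP', map_subgroupOf_eq_of_le hP.le]
  have three : ∀ σ : G, orderOf σ = 3 → σ ∉ S := fun σ h1 h2 => by
    have := orderOf_dvd_natCard S h2
    rw [h1, hc] at this; omega
  obtain ⟨ρ, hρH, hρ⟩ : ∃ ρ ∈ H, orderOf ρ = 3 :=
    exists_orderOf_eq_of_mem_primesOf ⟨Nat.prime_three, by rw [hH]; norm_num⟩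
  have key : ∀ X : Subgroup G, X ≤ S → S ≤ 𝐍(X) → ∀ σ : G, orderOf σ = 3 → σ ∈ 𝐍(X) → X = ⊥ :=
    fun X h1 h2 σ h3 h4 => by_contra fun h5 => three σ h3 (hmax X h5 h1 h2 h4)
  have hcP : Nat.card P = 64 := by
    rw [hP.card_eq_pow_factorization, hH, show 192 = 2 ^ 6 * 3 by norm_num,
      Nat.factorization_mul (by norm_num) (by norm_num), Nat.prime_two.factorization_pow,
      Nat.prime_three.factorization]
    simp
  have hiP : P.relIndex S = 2 := relIndex_two_of_card hPS (by omega)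
  have hSP : S ≤ 𝐍(P) := norm_of_relIndex_two hPS hiP
  have hPne : P ≠ ⊥ := fun e => by rw [e, card_bot] at hcP; omega
  have hρP : ρ ∉ 𝐍(P) := fun h => hPne (key P hPS hSP ρ hρ h)
  have hn : ¬ (P' : Subgroup H).Normal := fun h => hρP (hP1 ▸ (normalIn_map_subtype h).2 hρH)
  obtain ⟨-, hU⟩ := card_pCore_of_192 hH P' hn
  set U := (pCore 2 H).map H.subtype with hUdef
  have hUH : U ⊴ H := normalIn_map_subtype inferInstance
  have hUP : U ≤ P := hP1 ▸ map_mono (H1.pCore_le_sylow P')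
  have hcU : Nat.card U = 32 := by rw [hUdef, card_map_of_injective H.subtype_injective, hU]
  have hiU : U.relIndex P = 2 := relIndex_two_of_card hUP (by omega)
  obtain ⟨y, hy, hyP⟩ := SetLike.exists_of_lt (lt_of_le_of_ne hPS fun e => by rw [e] at hcP; omega)
  have hy2 : y * y ∈ P := sq_mem_of_relIndex_two hiP hy
  have hSy : ∀ X : Subgroup G, P ≤ 𝐍(X) → y ∈ 𝐍(X) → S ≤ 𝐍(X) := fun X h1 h2 s hs => by
    by_cases h3 : s ∈ P
    · exact h1 h3
    · obtain ⟨k, hk, rfl⟩ := eq_mul_of_relIndex_two hiP hy hyP hs h3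
      exact mul_mem (h1 hk) h2
  have hPy : ∀ X : Subgroup G, P ≤ 𝐍(X) → P ≤ 𝐍(X ^ᶜ y) := fun X h => by
    rw [← cj_normalizer, ← cj_eq_of_mem_normalizer (hSP hy)]; exact cj_mono y h
  have hyy : ∀ X : Subgroup G, P ≤ 𝐍(X) → (X ^ᶜ y) ^ᶜ y = X := fun X h => by
    rw [cj_cj, cj_eq_of_mem_normalizer (h hy2)]
  have hinf : ∀ X : Subgroup G, P ≤ 𝐍(X) → S ≤ 𝐍(X ⊓ X ^ᶜ y) := fun X h =>
    hSy _ (le_normalizer_inf h (hPy X h)) (cj_eq_self_iff.1 (by rw [cj_inf, hyy X h, inf_comm]))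
  have hsup : ∀ X : Subgroup G, P ≤ 𝐍(X) → S ≤ 𝐍(X ⊔ X ^ᶜ y) := fun X h =>
    hSy _ (le_normalizer_sup h (hPy X h)) (cj_eq_self_iff.1 (by rw [cj_sup, hyy X h, sup_comm]))
  have hley : ∀ X : Subgroup G, X ≤ P → X ^ᶜ y ≤ P := fun X h => cj_le_of_mem_normalizer h (hSP hy)
  -- subgroups centralised by an element of order three
  have hcen : ∀ X : Subgroup G, X ≤ P → P ≤ 𝐍(X) → ∀ σ : G, orderOf σ = 3 → X ≤ 𝐂[σ] →
      X ⊓ X ^ᶜ y = ⊥ := fun X h1 h2 σ h3 h4 =>
    key _ (inf_le_left.trans (h1.trans hPS)) (hinf X h2) σ h3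
      (centralizer_le_normalizer _ (le_cent1_iff.1 (inf_le_left.trans h4)))
  have hPU : P ≤ 𝐍(U) := hP.le.trans hUH.2
  have hI : 16 ≤ Nat.card (U ⊓ U ^ᶜ y : Subgroup G) := by
    have := card_mul_card_le hUP (hley U hUP)
    rw [card_cj, hcU, hcP] at this; omega
  -- a subgroup of `H` containing `w` and `w ^ ρ` has order divisible by three
  have hthree : ∀ K : Subgroup G, K ≤ H → ∀ w ∈ P, w ∉ U → w ∈ K → ρ * w * ρ⁻¹ ∈ K →
      ∃ σ ∈ K, orderOf σ = 3 := fun K hK w hw hwU h1 h2 => by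
    refine exists_orderOf_eq_of_mem_primesOf ⟨Nat.prime_three, by_contra fun h3 => ?_⟩
    have h4 : IsPGroup 2 K := by
      have h5 := card_dvd_of_le hK
      rw [hH, show 192 = 2 ^ 6 * 3 by norm_num] at h5
      obtain ⟨i, -, hi⟩ := (Nat.dvd_prime_pow Nat.prime_two).1 (Nat.Coprime.dvd_of_dvd_mul_right
        ((Nat.Prime.coprime_iff_not_dvd Nat.prime_three).2 h3).symm h5)
      exact .of_card hi
    have hle : ∀ v ∈ H, ∀ Y : Subgroup G, U ≤ Y → v * w * v⁻¹ ∈ Y → P ^ᶜ v ≤ Y := fun v hv Y h5 h6 s' hs' => by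
      obtain ⟨s, hs, rfl⟩ := mem_cj'.1 hs'
      by_cases h7 : s ∈ U
      · exact h5 (hUH.conj_mem hv h7)
      · obtain ⟨k, hk, rfl⟩ := eq_mul_of_relIndex_two hiU hw hwU hs h7
        have := mul_mem (h5 (hUH.conj_mem hv hk)) h6
        rwa [conj_mul] at this
    have h5 : U ⊔ K = P := hP.max _ (by
      have := hle 1 (one_mem _) (U ⊔ K) le_sup_left (by simpa using mem_sup_right h1)
      rwa [cj_one] at this)
      (sup_le hUH.1 hK) ((hP.isP.to_le hUP).to_sup_of_normal_left' h4 (hK.trans hUH.2))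
    exact hρP (cj_eq_self_iff.1 (eq_of_le_of_card_ge (hle ρ hρH P hUP (h5 ▸ mem_sup_right h2))
      (by rw [card_cj])))
  have hCU : H ⊓ 𝐂(U) ≤ U := by
    have hN : H ⊓ 𝐂(U) ⊴ H := normalIn_inf_centralizer hUH.2
    intro g hg
    by_contra hgU
    by_cases h3 : 3 ∣ Nat.card (H ⊓ 𝐂(U) : Subgroup G)
    · obtain ⟨σ, hσ, hσ3⟩ := exists_orderOf_eq_of_mem_primesOf ⟨Nat.prime_three, h3⟩
      rw [hcen U hUP hPU σ hσ3 (le_cent1_iff.2 hσ.2), card_bot] at hI; omega
    · have h4 : IsPGroup 2 (H ⊓ 𝐂(U) : Subgroup G) := by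
        have h5 := card_dvd_of_le (inf_le_left : H ⊓ 𝐂(U) ≤ H)
        rw [hH, show 192 = 2 ^ 6 * 3 by norm_num] at h5
        obtain ⟨i, -, hi⟩ := (Nat.dvd_prime_pow Nat.prime_two).1 (Nat.Coprime.dvd_of_dvd_mul_right
          ((Nat.Prime.coprime_iff_not_dvd Nat.prime_three).2 h3).symm h5)
        exact .of_card hi
      obtain ⟨σ, hσ, hσ3⟩ := hthree _ inf_le_left g (hP.le_of_normalIn hN h4 hg) hgU hg (hN.conj_mem hρH hg)
      exact h3 (hσ3 ▸ orderOf_dvd_natCard _ hσ)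
  have hcl : ⁅⁅P, P⁆, P⁆ = ⊥ := by
    have := class_two_of_192 hH P' hn (fun g hg => by
      obtain ⟨k, hk, e⟩ := hCU (x := (g : G)) ⟨g.2, by
        rintro _ ⟨u, hu, rfl⟩
        exact congrArg Subtype.val (hg u hu)⟩
      exact (Subtype.ext e : k = g) ▸ hk) fun T hT hch hTn => by
        have h1 : CharIn ((T.map (P' : Subgroup H).subtype).map H.subtype) P := by
          rw [← hP1]; exact charIn_map_inj (charIn_map_subtype hch) H.subtype_injective
        refine hT ?_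
        have := key _ (h1.1.trans hPS) (h1.norm_trans hSP) ρ hρ ((normalIn_map_subtype hTn).2 hρH)
        rwa [map_eq_bot_iff_of_injective _ H.subtype_injective,
          map_eq_bot_iff_of_injective _ (Subgroup.subtype_injective _)] at this
    rw [← hP1, ← Subgroup.map_commutator, ← Subgroup.map_commutator, this, Subgroup.map_bot]
  -- `H` centralises `U / Z(U)`
  let Z := U ⊓ 𝐂(U)
  have hZH : Z ⊴ H := hUH.inf_centralizer hUH.2
  have hUPZ : ⁅U, P⁆ ≤ Z := le_inf (commutator_le_left_of_le_normalizer hPU)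
    ((commutator_mono hUP le_rfl).trans ((commutator_eq_bot_iff_le_centralizer.1 hcl).trans (centralizer_anti hUP)))
  obtain ⟨w₀, hw₀, hw₀U⟩ := SetLike.exists_of_lt (lt_of_le_of_ne hUP fun e => by rw [e] at hcU; omega)
  let K₀ : Subgroup G := H ⊓ ⟨⟨⟨{g | ∀ u ∈ U, g * u * g⁻¹ * u⁻¹ ∈ Z} ∩ H, by
      rintro a b ⟨ha, ha'⟩ ⟨hb, hb'⟩
      refine ⟨fun u hu => ?_, mul_mem ha' hb'⟩
      have := mul_mem (hZH.conj_mem ha' (hb u hu)) (ha u hu)
      convert this using 1; group⟩, ⟨fun u _ => by simp, one_mem _⟩⟩, by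
      rintro a ⟨ha, ha'⟩
      refine ⟨fun u hu => ?_, inv_mem ha'⟩
      have := inv_mem (hZH.conj_mem (inv_mem ha') (ha u hu))
      convert this using 1; group⟩
  have hPK : ∀ v ∈ H, ∀ w ∈ P, v * w * v⁻¹ ∈ K₀ := fun v hv w hw =>
    have h1 := mul_mem (mul_mem hv (hP.le hw)) (inv_mem hv)
    ⟨h1, fun u hu => by
      have h2 := commutator_mem_commutator (hUH.conj_mem (inv_mem hv) hu) hw
      have := inv_mem (hZH.conj_mem hv (hUPZ h2))
      convert this using 1; rw [commutatorElement_def]; group, h1⟩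
  obtain ⟨σ, hσ, hσ3⟩ := hthree K₀ inf_le_left w₀ hw₀ hw₀U (by simpa using hPK 1 (one_mem _) w₀ hw₀)
    (hPK ρ hρH w₀ hw₀)
  have hσH : σ ∈ H := hσ.1
  let M := ⁅U, zpowers σ⁆
  have hMZ : M ≤ Z := commutator_le.2 fun u hu g hg => by
    have := inv_mem (((zpowers_le.2 hσ) hg).2.1 u hu)
    convert this using 1; rw [commutatorElement_def]; group
  let D := U ⊓ 𝐂(zpowers σ)
  have hσU : zpowers σ ≤ 𝐍(U) := zpowers_le.2 (hUH.2 hσH)
  have hcop : (Nat.card (zpowers σ)).Coprime (Nat.card U) := by rw [Nat.card_zpowers, hσ3, hcU]; norm_num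
  have hUD : U ≤ 𝐍(D) := by
    rw [← H2.commutator_sup_centralizer hσU hcop (Or.inl inferInstance)]
    exact sup_le (cents_norm (hMZ.trans (inf_le_right.trans (centralizer_anti inf_le_left)))) le_normalizer
  have hUM : U ≤ 𝐍(M) := cents_norm (centsC.1 (hMZ.trans inf_le_right))
  have hconj : ∀ τ ∈ H, orderOf τ = 3 → ∃ u ∈ U, zpowers σ ^ᶜ u = zpowers τ := fun τ hτ hτ3 => by
    have h1 : MulEq U (zpowers σ) (U ⊔ zpowers σ) := mulEq_of_norm hσU
    have h2 : Nat.card (U ⊔ zpowers σ : Subgroup G) = 96 := by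
      rw [h1.card_of_inf_eq_bot (coprime_TIg hcop.symm), Nat.card_zpowers, hσ3, hcU]
    have h3 : U ⊔ zpowers σ ≤ H := sup_le hUH.1 (zpowers_le.2 hσH)
    have h4 : τ ∈ U ⊔ zpowers σ := H41.mem_of_relIndex_two (relIndex_two_of_card h3 (by omega)) hτ
      (by rw [hτ3]; decide)
    have h5 : ∀ a ∈ U ⊔ zpowers σ, orderOf a = 3 → Syl 3 (zpowers a) (U ⊔ zpowers σ) := fun a ha ha3 =>
      isSylowIn_of_not_dvd_relIndex (.of_card (n := 1) (by rw [Nat.card_zpowers, ha3, pow_one]))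
        (zpowers_le.2 ha) (by
          have := H3.relIndex_mul_card (zpowers_le.2 ha)
          rw [h2, Nat.card_zpowers, ha3] at this; omega)
    obtain ⟨g, hg, e⟩ := (h5 σ (mem_sup_right (mem_zpowers σ)) hσ3).conj (h5 τ h4 hτ3)
    obtain ⟨u, hu, b, hb, rfl⟩ := h1.exists_mul hg
    exact ⟨u, hu, by rw [← e, ← cj_cj, cj_eq_of_mem hb]⟩
  have hHcj : ∀ h ∈ H, ∃ u ∈ U, zpowers σ ^ᶜ u = zpowers σ ^ᶜ h := fun h hh => by
    rw [cj_zpowers σ h]
    exact hconj _ (mul_mem (mul_mem hh hσH) (inv_mem hh)) (by rw [← hσ3]; exact (MulAut.conj h).orderOf_eq σ)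
  have hHD : H ≤ 𝐍(D) := fun h hh => by
    obtain ⟨u, hu, e⟩ := hHcj h hh
    refine cj_eq_self_iff.1 ?_
    conv_rhs => rw [← cj_eq_of_mem_normalizer (hUD hu)]
    rw [cj_inf, cj_inf, cj_centralizer, cj_centralizer, e, hUH.cj_eq hh, cj_eq_of_mem hu]
  have hHM : H ≤ 𝐍(M) := fun h hh => by
    obtain ⟨u, hu, e⟩ := hHcj h hh
    refine cj_eq_self_iff.1 ?_
    conv_rhs => rw [← cj_eq_of_mem_normalizer (hUM hu)]
    rw [cj_commutator, cj_commutator, e, hUH.cj_eq hh, cj_eq_of_mem hu]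
  have hDP : D ≤ P := inf_le_left.trans hUP
  have hDD := hcen D hDP (hP.le.trans hHD) σ hσ3 (inf_le_right.trans (centralizer_zpowers σ).le)
  have hMU : M ≤ U := hMZ.trans inf_le_left
  have hMy : ¬ M ^ᶜ y ≤ U := fun h => by
    have h1 := key _ (sup_le (hMU.trans (hUP.trans hPS)) (h.trans (hUP.trans hPS)))
      (hsup M (hP.le.trans hHM)) σ hσ3 (zpowers_le.1 (le_normalizer_of_commutator_le_right (by
        rw [commutator_comm]
        exact (commutator_mono (sup_le hMU h) le_rfl).trans le_sup_left)))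
    have h2 : U ≤ 𝐂[σ] := by
      rw [← centralizer_zpowers]
      exact commutator_eq_bot_iff_le_centralizer.1 (le_bot_iff.1 (le_sup_left.trans h1.le))
    rw [hcen U hUP hPU σ hσ3 h2, card_bot] at hI; omega
  obtain ⟨w, hw, hwU⟩ := SetLike.not_le_iff_exists.1 hMy
  have hwP : w ∈ P := hley M (hMU.trans hUP) hw
  have hwc : w ∈ 𝐂(U ^ᶜ y) := by rw [← cj_centralizer]; exact cj_mono y (hMZ.trans inf_le_right) hw
  let I := U ⊓ U ^ᶜ y
  have hIρ : I ^ᶜ ρ ≤ U := cj_le_of_mem_normalizer inf_le_left (hUH.2 hρH)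
  have hJ : 8 ≤ Nat.card (I ⊓ I ^ᶜ ρ : Subgroup G) := by
    have := card_mul_card_le (A := I) inf_le_left hIρ
    rw [card_cj, hcU] at this
    have h2 : 16 * 16 ≤ Nat.card I * Nat.card I := Nat.mul_le_mul hI hI
    omega
  obtain ⟨τ, hτ, hτ3⟩ := hthree (H ⊓ 𝐂(I ⊓ I ^ᶜ ρ)) inf_le_left w hwP hwU
    ⟨hP.le hwP, centralizer_anti (inf_le_left.trans inf_le_right) hwc⟩
    ⟨H.mul_mem (H.mul_mem hρH (hP.le hwP)) (H.inv_mem hρH), centralizer_anti inf_le_right (by
      rw [← cj_centralizer]; exact cj_mem ρ (centralizer_anti inf_le_right hwc))⟩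
  obtain ⟨u, hu, e⟩ := hconj τ hτ.1 hτ3
  have hJD : I ⊓ I ^ᶜ ρ ≤ D := by
    rw [← cj_eq_of_mem_normalizer (hUD hu), cj_inf U 𝐂(zpowers σ), cj_centralizer, e, cj_eq_of_mem hu]
    exact le_inf (inf_le_right.trans hIρ) (centsC.1 (zpowers_le.2 hτ.2))
  have hD8 : 8 ≤ Nat.card D := hJ.trans (card_le_of_le hJD)
  have hPD : MulEq D (D ^ᶜ y) P := mulEq_of_inf_eq_bot_of_card hDP (hley D hDP) hDD (by
    rw [card_cj, hcP]; exact Nat.mul_le_mul hD8 hD8)
  have hcomm : D ≤ 𝐂(D ^ᶜ y) := NormalIn.le_centralizer_of_inf_eq_bot ⟨hDP, hP.le.trans hHD⟩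
    ⟨hley D hDP, hPy D (hP.le.trans hHD)⟩ hDD
  obtain ⟨a, ha, b, hb, rfl⟩ := hPD.exists_mul hwP
  have hb1 : b ∈ 𝐂(D ^ᶜ y) := (mul_mem_cancel_left (hcomm ha)).1
    (centralizer_anti (cj_mono y inf_le_left) hwc)
  have hb2 : b ∈ 𝐂(P) := by
    rw [← hPD.sup_eq, ← le_cent1_iff]
    exact sup_le (le_cent1_iff.2 (centsC.1 hcomm hb)) (le_cent1_iff.2 hb1)
  exact hwU (mul_mem ha.1 (hCU ⟨hP.le (hley D hDP hb), centralizer_anti hUP hb2⟩))

end H72.Ch
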