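import Mathlib
import Cfsg.Agent.Base
import Cfsg.Agent.Lib.Chain.Push
import Cfsg.Agent.Lib.Char.BurnsidePQ

/-! The standing hypothesis on simple groups with short chains. -/

set_option autoImplicit false
set_option linter.style.haveILetI false
set_option linter.unusedSectionVars false

namespace H72.Ch

open Cfsg H45 H69 Subgroup

universe u

/-- A non-abelian simple group of length at most `7`, or of length `8` and order divisible by `128`. -/
structure Hyp (G : Type u) [Group G] [Finite G] : Prop where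
  simple : IsSimpleGroup G
  nab : ¬ IsMulCommutative G
  bound : len (⊤ : Subgroup G) ≤ 7 ∨ (len (⊤ : Subgroup G) ≤ 8 ∧ 128 ∣ Nat.card G)

variable {G : Type u} [Group G] [Finite G]

theorem not_solvable_of_simple [IsSimpleGroup G] (h : ¬ IsMulCommutative G) : ¬ Group.IsSolvable G :=
  fun h1 => h ⟨⟨IsSimpleGroup.comm_iff_isSolvable.2 h1⟩⟩

theorem perfect_of_simple [IsSimpleGroup G] (h : ¬ IsMulCommutative G) : commutator G = ⊤ :=
  (inferInstance : (commutator G).Normal).eq_bot_or_eq_top.resolve_left fun e =>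
    h ((commutator_eq_bot_iff G).1 e)

theorem norm_ne_top_of_simple [IsSimpleGroup G] (h : ¬ IsMulCommutative G) {X : Subgroup G} (h1 : X ≠ ⊥)
    (h2 : Group.IsSolvable X) : 𝐍(X) ≠ ⊤ := fun e =>
  ((normalizer_eq_top_iff.1 e).eq_bot_or_eq_top).elim h1 fun e' =>
    not_solvable_of_simple h (solv_top_iff.1 (e' ▸ h2))

theorem cent_ne_top_of_simple [IsSimpleGroup G] (h : ¬ IsMulCommutative G) {x : G} (h1 : x ≠ 1) :
    𝐂[x] ≠ ⊤ := fun e => norm_ne_top_of_simple h (X := zpowers x) (by simpa using h1) inferInstance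
      (eq_top_iff.2 (e ▸ (centralizer_zpowers x).symm.le.trans (centralizer_le_normalizer _)))

theorem four_dvd_of_not_solvable {H : Subgroup G} (h : ¬ Group.IsSolvable H) : 4 ∣ Nat.card H := by
  obtain ⟨P, hP⟩ := Sylow_exists 2 H
  obtain ⟨k, hk⟩ := exists_card_pow hP.isP
  refine Dvd.dvd.trans ?_ (card_dvd_of_le hP.le)
  by_contra h1
  refine h (solv_of_burnside hP (inf_le_right.trans (norm_le_cent_of_card_le_two ?_)))
  rw [hk] at h1 ⊢
  rcases k with _ | _ | k
  · norm_num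
  · norm_num
  · exact absurd ⟨2 ^ k, by ring⟩ h1

theorem simple_of_len_le_four (h : ¬ Group.IsSolvable G) (h4 : len (⊤ : Subgroup G) ≤ 4) :
    IsSimpleGroup G := by
  haveI : Nontrivial G := by
    by_contra h1
    haveI := not_nontrivial_iff_subsingleton.1 h1
    exact h inferInstance
  refine ⟨fun N _ => ?_⟩
  by_contra h1
  push Not at h1
  have h2 := len_quot N
  have h3 := one_le_len h1.1
  have h4 : 1 ≤ len (⊤ : Subgroup (G ⧸ N)) := by
    haveI : Nontrivial (G ⧸ N) := QuotientGroup.nontrivial_iff.2 h1.2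
    exact one_le_len top_ne_bot
  by_cases h6 : Group.IsSolvable N
  · have := four_le_len_top (G := G ⧸ N) fun h7 => h (H1.isSolvable_of_normal_of_quotient N h6 h7)
    omega
  · have := four_le_len h6
    omega

theorem solv_subgroupOf {K : Subgroup G} (hK : Group.IsSolvable K) (H : Subgroup G) :
    Group.IsSolvable (K.subgroupOf H) := by
  rw [← inf_subgroupOf_right]
  haveI := solvableS hK (inf_le_left : K ⊓ H ≤ K)
  exact Group.isSolvable_of_isSolvable_injective
    (f := (subgroupOfEquivOfLe (inf_le_right : K ⊓ H ≤ H)).toMonoidHom)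
    (subgroupOfEquivOfLe inf_le_right).injective

theorem solv_of_index_le_four {K : Subgroup G} (hK : Group.IsSolvable K) (hi : K.index ≤ 4) :
    Group.IsSolvable G := by
  refine H1.isSolvable_of_normal_of_quotient K.normalCore (solvableS hK K.normalCore_le) ?_
  by_contra h
  have h1 : K.normalCore.index ∣ 24 := by
    rw [normalCore_eq_ker, index_ker]
    have := card_subgroup_dvd_card (MulAction.toPermHom G (G ⧸ K)).range
    rw [Nat.card_perm, ← index_eq_card] at this
    exact this.trans (Nat.factorial_dvd_factorial hi)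
  exact h (H8.isSolvable_of_card_dvd (a := 3) (b := 1) Nat.prime_two Nat.prime_three h1)

open ArithmeticFunction in
theorem index_ne_seven (h : ¬ Group.IsSolvable G) (h4 : len (⊤ : Subgroup G) ≤ 4) {K : Subgroup G}
    (hi : K.index = 7) : False := by
  haveI := simple_of_len_le_four h h4
  haveI : Fact (Nat.Prime 7) := ⟨by norm_num⟩
  have hK : K ≠ ⊤ := fun e => by rw [e, index_top] at hi; omega
  have h1 := len_lt_top hK
  have hs : Group.IsSolvable K := by_contra fun h2 => by have := four_le_len h2; omega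
  have h2 : Nat.card G ∣ 5040 := by
    have h3 : K.normalCore = ⊥ := (inferInstance : K.normalCore.Normal).eq_bot_or_eq_top.resolve_right
      fun e => hK (eq_top_iff.2 (e ▸ K.normalCore_le))
    rw [← index_bot, ← h3, normalCore_eq_ker, index_ker]
    have := card_subgroup_dvd_card (MulAction.toPermHom G (G ⧸ K)).range
    rwa [Nat.card_perm, ← index_eq_card, hi] at this
  have h3 := four_dvd_of_not_solvable (H := ⊤) fun h3 => h (solv_top_iff.1 h3)
  have h5 : ¬ 8 ∣ Nat.card G := fun h5 => by have := five_le_len_top h h5; omega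
  have h6 := K.card_mul_index
  rw [card_top, ← h6, hi] at h3
  obtain ⟨c, hc⟩ : 4 ∣ Nat.card K := (by norm_num : Nat.Coprime 4 7).dvd_of_dvd_mul_right h3
  have h7 := omega_le_len_of_solvable hs
  have hc0 : c ≠ 0 := by rintro rfl; exact Nat.card_pos.ne' hc
  rw [hc, cardFactors_mul (by norm_num) hc0, show (4 : ℕ) = 2 ^ 2 from rfl,
    cardFactors_apply_prime_pow Nat.prime_two] at h7
  rw [hc, hi] at h6
  have h8 : c ∣ 180 := Nat.dvd_of_mul_dvd_mul_left (k := 28) (by norm_num) (by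
    rw [show 28 * c = Nat.card G by omega]; exact h2)
  have h9 : c = 1 ∨ c = 3 ∨ c = 5 := by
    by_cases hc1 : c = 1
    · exact Or.inl hc1
    have h10 : c.Prime := cardFactors_eq_one_iff_prime.1 (by
      have : cardFactors c ≠ 0 := fun e => (cardFactors_eq_zero_iff_eq_zero_or_one.1 e).elim hc0 hc1
      omega)
    rw [show 180 = 2 * 2 * 3 * 3 * 5 from rfl] at h8
    simp only [h10.dvd_mul, (Nat.prime_dvd_prime_iff_eq h10 Nat.prime_two),
      (Nat.prime_dvd_prime_iff_eq h10 Nat.prime_three), (Nat.prime_dvd_prime_iff_eq h10 Nat.prime_five)] at h8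
    omega
  obtain ⟨P⟩ : Nonempty (Sylow 7 G) := inferInstance
  have h11 : Nat.card P = 7 := by
    obtain ⟨k, hk⟩ := IsPGroup.iff_card.1 P.2
    have h12 := P.pow_dvd_card_of_pow_dvd_card (n := 1) (Dvd.intro_left _ h6)
    have h13 := card_subgroup_dvd_card (P : Subgroup G)
    rw [hk] at h12 h13
    rcases k with _ | _ | k
    · norm_num at h12
    · exact hk
    · have := (Dvd.intro (7 ^ k) (by ring) : 49 ∣ 7 ^ (k + 1 + 1)).trans h13
      omega
  have h12 : Nat.card (Sylow 7 G) = 1 := by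
    have h13 := card_sylow_modEq_one 7 G
    have h14 := P.card_dvd_index
    have h15 := (P : Subgroup G).card_mul_index
    rw [show Nat.card (P : Subgroup G) = 7 from h11] at h15
    have h16 : (P : Subgroup G).index = 4 * c := by omega
    rw [h16] at h14
    have h17 := Nat.le_of_dvd (by omega) h14
    unfold Nat.ModEq at h13
    generalize Nat.card (Sylow 7 G) = n at *
    rcases h9 with rfl | rfl | rfl <;> interval_cases n <;> omega
  haveI := (Nat.card_eq_one_iff_unique.1 h12).1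
  rcases P.normal_of_subsingleton.eq_bot_or_eq_top with e | e
  · rw [show Nat.card P = Nat.card (P : Subgroup G) from rfl, e, card_bot] at h11; omega
  · rw [show Nat.card P = Nat.card (P : Subgroup G) from rfl, e, card_top] at h11; omega

/-- The index of a centraliser counts conjugates. -/
theorem relIndex_cent_eq (H : Subgroup G) (x : G) :
    𝐂[x].relIndex H = {y | ∃ g ∈ H, g * x * g⁻¹ = y}.ncard := by
  letI : MulAction H G := MulAction.compHom G ((MulAut.conj : G →* MulAut G).comp H.subtype)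
  have h1 : 𝐂[x].subgroupOf H = MulAction.stabilizer H x := by
    ext g
    rw [mem_subgroupOf, H73.mem_centralizer_singleton_iff_conj]; rfl
  rw [relIndex, h1, MulAction.index_stabilizer]
  congr 1
  ext y
  exact ⟨fun ⟨g, hg⟩ => ⟨g, g.2, hg⟩, fun ⟨g, hg, e⟩ => ⟨⟨g, hg⟩, e⟩⟩

theorem card_eq_mul_ncard (H : Subgroup G) (x : G) :
    Nat.card H = {y | ∃ g ∈ H, g * x * g⁻¹ = y}.ncard * Nat.card (H ⊓ 𝐂[x] : Subgroup G) := by
  rw [← relIndex_cent_eq, ← H3.relIndex_mul_card (inf_le_left : H ⊓ 𝐂[x] ≤ H), inf_relIndex_left]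

namespace Hyp

theorem perfect (h : Hyp G) : commutator G = ⊤ := haveI := h.simple; perfect_of_simple h.nab

theorem norm_ne (h : Hyp G) {X : Subgroup G} (h1 : X ≠ ⊥) (h2 : IsPGroup 2 X) : 𝐍(X) ≠ ⊤ :=
  haveI := h.simple; norm_ne_top_of_simple h.nab h1 (solv_of_pgroup h2)

theorem cent_ne (h : Hyp G) {x : G} (h1 : x ≠ 1) : 𝐂[x] ≠ ⊤ :=
  haveI := h.simple; cent_ne_top_of_simple h.nab h1

theorem len_le (h : Hyp G) {H : Subgroup G} (hH : H ≠ ⊤) : len H ≤ 7 := by
  have := len_lt_top hH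
  rcases h.bound with h1 | h1 <;> omega

theorem ne_top_of_normalIn (h : Hyp G) {E H : Subgroup G} (hE : E ⊴ H) (h1 : E ≠ ⊥) (h2 : IsPGroup 2 E) :
    H ≠ ⊤ := fun e => h.norm_ne h1 h2 (eq_top_iff.2 (e ▸ hE.2))

theorem card_syl (h : Hyp G) (h7 : 7 < len (⊤ : Subgroup G)) {S : Subgroup G} (hS : Syl 2 S ⊤) :
    Nat.card S = 128 := by
  obtain ⟨k, hk⟩ := exists_card_pow hS.isP
  haveI := h.simple
  have h1 := h.len_le (syl_lt_of_not_solvable hS fun h1 => not_solvable_of_simple h.nab (solv_top_iff.1 h1)).ne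
  have h2 := le_len_of_card hk
  obtain ⟨P, rfl⟩ := hS.exists_sylow_top
  have h3 := P.pow_dvd_card_of_pow_dvd_card (n := 7) (h.bound.resolve_left (by omega)).2
  rw [hk] at h3 ⊢
  have := (Nat.pow_dvd_pow_iff_le_right (by norm_num)).1 h3
  rw [show k = 7 by omega]; norm_num

theorem eq_syl (h : Hyp G) (h7 : 7 < len (⊤ : Subgroup G)) {S K : Subgroup G} (hS : Syl 2 S ⊤)
    (h1 : S ≤ K) (h2 : K ≠ ⊤) : K = S := by
  by_contra h3
  have := len_lt (lt_of_le_of_ne h1 (Ne.symm h3))
  have := h.len_le h2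
  have := le_len_of_card (n := 7) (h.card_syl h7 hS)
  omega

open ArithmeticFunction in
theorem no192 (h : Hyp G) {E H : Subgroup G} (hE : E ⊴ H) (h2 : IsPGroup 2 E) (h8 : 8 ∣ Nat.card E)
    (hH : 192 ∣ Nat.card H) : False := by
  have hne := h.ne_top_of_normalIn hE (fun e => by rw [e, card_bot] at h8; omega) h2
  have h1 := h.len_le hne
  have hs : Group.IsSolvable H := by
    by_contra hs
    obtain ⟨k, hk⟩ := exists_card_pow h2
    have h3 := le_len_of_card hk
    have h4 := len_add_four hE (solv_of_pgroup h2) hs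
    have h5 : 3 ≤ k := (Nat.pow_dvd_pow_iff_le_right (by norm_num)).1 (hk ▸ h8 : 2 ^ 3 ∣ 2 ^ k)
    have h6 := len_add_five hE (solv_of_pgroup h2) hs (by
      have := H3.relIndex_mul_card hE.1
      rw [hk, show k = 3 by omega] at this
      omega)
    omega
  obtain ⟨c, hc⟩ := hH
  have hc0 : c ≠ 0 := by rintro rfl; exact Nat.card_pos.ne' hc
  have h3 := omega_le_len_of_solvable hs
  have h192 : cardFactors 192 = 7 := by
    rw [show 192 = 2 ^ 6 * 3 from rfl, cardFactors_mul (by norm_num) (by norm_num),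
      cardFactors_apply_prime_pow Nat.prime_two, cardFactors_apply_prime Nat.prime_three]
  rw [hc, cardFactors_mul (by norm_num) hc0, h192] at h3
  obtain rfl : c = 1 := (cardFactors_eq_zero_iff_eq_zero_or_one.1 (by omega)).resolve_left hc0
  have h7 : 7 < len (⊤ : Subgroup G) := by have := len_lt_top hne; omega
  obtain ⟨P, hP⟩ := Sylow_exists 2 H
  obtain ⟨S, hS, hPS⟩ := Sylow_superset (le_top : P ≤ ⊤) hP.isP
  exact no_192 hS.isP (h.card_syl h7 hS) (fun X h4 h5 h6 =>
    (h.eq_syl h7 hS h6 (h.norm_ne h4 (hS.isP.to_le h5))).le) hc hP hPS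

/-- Convenient form: a `2`-subgroup of order at least `64` and an element of order divisible by three. -/
theorem no192' (h : Hyp G) {E P : Subgroup G} (h2 : IsPGroup 2 E) (h8 : 8 ∣ Nat.card E)
    (hP : P ≤ 𝐍(E)) (hc : 64 ∣ Nat.card P) {ρ : G} (hρ : ρ ∈ 𝐍(E)) (h3 : 3 ∣ orderOf ρ) : False :=
  h.no192 (normalIn_normalizer E) h2 h8 (Nat.Coprime.mul_dvd_of_dvd_of_dvd (by norm_num : Nat.Coprime 64 3)
    (hc.trans (card_dvd_of_le hP)) (h3.trans (orderOf_dvd_natCard _ hρ)))

theorem twoLocal_solvable (h : Hyp G) (hc : ∀ t : G, orderOf t = 2 → Group.IsSolvable 𝐂[t])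
    {N : Subgroup G} (hN : IsTwoLocal N) : Group.IsSolvable N := by
  obtain ⟨T, hT, hT1, rfl⟩ := hN
  by_contra hs
  let W : Subgroup G := ⟨⟨⟨{g | g ∈ T ⊓ 𝐂(T) ∧ g * g = 1}, by
    rintro a b ⟨ha, ha2⟩ ⟨hb, hb2⟩
    refine ⟨mul_mem ha hb, ?_⟩
    have : b * a = a * b := ha.2 b hb.1
    calc a * b * (a * b) = a * (b * a) * b := by group
      _ = (a * a) * (b * b) := by rw [this]; group
      _ = 1 := by rw [ha2, hb2, one_mul]⟩, ⟨one_mem _, one_mul 1⟩⟩, by
    rintro a ⟨ha, ha2⟩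
    exact ⟨inv_mem ha, by rw [← mul_inv_rev, ha2, inv_one]⟩⟩
  have hZ : T ⊓ 𝐂(T) ⊴ 𝐍(T) := (normalIn_normalizer T).inf_centralizer le_rfl
  have hW : W ⊴ 𝐍(T) := normalIn_iff_conj_mem.2 ⟨fun g hg => hZ.1 hg.1, fun g hg x hx =>
    ⟨hZ.conj_mem hg hx.1, H73.conj_mul_self hx.2 g⟩⟩
  have hWp : IsPGroup 2 W := hT.to_le fun g hg => hg.1.1
  obtain ⟨w, hwT, hw2, hwc⟩ := exists_central_inv hT (NormalIn.refl T) hT1
  have hw : w ∈ W := ⟨⟨hwT, le_cent1_iff.1 hwc⟩, by rw [← sq, ← hw2, pow_orderOf_eq_one]⟩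
  have h1 := h.len_le (h.norm_ne hT1 hT)
  obtain ⟨k, hk⟩ := exists_card_pow hWp
  have h2 := le_len_of_card hk
  have h3 := len_add_four hW (solv_of_pgroup hWp) hs
  have hidx : ∀ v ∈ W, v ≠ 1 → 5 ≤ 𝐂[v].relIndex 𝐍(T) := fun v hv hv1 => by
    by_contra h4
    refine hs (solv_of_index_le_four (K := 𝐂[v].subgroupOf 𝐍(T)) ?_ (by unfold relIndex at h4; omega))
    exact solv_subgroupOf (hc v (H9.orderOf_eq_two_of_mul_self hv1 hv.2)) _
  let O : G → Set G := fun v => {y | ∃ g ∈ 𝐍(T), g * v * g⁻¹ = y}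
  have hO : ∀ v ∈ W, v ≠ 1 → O v ⊆ (W : Set G) \ {1} := by
    rintro v hv hv1 _ ⟨g, hg, rfl⟩
    exact ⟨hW.conj_mem hg hv, by simpa using hv1⟩
  have hWc : ((W : Set G) \ {1}).ncard = 2 ^ k - 1 := by
    rw [Set.ncard_diff_singleton_of_mem W.one_mem, ← hk]; rfl
  have hw1 := H9.ne_one_of_orderOf_two hw2
  have h4 := hidx w hw hw1
  rw [relIndex_cent_eq] at h4
  have h5 := Set.ncard_le_ncard (hO w hw hw1) (Set.toFinite _)
  obtain rfl : k = 3 := by
    have : k = 0 ∨ k = 1 ∨ k = 2 ∨ k = 3 := by omega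
    change 5 ≤ (O w).ncard at h4
    rw [hWc] at h5
    rcases this with rfl | rfl | rfl | rfl <;> omega
  have h6 : (O w).ncard = 7 := by
    by_contra h6
    obtain ⟨v, hv, hvO⟩ := Set.exists_of_ssubset ((hO w hw hw1).ssubset_of_ne fun e => h6 (by rw [e, hWc]; rfl))
    have h7 := hidx v hv.1 hv.2
    rw [relIndex_cent_eq] at h7
    have h8 : Disjoint (O w) (O v) := Set.disjoint_left.2 (by
      rintro _ ⟨g, hg, rfl⟩ ⟨g', hg', e⟩
      exact hvO ⟨g'⁻¹ * g, mul_mem (inv_mem hg') hg, by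
        rw [mul_inv_rev, inv_inv, mul_assoc g'⁻¹, mul_assoc g'⁻¹, ← mul_assoc (g * w), ← e]; group⟩)
    have h9 := Set.ncard_le_ncard (Set.union_subset (hO w hw hw1) (hO v hv.1 hv.2)) (Set.toFinite _)
    rw [Set.ncard_union_eq h8, hWc] at h9
    change 5 ≤ (O w).ncard at h4
    change 5 ≤ (O v).ncard at h7
    omega
  haveI := hW.normal_subgroupOf
  have h7 := len_add_quot hW
  refine index_ne_seven (G := 𝐍(T) ⧸ W.subgroupOf 𝐍(T)) (fun h8 => hs (solv_ext hW (solv_of_pgroup hWp)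
    fun _ => h8)) (by omega) (K := (𝐂[w].subgroupOf 𝐍(T)).map (QuotientGroup.mk' _)) ?_
  rw [index_map_eq _ (QuotientGroup.mk'_surjective _) (by
    rw [QuotientGroup.ker_mk']
    exact fun g hg => mem_cent1_iff.2 (hg.1.2 w hwT).symm), ← h6, ← relIndex_cent_eq]
  rfl

end Hyp

end H72.Ch
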