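import Mathlib
import Cfsg.Agent.Base
import Cfsg.Agent.Lib.Chain.Push

/-! An involution `t` with Sylow centraliser `⟨t⟩ × D`, `D` dihedral, whose classes are swapped. -/

set_option autoImplicit false
set_option linter.style.haveILetI false
set_option linter.unusedSectionVars false

namespace H72.Ch

open Cfsg H45 H69 Subgroup H73

universe u

variable {G : Type u} [Group G] [Finite G]

/-- The reflections `a ^ i * b` with `i ≡ e` modulo two. -/
def Cls (a b : G) (e : ℤ) (g : G) : Prop := ∃ i : ℤ, g = a ^ (2 * i + e) * b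

section Dih

variable {D : Subgroup G} {j : ℕ} {a b : G}

theorem half_sq (h : orderOf a = 2 ^ (j + 1)) : a ^ 2 ^ j * a ^ 2 ^ j = 1 := by
  rw [← pow_add, ← two_mul, ← pow_succ', ← h, pow_orderOf_eq_one]

theorem half_ne (h : orderOf a = 2 ^ (j + 1)) : a ^ 2 ^ j ≠ 1 :=
  pow_ne_one_of_lt_orderOf (by positivity) (h ▸ Nat.pow_lt_pow_right (by norm_num) (by omega))

theorem eq_half (h : orderOf a = 2 ^ (j + 1)) {d : G} (hd : d ∈ zpowers a) (h1 : d ≠ 1) (h2 : d * d = 1) :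
    d = a ^ 2 ^ j := by
  by_contra h3
  exact H5.not_isCyclic_of_two_invol (pow_mem (mem_zpowers a) _) hd (half_ne h) h1 h3 (half_sq h) h2
    inferInstance

theorem zpow_ne_of_parity (h : orderOf a = 2 ^ (j + 1)) (i k : ℤ) : a ^ (2 * i + 1) ≠ a ^ (2 * k) := by
  intro e
  have h1 := zpow_eq_zpow_iff_modEq.1 e
  have h2 : (2 : ℤ) ∣ (orderOf a : ℤ) := by rw [h]; push_cast; exact Dvd.intro_left _ (pow_succ 2 j).symm
  have := h1.of_dvd h2
  unfold Int.ModEq at this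
  omega

theorem Cls.not_both (h : orderOf a = 2 ^ (j + 1)) {g : G} {e : ℤ} (h1 : Cls a b e g) (h2 : Cls a b (e + 1) g) :
    False := by
  obtain ⟨i, rfl⟩ := h1
  obtain ⟨k, hk⟩ := h2
  have h3 := mul_right_cancel hk
  refine zpow_ne_of_parity h k i ?_
  rw [zpow_add, ← add_assoc, add_right_comm, zpow_add] at h3
  exact (mul_right_cancel h3).symm

theorem Cls.add_two {g : G} {e : ℤ} (h : Cls a b (e + 2) g) : Cls a b e g := by
  obtain ⟨i, rfl⟩ := h
  exact ⟨i + 1, by congr 2; ring⟩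

theorem exists_cls {m : ℕ} (h : DihData D m a b) {g : G} (hg : g ∈ D) (hg' : g ∉ zpowers a) :
    Cls a b 0 g ∨ Cls a b 1 g := by
  obtain ⟨i, rfl | rfl⟩ := (h.mem g).1 hg
  · exact absurd (zpow_mem (mem_zpowers a) i) hg'
  · obtain ⟨k, rfl | rfl⟩ := Int.even_or_odd' i
    · exact Or.inl ⟨k, by simp⟩
    · exact Or.inr ⟨k, rfl⟩

theorem Cls.mem {m : ℕ} (h : DihData D m a b) {g : G} {e : ℤ} (hg : Cls a b e g) : g ∈ D ∧ g ∉ zpowers a := by
  obtain ⟨i, rfl⟩ := hg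
  exact ⟨(h.mem _).2 ⟨_, Or.inr rfl⟩, h.refl_notMem _⟩

theorem Cls.conj {m : ℕ} (h : DihData D m a b) {g k : G} {e : ℤ} (hg : Cls a b e g) (hk : k ∈ D) :
    Cls a b e (k * g * k⁻¹) := by
  obtain ⟨i, rfl⟩ := hg
  have h1 : ∀ l : ℤ, b * a ^ l = a ^ (-l) * b := fun l => by rw [zpow_neg, ← h.conj_zpow]; group
  obtain ⟨l, rfl | rfl⟩ := (h.mem k).1 hk
  · refine ⟨i + l, ?_⟩
    rw [← zpow_neg, mul_assoc, mul_assoc, h1, neg_neg, ← mul_assoc, ← mul_assoc, ← zpow_add, ← zpow_add]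
    congr 2; ring
  · refine ⟨l - i - e, ?_⟩
    calc a ^ l * b * (a ^ (2 * i + e) * b) * (a ^ l * b)⁻¹
        = a ^ l * (b * a ^ (2 * i + e)) * a ^ (-l) := by group
      _ = a ^ l * a ^ (-(2 * i + e)) * (b * a ^ (-l)) := by rw [h1]; group
      _ = _ := by rw [h1, ← mul_assoc, ← zpow_add, ← zpow_add]; congr 2; ring

theorem Cls.exists_conj {m : ℕ} (h : DihData D m a b) {g g' : G} {e : ℤ} (hg : Cls a b e g) (hg' : Cls a b e g') :
    ∃ k ∈ D, k * g * k⁻¹ = g' := by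
  obtain ⟨i, rfl⟩ := hg
  obtain ⟨l, rfl⟩ := hg'
  have h1 : ∀ l : ℤ, b * a ^ l = a ^ (-l) * b := fun l => by rw [zpow_neg, ← h.conj_zpow]; group
  refine ⟨a ^ (l - i), (h.mem _).2 ⟨_, Or.inl rfl⟩, ?_⟩
  rw [← zpow_neg, mul_assoc, mul_assoc, h1, neg_neg, ← mul_assoc, ← mul_assoc, ← zpow_add, ← zpow_add]
  congr 2; ring

theorem Cls.mul_half (h : orderOf a = 2 ^ (j + 2)) {g : G} {e : ℤ} (hg : Cls a b e g) :
    Cls a b e (a ^ 2 ^ (j + 1) * g) := by
  obtain ⟨i, rfl⟩ := hg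
  refine ⟨i + 2 ^ j, ?_⟩
  rw [← mul_assoc, ← zpow_natCast, ← zpow_add]
  congr 2; push_cast; ring

theorem conj_a (h : DihData D (2 ^ (j + 2)) a b) {x : G} (hx : x ∈ 𝐍(D)) :
    ∃ m : ℤ, x * a * x⁻¹ = a ^ (2 * m + 1) := by
  have h1 : x * a * x⁻¹ ∈ D := (mem_normalizer_iff.1 hx a).1 h.a_mem
  have h2 : orderOf (x * a * x⁻¹) = 2 ^ (j + 2) := h.ord ▸ (MulAut.conj x).orderOf_eq a
  have h3 : x * a * x⁻¹ ∈ zpowers a := by
    by_contra h3
    have := h.orderOf_of_notMem h1 h3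
    rw [h2] at this
    exact not_pow_dvd_two j (this.dvd)
  obtain ⟨i, hi⟩ := h3
  obtain ⟨m, rfl | rfl⟩ := Int.even_or_odd' i
  · exfalso
    have h4 : (x * a * x⁻¹) ^ 2 ^ (j + 1) = 1 := by
      rw [← hi]
      change (a ^ (2 * m)) ^ 2 ^ (j + 1) = 1
      rw [← zpow_natCast, ← zpow_mul, show 2 * m * ((2 ^ (j + 1) : ℕ) : ℤ) = ((2 ^ (j + 2) : ℕ) : ℤ) * m by
        push_cast; ring, zpow_mul, zpow_natCast, ← h.ord, pow_orderOf_eq_one, one_zpow]
    exact half_ne h2 h4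
  · exact ⟨m, hi.symm⟩

theorem Cls.conj_of_norm (h : DihData D (2 ^ (j + 2)) a b) {x g : G} (hx : x ∈ 𝐍(D)) {e f : ℤ}
    (hb : Cls a b f (x * b * x⁻¹)) (hg : Cls a b e g) : Cls a b (e + f) (x * g * x⁻¹) := by
  obtain ⟨m, hm⟩ := conj_a h hx
  obtain ⟨i, rfl⟩ := hg
  obtain ⟨k, hk⟩ := hb
  refine ⟨m * (2 * i + e) + i + k, ?_⟩
  rw [← conj_mul, ← conj_zpow, hm, hk, ← zpow_mul, ← mul_assoc, ← zpow_add]
  congr 2; ring

theorem mem_zpowers_odd (h : orderOf a = 2 ^ (j + 1)) (k : ℤ) : a ∈ zpowers (a ^ (2 * k + 1)) :=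
  mem_zpowers_zpow_iff.2 (by
    rw [h]; push_cast
    exact Int.isCoprime_iff_gcd_eq_one.1 (IsCoprime.pow_right ⟨1, -k, by ring⟩))

theorem inverts_of_swap (h : DihData D (2 ^ (j + 2)) a b) {s : G} (hs : s * s = 1)
    (hb : Cls a b 1 (s * b * s⁻¹)) : ∀ g ∈ zpowers a, s * g * s⁻¹ = g⁻¹ := by
  obtain ⟨k, hk⟩ := hb
  have h1 : s * a ^ (2 * k + 1) * s⁻¹ = (a ^ (2 * k + 1))⁻¹ := by
    have h2 : s * (s * b * s⁻¹) * s⁻¹ = b := by
      calc s * (s * b * s⁻¹) * s⁻¹ = (s * s) * b * (s * s)⁻¹ := by group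
        _ = b := by rw [hs]; group
    rw [hk, ← conj_mul, hk, ← mul_assoc] at h2
    exact eq_inv_of_mul_eq_one_left (mul_eq_right.1 h2)
  intro g hg
  obtain ⟨i, rfl⟩ := zpowers_le.2 (mem_zpowers_odd (j := j + 1) h.ord k) hg
  exact H9.conj_zpow_of_inverts h1 i

end Dih

theorem swap_lemma (hG : commutator G = ⊤) {S D : Subgroup G} (hS : Syl 2 S ⊤) {t a b x : G} {j : ℕ}
    (ht : t * t = 1) (htS : t ∈ S) (hD : DihData D (2 ^ (j + 2)) a b)
    (hT : ∀ g, g ∈ S ⊓ 𝐂[t] ↔ g ∈ D ∨ ∃ d ∈ D, g = d * t) (hno : ∀ g : G, g * t * g⁻¹ ∉ D)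
    (hxS : x ∈ S) (hxN : x ∈ 𝐍(S ⊓ 𝐂[t])) (hxT : x ∉ S ⊓ 𝐂[t]) (hxD : x ∈ 𝐍(D))
    (hx : Cls a b 1 (x * b * x⁻¹)) : False := by
  set T := S ⊓ 𝐂[t] with hTdef
  have htD : t ∉ D := by simpa using hno 1
  have hDT : D ≤ T := fun g hg => (hT g).2 (Or.inl hg)
  have htT : t ∈ T := ⟨htS, self_mem_cent1 t⟩
  have hct : ∀ g ∈ T, g * t * g⁻¹ = t := fun g hg => mem_centralizer_singleton_iff_conj.1 hg.2
  have htN : t ∈ 𝐍(D) := centralizer_le_normalizer _ (le_cent1_iff.1 (hDT.trans inf_le_right))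
  have hT' : T = D ⊔ zpowers t := by
    ext g; rw [hT, mem_ext htN (ht ▸ one_mem _)]
  have hTD : T ≤ 𝐍(D) := hT' ▸ sup_le le_normalizer (zpowers_le.2 htN)
  have hcT : Nat.card T = 2 * Nat.card D := hT' ▸ card_ext htN htD (ht ▸ one_mem _)
  have hcD := hD.card
  have h4 : 4 ≤ 2 ^ (j + 2) := by rw [pow_add]; have := Nat.one_le_two_pow (n := j); omega
  set r := a ^ 2 ^ (j + 1) with hr
  have F1 : ∀ y ∈ S, y ∈ 𝐍(T) → y ∉ T → y * t * y⁻¹ = r * t := fun y hy hyN hyT => by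
    have h1 : y * t * y⁻¹ ∈ T := (mem_normalizer_iff.1 hyN t).1 htT
    obtain ⟨d, hd, e⟩ := ((hT _).1 h1).resolve_left (hno y)
    have h2 : Commute (y * t * y⁻¹) a := by
      have := hct _ ((mem_normalizer_iff.1 (inv_mem hyN) a).1 (hDT hD.a_mem))
      change _ * a = a * _
      conv_lhs => rw [← this]
      group
    have h3 : Commute t a := (commute_of_conj_eq (hct a (hDT hD.a_mem))).symm
    have h5 : Commute d a := by
      have := (e ▸ h2 : Commute (d * t) a).mul_left h3.inv_left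
      rwa [mul_inv_cancel_right] at this
    have h6 : Commute d t := commute_of_conj_eq (hct d (hDT hd))
    rw [e, eq_half (j := j + 1) hD.ord (hD.mem_zpowers_of_commute (not_pow_dvd_two j) hd h5) (by
      rintro rfl
      exact hyT ⟨hy, mem_centralizer_singleton_iff_conj.2 (by simpa using e)⟩) (by
      have := conj_mul_self ht y
      rwa [e, mul_assoc, ← mul_assoc t, ← h6.eq, mul_assoc, ht, mul_one] at this)]
  have F2 : ∀ y ∈ S, y ∈ 𝐍(T) → y ∉ T → ∃ k ∈ T, y = k * x := fun y hy hyN hyT =>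
    ⟨y * x⁻¹, ⟨S.mul_mem hy (S.inv_mem hxS), mem_centralizer_singleton_iff_conj.2 (by
      have h1 := F1 x⁻¹ (inv_mem hxS) (inv_mem hxN) (by simpa using hxT)
      have h2 := F1 y⁻¹ (inv_mem hy) (inv_mem hyN) (by simpa using hyT)
      calc y * x⁻¹ * t * (y * x⁻¹)⁻¹ = y * (x⁻¹ * t * x⁻¹⁻¹) * y⁻¹ := by group
        _ = t := by rw [h1, ← h2]; group)⟩, by group⟩
  have hx2 : x * x ∈ T := by
    obtain ⟨k, hk, e⟩ := F2 x⁻¹ (inv_mem hxS) (inv_mem hxN) (by simpa using hxT)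
    have : x * x = k⁻¹ := by rw [eq_inv_iff_mul_eq_one, ← mul_inv_eq_iff_eq_mul.2 e]; group
    exact this ▸ inv_mem hk
  set T₁ := T ⊔ zpowers x with hT₁
  have hmem₁ : ∀ g, g ∈ T₁ ↔ g ∈ T ∨ ∃ k ∈ T, g = k * x := fun g => mem_ext hxN hx2
  have hT₁S : T₁ ≤ S := sup_le inf_le_left (zpowers_le.2 hxS)
  have hT₁N : T₁ ≤ 𝐍(T) := sup_le le_normalizer (zpowers_le.2 hxN)
  have hT₁D : T₁ ≤ 𝐍(D) := sup_le hTD (zpowers_le.2 hxD)
  have hc₁ : Nat.card T₁ = 2 * Nat.card T := card_ext hxN hxT hx2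
  have hTcls : ∀ k ∈ T, ∀ e g, Cls a b e g → Cls a b e (k * g * k⁻¹) := fun k hk e g hg => by
    rcases (hT k).1 hk with h1 | ⟨d, hd, rfl⟩
    · exact hg.conj hD h1
    · have h1 : Commute t g := (commute_of_conj_eq (hct g (hDT (hg.mem hD).1))).symm
      have := hg.conj hD hd
      rwa [show d * t * g * (d * t)⁻¹ = d * (t * g * t⁻¹) * d⁻¹ by group, conj_eq_of_commute h1]
  have F3 : ∀ u ∈ T₁, u ∉ T → ∀ e g, Cls a b e g → Cls a b (e + 1) (u * g * u⁻¹) := fun u hu huT e g hg => by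
    obtain ⟨k, hk, rfl⟩ := ((hmem₁ u).1 hu).resolve_left huT
    have := hTcls k hk _ _ (Cls.conj_of_norm hD hxD hx hg)
    rwa [show k * x * g * (k * x)⁻¹ = k * (x * g * x⁻¹) * k⁻¹ by group]
  have hb0 : Cls a b 0 b := ⟨0, by simp⟩
  have F4 : T₁ = S := by
    by_contra hne
    obtain ⟨y, hy, hyN, hyT, -⟩ := exists_step hS.isP (lt_of_le_of_ne hT₁S hne)
    have hs : y * t * y⁻¹ ∈ T₁ := (mem_normalizer_iff.1 hyN t).1 (mem_sup_left htT)
    have hTy : T ^ᶜ y = S ⊓ 𝐂[y * t * y⁻¹] := by rw [cj_inf, cj_eq_of_mem hy, centralizer_conj]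
    have hTy₁ : T ^ᶜ y ≤ T₁ := cj_le_of_mem_normalizer le_sup_left hyN
    have hne2 : T ^ᶜ y ≠ T := fun e => hyT ((hmem₁ y).2 (by
      by_cases h1 : y ∈ T
      · exact Or.inl h1
      · exact Or.inr (F2 y hy (cj_eq_self_iff.1 e) h1)))
    by_cases hsT : y * t * y⁻¹ ∈ T
    · obtain ⟨d, hd, e⟩ := ((hT _).1 hsT).resolve_left (hno y)
      have h6 : Commute d t := commute_of_conj_eq (hct d (hDT hd))
      refine hne2 (eq_of_le_of_card_ge (fun u hu => ?_) (by rw [card_cj]))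
      by_contra huT
      have h1 := mem_centralizer_singleton_iff_conj.1 (hTy ▸ hu : u ∈ S ⊓ 𝐂[y * t * y⁻¹]).2
      rw [e, ← conj_mul, F1 u (hT₁S (hTy₁ hu)) (hT₁N (hTy₁ hu)) huT, ← mul_assoc] at h1
      have h2 := mul_right_cancel h1
      by_cases h3 : d ∈ zpowers a
      · have hdd : d * d = 1 := by
          have := conj_mul_self ht y
          rwa [e, mul_assoc, ← mul_assoc t, ← h6.eq, mul_assoc, ht, mul_one] at this
        obtain ⟨m, hm⟩ := conj_a hD (hT₁D (hTy₁ hu))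
        have h5 : u * d * u⁻¹ = d := by
          by_cases h7 : d = 1
          · simp [h7]
          · rw [eq_half (j := j + 1) hD.ord h3 h7 hdd]
            refine eq_half (j := j + 1) hD.ord ?_ (by simpa using half_ne (j := j + 1) hD.ord)
              (conj_mul_self (half_sq (j := j + 1) hD.ord) u)
            rw [← conj_pow, hm]
            exact pow_mem (zpow_mem (mem_zpowers a) _) _
        rw [h5] at h2
        exact half_ne (j := j + 1) hD.ord (mul_eq_left.1 h2)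
      · have h5 : ∀ e, Cls a b e d → False := fun e he => by
          have h7 := F3 u (hTy₁ hu) huT e d he
          have h8 : Commute (u * d * u⁻¹) r := by
            have h9 := hD.inverts_of_notMem (h7.mem hD).1 (h7.mem hD).2
            refine commute_of_conj_eq ?_
            rw [hr, ← conj_pow, h9, inv_pow, inv_eq_of_mul_eq_one_right (half_sq (j := j + 1) hD.ord)]
          have h9 := h7.mul_half hD.ord
          rw [← hr, ← h8.eq, h2] at h9
          exact he.not_both (j := j + 1) hD.ord h9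
        exact (exists_cls hD hd h3).elim (h5 _) (h5 _)
    · have hinv := inverts_of_swap hD (conj_mul_self ht y) (by simpa using F3 _ hs hsT 0 b hb0)
      have h1 := card_mul_card_le hTy₁ (le_sup_left : T ≤ T₁)
      have h2 := card_mul_card_le (inf_le_right : T ^ᶜ y ⊓ T ≤ T) hDT
      have h3 : T ^ᶜ y ⊓ T ⊓ D ≤ zpowers r := fun g hg => by
        have h5 := mem_centralizer_singleton_iff_conj.1 (mem_cent1_comm.1 (hTy ▸ hg.1.1 : g ∈ S ⊓ 𝐂[_]).2)
        have h6 : g ∈ zpowers a := by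
          by_contra h6
          have h7 : ∀ e, Cls a b e g → False := fun e he =>
            he.not_both (j := j + 1) hD.ord (h5 ▸ F3 _ hs hsT e g he)
          exact (exists_cls hD hg.2 h6).elim (h7 _) (h7 _)
        by_cases h7 : g = 1
        · exact h7 ▸ one_mem _
        · rw [hinv g h6] at h5
          rw [eq_half (j := j + 1) hD.ord h6 h7 (by nth_rewrite 1 [← h5]; group)]
          exact mem_zpowers _
      have h5 := card_le_of_le h3
      rw [Nat.card_zpowers, H9.orderOf_eq_two_of_mul_self (half_ne (j := j + 1) hD.ord)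
        (half_sq (j := j + 1) hD.ord)] at h5
      rw [card_cj, hc₁, mul_assoc, mul_left_comm] at h1
      rw [hcT, mul_comm, mul_assoc, mul_left_comm] at h2
      have h6 := Nat.le_of_mul_le_mul_left h1 Nat.card_pos
      have h7 := Nat.le_of_mul_le_mul_left h2 Nat.card_pos
      omega
  have hSD : D ⊴ S := ⟨hDT.trans inf_le_left, F4 ▸ hT₁D⟩
  have hiT : T.relIndex S = 2 := relIndex_two_of_card inf_le_left (F4 ▸ hc₁)
  have hST : S ≤ 𝐍(T) := F4 ▸ hT₁N
  by_cases hsq : ∃ u ∈ S, u ∉ T ∧ u * u ∉ D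
  · obtain ⟨u, hu, huT, hu2⟩ := hsq
    obtain ⟨d, hd, e⟩ := ((hT _).1 (sq_mem_of_relIndex_two hiT hu)).resolve_left hu2
    have h1 : T ≤ D ⊔ zpowers u := hT' ▸ sup_le le_sup_left (zpowers_le.2 (by
      have := mul_mem (mem_sup_left (T := zpowers u) (inv_mem hd))
        (mem_sup_right (mul_mem (mem_zpowers u) (mem_zpowers u)))
      rwa [e, inv_mul_cancel_left] at this))
    refine transfer_cyclic hG hS hSD hu (fun g hg => ?_) ht htS hno
    by_cases h2 : g ∈ T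
    · exact h1 h2
    · obtain ⟨k, hk, rfl⟩ := eq_mul_of_relIndex_two hiT hu huT hg h2
      exact mul_mem (h1 hk) (mem_sup_right (mem_zpowers u))
  push Not at hsq
  obtain ⟨u, hu, huT, hnoinv⟩ : ∃ u ∈ S, u ∉ T ∧ ∀ d ∈ D, (d * u) * (d * u) ≠ 1 := by
    by_cases h1 : ∃ s ∈ S, s ∉ T ∧ s * s = 1
    · obtain ⟨s, hs, hsT, hss⟩ := h1
      refine ⟨s * t, mul_mem hs htS, fun h => hsT ((mul_mem_cancel_right htT).1 h), fun d hd e => ?_⟩
      have h2 : d * s ∉ T := fun h => hsT ((mul_mem_cancel_left (hDT hd)).1 h)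
      have h3 := F1 (d * s)⁻¹ (inv_mem (mul_mem (hSD.1 hd) hs)) (hST (inv_mem (mul_mem (hSD.1 hd) hs)))
        (by rwa [inv_mem_iff])
      have h5 : d * (s * d * s⁻¹) * r = 1 := by
        calc d * (s * d * s⁻¹) * r = d * (s * d * s⁻¹) * (s * s) * (r * t) * t := by
              rw [hss, mul_one, mul_assoc _ (r * t), mul_assoc r, ht, mul_one]
          _ = 1 := by rw [← h3, ← e]; group
      by_cases h6 : d ∈ zpowers a
      · rw [inverts_of_swap hD hss (by simpa using F3 s (F4 ▸ hs) hsT 0 b hb0) d h6, mul_inv_cancel,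
          one_mul] at h5
        exact half_ne (j := j + 1) hD.ord h5
      · have h7 : ∀ e, Cls a b e d → False := fun e he => by
          have h8 := (F3 s (F4 ▸ hs) hsT e d he)
          have h9 : s * d * s⁻¹ = r * d := by
            have h10 := hD.inverts_of_notMem hd h6
            have h11 : d * r * d⁻¹ = r := by
              rw [hr, ← conj_pow, h10, inv_pow, inv_eq_of_mul_eq_one_right (half_sq (j := j + 1) hD.ord)]
            have h12 : d * d = 1 := by rw [← sq, ← hD.orderOf_of_notMem hd h6, pow_orderOf_eq_one]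
            have h13 : r * r = 1 := half_sq (j := j + 1) hD.ord
            calc s * d * s⁻¹ = d⁻¹ * (d * (s * d * s⁻¹) * r) * r⁻¹ := by group
              _ = d * r := by rw [h5, inv_eq_of_mul_eq_one_right h12, inv_eq_of_mul_eq_one_right h13, mul_one]
              _ = r * d := by nth_rewrite 2 [← h11]; group
          exact he.not_both (j := j + 1) hD.ord (e := e) |> fun f => (he.mul_half hD.ord).not_both
            (j := j + 1) hD.ord (h9 ▸ h8)
        exact (exists_cls hD hd h6).elim (h7 _) (h7 _)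
    · push Not at h1
      exact ⟨x, hxS, hxT, fun d hd => h1 _ (mul_mem (hSD.1 hd) hxS)
        fun h => hxT ((mul_mem_cancel_left (hDT hd)).1 h)⟩
  have hcM := card_ext (hSD.2 hu) (fun h => huT (hDT h)) (hsq u hu huT)
  have hMS : D ⊔ zpowers u ≤ S := sup_le hSD.1 (zpowers_le.2 hu)
  have hiM := relIndex_two_of_card hMS (by rw [← F4, hc₁, hcT, hcM])
  have hno' : ∀ g : G, g * t * g⁻¹ ∉ D ⊔ zpowers u := fun g hg => by
    rcases (mem_ext (hSD.2 hu) (hsq u hu huT)).1 hg with h1 | ⟨d, hd, e⟩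
    · exact hno g h1
    · exact hnoinv d hd (e ▸ conj_mul_self ht g)
  refine transfer_cyclic hG hS ⟨hMS, norm_of_relIndex_two hMS hiM⟩ htS (fun g hg => ?_) ht htS hno'
  by_cases h2 : g ∈ D ⊔ zpowers u
  · exact mem_sup_left h2
  · obtain ⟨k, hk, rfl⟩ := eq_mul_of_relIndex_two hiM htS (by simpa using hno' 1) hg h2
    exact mul_mem (mem_sup_left hk) (mem_sup_right (mem_zpowers t))

end H72.Ch
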