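import Mathlib
import Cfsg.Agent.Base
import Cfsg.Agent.Lib.Chain.Swap
import Cfsg.Agent.Lib.Chain.Hyp

/-! Fusion in a perfect subgroup whose Sylow 2-subgroup is dihedral or elementary of order 4, 8. -/

set_option autoImplicit false
set_option linter.style.haveILetI false
set_option linter.unusedSectionVars false

namespace H72.Ch

open Cfsg H45 H69 Subgroup H73 H29

universe u

variable {G : Type u} [Group G] [Finite G]

theorem perfect_coe {L : Subgroup G} (hL : ⁅L, L⁆ = L) : commutator L = ⊤ := by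
  apply map_injective L.subtype_injective
  rw [H45.map_subtype_commutator, hL, ← MonoidHom.range_eq_map, range_subtype]

theorem transfer_in {L R D : Subgroup G} (hL : ⁅L, L⁆ = L) (hR : Syl 2 R L) (hD : D ⊴ R) {x : G}
    (hx : x ∈ R) (hgen : R ≤ D ⊔ zpowers x) {t : G} (ht : t * t = 1) (htR : t ∈ R) :
    ∃ g ∈ L, g * t * g⁻¹ ∈ D := by
  by_contra h
  push Not at h
  have hDL := hD.1.trans hR.le
  refine transfer_cyclic (perfect_coe hL) hR.subgroupOf_top (D := D.subgroupOf L)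
    ⟨comap_mono hD.1, le_normalizer_iff.2 fun g hg k hk => ?_⟩ (x := ⟨x, hR.le hx⟩) hx ?_
    (t := ⟨t, hR.le htR⟩) (Subtype.ext ht) htR fun g => h g g.2
  · exact H69.conj_mem_of_mem_normalizer (A := D) (hD.2 hg) hk
  · intro g hg
    obtain ⟨d, hd, y, ⟨i, rfl⟩, e⟩ := (mem_sup_of_le_normalizer_left
      (zpowers_le.2 (hD.2 hx))).1 (hgen hg)
    have : g = ⟨d, hDL hd⟩ * (⟨x, hR.le hx⟩ : L) ^ i := Subtype.ext e
    rw [this]
    exact mul_mem (mem_sup_left hd) (mem_sup_right (zpow_mem (mem_zpowers _) i))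

/-- Elementary abelian of order four or eight. -/
def Elem (R : Subgroup G) : Prop := (Nat.card R = 4 ∨ Nat.card R = 8) ∧ ∀ r ∈ R, r * r = 1

theorem comm_of_sq {R : Subgroup G} (h : ∀ r ∈ R, r * r = 1) {x y : G} (hx : x ∈ R) (hy : y ∈ R) :
    x * y = y * x := by
  have h1 := h _ (R.mul_mem hx hy)
  rw [mul_eq_one_iff_eq_inv, mul_inv_rev, inv_eq_of_mul_eq_one_left (h x hx),
    inv_eq_of_mul_eq_one_left (h y hy)] at h1
  exact h1

theorem ab_of_sq {R : Subgroup G} (h : ∀ r ∈ R, r * r = 1) : R ≤ 𝐂(R) :=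
  fun _ hx => mem_centralizer_iff.2 fun _ hy => comm_of_sq h hy hx

theorem odd_orbit {P H : Subgroup G} (hP : Syl 2 P H) {x : G} (hx : P ≤ 𝐂[x]) :
    Odd {y | ∃ g ∈ H, g * x * g⁻¹ = y}.ncard := by
  rw [← relIndex_cent_eq, ← inf_relIndex_right]
  have := hP.not_dvd_relIndex_of_le (K := 𝐂[x] ⊓ H) (le_inf hx hP.le) inf_le_right
  exact Nat.odd_iff.2 (by omega)

theorem ncard_sharp (R : Subgroup G) : ((R : Set G) \ {1}).ncard = Nat.card R - 1 := by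
  rw [Set.ncard_diff_singleton_of_mem R.one_mem]; rfl

theorem elem_trans {L R : Subgroup G} (hL : ⁅L, L⁆ = L) (hR : Syl 2 R L) (hE : Elem R) {r r' : G}
    (hr : r ∈ R) (h1 : r ≠ 1) (hr' : r' ∈ R) (h1' : r' ≠ 1) : ∃ g ∈ L ⊓ 𝐍(R), g * r * g⁻¹ = r' := by
  have hab := ab_of_sq hE.2
  let O : G → Set G := fun x => {y | ∃ g ∈ L ⊓ 𝐍(R), g * x * g⁻¹ = y}
  have hsub : ∀ x ∈ (R : Set G) \ {1}, O x ⊆ (R : Set G) \ {1} := by
    rintro x hx _ ⟨g, hg, rfl⟩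
    exact ⟨conj_mem_of_mem_normalizer hg.2 hx.1, by simpa using hx.2⟩
  have hself : ∀ x, x ∈ O x := fun x => ⟨1, one_mem _, by simp⟩
  have hodd : ∀ x ∈ (R : Set G) \ {1}, Odd (O x).ncard := fun x hx =>
    odd_orbit (hR.mono (le_inf hR.le le_normalizer) inf_le_left) (hab.trans (cent_le_cent1 hx.1))
  have h3 : ∀ x ∈ (R : Set G) \ {1}, 3 ≤ (O x).ncard := fun x hx => by
    have h2 : (O x).ncard ≠ 1 := fun e => by
      obtain ⟨y, hy⟩ := Set.ncard_eq_one.1 e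
      refine hx.2 (eq_one_of_abelian_syl hL hR hab hx.1 fun g hg =>
        H73.mem_centralizer_singleton_iff_conj.2 ?_)
      have e1 : g * x * g⁻¹ ∈ O x := ⟨g, hg, rfl⟩
      have e2 := hself x
      rw [hy] at e1 e2
      exact e1.trans e2.symm
    obtain ⟨k, hk⟩ := hodd x hx
    omega
  have hdis : ∀ x y, y ∉ O x → Disjoint (O x) (O y) := fun x y hy => by
    rw [Set.disjoint_left]
    rintro _ ⟨g, hg, rfl⟩ ⟨k, hk, e⟩
    exact hy ⟨k⁻¹ * g, mul_mem (inv_mem hk) hg, by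
      rw [show k⁻¹ * g * x * (k⁻¹ * g)⁻¹ = k⁻¹ * (g * x * g⁻¹) * k by group, ← e]; group⟩
  by_contra hn
  have hn' : r' ∉ O r := hn
  have hU : ((R : Set G) \ {1}).ncard ≤ 7 := by rw [ncard_sharp]; rcases hE.1 with e | e <;> omega
  have hUo : Odd ((R : Set G) \ {1}).ncard := by
    rw [ncard_sharp]; rcases hE.1 with e | e <;> rw [e] <;> decide
  have hc := Set.ncard_union_eq (hdis r r' hn')
  have hsub2 := Set.union_subset (hsub r ⟨hr, h1⟩) (hsub r' ⟨hr', h1'⟩)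
  have hne : O r ∪ O r' ≠ (R : Set G) \ {1} := fun e => by
    rw [← e, hc] at hUo
    exact Nat.not_odd_iff_even.2 ((hodd r ⟨hr, h1⟩).add_odd (hodd r' ⟨hr', h1'⟩)) hUo
  obtain ⟨w, hw, hw'⟩ := Set.exists_of_ssubset (hsub2.ssubset_of_ne hne)
  have hd : Disjoint (O r ∪ O r') (O w) :=
    Set.disjoint_union_left.2 ⟨hdis _ _ fun e => hw' (Or.inl e), hdis _ _ fun e => hw' (Or.inr e)⟩
  have h4 := Set.ncard_le_ncard (Set.union_subset hsub2 (hsub w hw))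
  rw [Set.ncard_union_eq hd, hc] at h4
  have := h3 r ⟨hr, h1⟩
  have := h3 r' ⟨hr', h1'⟩
  have := h3 w hw
  omega

/-- `ρ` permutes the involutions `u, v, u v` cyclically. -/
def Tri (ρ u v : G) : Prop := ρ * u * ρ⁻¹ = v ∧ ρ * v * ρ⁻¹ = u * v

theorem Tri.third {ρ u v : G} (hp : IsPair u v) (h : Tri ρ u v) : ρ * (u * v) * ρ⁻¹ = u := by
  rw [← conj_mul, h.1, h.2, hp.comm, ← mul_assoc, hp.sq₂, one_mul]

theorem Tri.three_dvd {ρ u v : G} (hp : IsPair u v) (h : Tri ρ u v) : 3 ∣ orderOf ρ := by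
  have h3 : ∀ n : ℕ, ρ ^ (3 * n) * u * (ρ ^ (3 * n))⁻¹ = u := fun n => by
    induction n with
    | zero => simp
    | succ n ih =>
      rw [show ρ ^ (3 * (n + 1)) * u * (ρ ^ (3 * (n + 1)))⁻¹ =
        ρ * (ρ * (ρ * (ρ ^ (3 * n) * u * (ρ ^ (3 * n))⁻¹) * ρ⁻¹) * ρ⁻¹) * ρ⁻¹ by group, ih, h.1, h.2,
        h.third hp]
  by_contra hn
  have h1 := h3 (orderOf ρ / 3)
  have h0 := pow_orderOf_eq_one ρ
  rw [← Nat.mod_add_div (orderOf ρ) 3, pow_add, mul_eq_one_iff_inv_eq] at h0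
  rw [← h0, inv_inv] at h1
  have h2 : ρ ^ (orderOf ρ % 3) * u * (ρ ^ (orderOf ρ % 3))⁻¹ = u := by
    conv_lhs => rw [← h1]
    group
  rcases (by omega : orderOf ρ % 3 = 1 ∨ orderOf ρ % 3 = 2) with e | e <;> rw [e] at h2
  · rw [pow_one, h.1] at h2
    exact hp.ne h2.symm
  · rw [show ρ ^ 2 * u * (ρ ^ 2)⁻¹ = ρ * (ρ * u * ρ⁻¹) * ρ⁻¹ by rw [pow_two]; group, h.1, h.2] at h2
    exact hp.ne₂ (by simpa using h2)

theorem Tri.mem_norm {ρ u v : G} (hp : IsPair u v) (h : Tri ρ u v) : ρ ∈ 𝐍(closure ({u, v} : Set G)) :=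
  mem_normalizer_of_cj_le fun x hx => by
    obtain ⟨y, hy, rfl⟩ := mem_cj'.1 hx
    rw [hp.mem_closure] at hy ⊢
    rcases hy with rfl | rfl | rfl | rfl
    · simp
    · simp [h.1]
    · simp [h.2]
    · simp [h.third hp]

theorem Tri.of_cent {ρ k u v : G} (h : Tri ρ u v) (hu : k * u = u * k) (hv : k * v = v * k) :
    Tri (k * ρ) u v := by
  constructor
  · rw [show k * ρ * u * (k * ρ)⁻¹ = k * (ρ * u * ρ⁻¹) * k⁻¹ by group, h.1, hv, mul_inv_cancel_right]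
  · rw [show k * ρ * v * (k * ρ)⁻¹ = k * (ρ * v * ρ⁻¹) * k⁻¹ by group, h.2, ← conj_mul, hu, hv,
      mul_inv_cancel_right, mul_inv_cancel_right]

/-- A nontrivial element of the four-group is moved by `ρ`. -/
theorem Tri.eq_one {ρ u v w : G} (hp : IsPair u v) (h : Tri ρ u v) (hw : w ∈ closure ({u, v} : Set G))
    (e : ρ * w * ρ⁻¹ = w) : w = 1 := by
  rcases hp.mem_closure.1 hw with rfl | rfl | rfl | rfl
  · rfl
  · exact absurd (e.symm.trans h.1) hp.ne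
  · exact absurd (by simpa using e.symm.trans h.2) hp.ne₁
  · exact absurd (by simpa using e.symm.trans (h.third hp)) hp.ne₂

theorem elem_tri {L R : Subgroup G} (hL : ⁅L, L⁆ = L) (hR : Syl 2 R L) (h4 : Nat.card R = 4)
    (hE : ∀ r ∈ R, r * r = 1) : ∃ u v, IsPair u v ∧ closure ({u, v} : Set G) = R ∧ ∃ ρ ∈ L, Tri ρ u v := by
  have hK : IsKleinFour R := ⟨h4, by
    haveI : Nontrivial R := Finite.one_lt_card_iff_nontrivial.1 (by omega)
    exact Monoid.exponent_eq_prime_iff Nat.prime_two |>.2 fun g hg =>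
      orderOf_eq_prime (Subtype.ext (by simpa [pow_two] using hE g g.2)) hg⟩
  obtain ⟨u, v, hp, hV⟩ := exists_isPair hK
  have hm : ∀ x, x ∈ R ↔ x = 1 ∨ x = u ∨ x = v ∨ x = u * v := fun x => by rw [← hV, hp.mem_closure]
  have hu : u ∈ R := by simp [hm]
  have hv : v ∈ R := by simp [hm]
  obtain ⟨g, hg, e⟩ := elem_trans hL hR ⟨Or.inl h4, hE⟩ hu hp.ne₁ hv hp.ne₂
  obtain ⟨k, hk, f⟩ := elem_trans hL hR ⟨Or.inl h4, hE⟩ hu hp.ne₁ (mul_mem hu hv) hp.rot.ne₂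
  refine ⟨u, v, hp, hV, ?_⟩
  rcases (hm _).1 (conj_mem_of_mem_normalizer hg.2 hv) with e1 | e1 | e1 | e1
  · exact absurd (by simpa using e1) hp.ne₂
  · rcases (hm _).1 (conj_mem_of_mem_normalizer hk.2 hv) with f1 | f1 | f1 | f1
    · exact absurd (by simpa using f1) hp.ne₂
    · have f2 : k * (u * v) * k⁻¹ = v := by
        rw [← conj_mul, f, f1, mul_assoc, ← hp.comm, ← mul_assoc, hp.sq₁, one_mul]
      refine ⟨k * k, mul_mem hk.1 hk.1, ?_, ?_⟩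
      · rw [show k * k * u * (k * k)⁻¹ = k * (k * u * k⁻¹) * k⁻¹ by group, f, f2]
      · rw [show k * k * v * (k * k)⁻¹ = k * (k * v * k⁻¹) * k⁻¹ by group, f1, f]
    · refine ⟨k * g, mul_mem hk.1 hg.1, ?_, ?_⟩
      · rw [show k * g * u * (k * g)⁻¹ = k * (g * u * g⁻¹) * k⁻¹ by group, e, f1]
      · rw [show k * g * v * (k * g)⁻¹ = k * (g * v * g⁻¹) * k⁻¹ by group, e1, f]
    · exact absurd (by simpa using f.trans f1.symm) hp.ne
  · exact absurd (by simpa using e.trans e1.symm) hp.ne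
  · exact ⟨g, hg.1, e, e1⟩

section Dih

variable {L R : Subgroup G} {j : ℕ} {a b : G}

theorem dih_inv {m : ℕ} (h : DihData R m a b) {w : G} (hw : w ∈ R) (hw' : w ∉ zpowers a) {g : G}
    (hg : g ∈ zpowers a) : w * g * w⁻¹ = g⁻¹ := by
  obtain ⟨i, rfl⟩ := hg
  simp only [← conj_zpow, h.inverts_of_notMem hw hw', inv_zpow]

theorem half_comm (h : DihData R (2 ^ (j + 2)) a b) {g : G} (hg : g ∈ R) :
    g * a ^ 2 ^ (j + 1) = a ^ 2 ^ (j + 1) * g := by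
  by_cases h1 : g ∈ zpowers a
  · obtain ⟨i, rfl⟩ := h1
    exact ((Commute.refl a).zpow_left i).pow_right _
  · have := dih_inv h hg h1 (pow_mem (mem_zpowers a) (2 ^ (j + 1)))
    rw [inv_eq_of_mul_eq_one_left (half_sq h.ord)] at this
    exact mul_inv_eq_iff_eq_mul.1 this

theorem dih_pair (h : DihData R (2 ^ (j + 2)) a b) {w : G} (hw : w ∈ R) (hw' : w ∉ zpowers a) :
    IsPair (a ^ 2 ^ (j + 1)) w :=
  ⟨half_sq h.ord, half_ne h.ord, H9.mul_self_of_orderOf_two (h.orderOf_of_notMem hw hw'),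
    fun e => hw' (e ▸ one_mem _), fun e => hw' (e ▸ pow_mem (mem_zpowers a) _), (half_comm h hw).symm⟩

theorem quarter_conj (h : DihData R (2 ^ (j + 2)) a b) {w : G} (hw : w ∈ R) (hw' : w ∉ zpowers a) :
    a ^ 2 ^ j * w * (a ^ 2 ^ j)⁻¹ = a ^ 2 ^ (j + 1) * w := by
  rw [← dih_inv h hw hw' (pow_mem (mem_zpowers a) (2 ^ j)), pow_succ 2 j, pow_mul, pow_two,
    mul_assoc (a ^ 2 ^ j), ← mul_assoc w, ← mul_assoc w, (dih_pair h hw hw').sq₂,
    inv_eq_of_mul_eq_one_left (dih_pair h hw hw').sq₂]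
  group

theorem dih_conj (hL : ⁅L, L⁆ = L) (hR : Syl 2 R L) (h : DihData R (2 ^ (j + 2)) a b) {r : G}
    (hr : r ∈ R) (h1 : r ≠ 1) (h2 : r * r = 1) : ∃ g ∈ L, g * r * g⁻¹ = a ^ 2 ^ (j + 1) := by
  obtain ⟨g, hg, e⟩ := transfer_in hL hR (D := zpowers a)
    ⟨h.zpowers_le, norm_of_relIndex_two h.zpowers_le h.relIndex⟩ h.b_mem (fun y hy => by
      obtain ⟨i, rfl | rfl⟩ := (h.mem y).1 hy
      · exact mem_sup_left (zpow_mem (mem_zpowers a) i)
      · exact mul_mem (mem_sup_left (zpow_mem (mem_zpowers a) i)) (mem_sup_right (mem_zpowers b))) h2 hr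
  exact ⟨g, hg, eq_half h.ord e (by simpa using h1) (by rw [conj_mul, h2]; simp)⟩

theorem dih_tri (hL : ⁅L, L⁆ = L) (hR : Syl 2 R L) (h : DihData R (2 ^ (j + 2)) a b) {w : G}
    (hw : w ∈ R) (hw' : w ∉ zpowers a) : ∃ ρ ∈ L, Tri ρ (a ^ 2 ^ (j + 1)) w := by
  have hp := dih_pair h hw hw'
  set z := a ^ 2 ^ (j + 1) with hz
  obtain ⟨g, hg, e⟩ := dih_conj hL hR h hw hp.ne₂ hp.sq₂
  have hRC : Syl 2 R (L ⊓ 𝐂[z]) :=
    hR.mono (le_inf hR.le fun y hy => mem_cent1_iff.2 (half_comm h hy)) inf_le_left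
  have hy : g * z * g⁻¹ ∈ L ⊓ 𝐂[z] :=
    ⟨L.mul_mem (L.mul_mem hg (hR.le (pow_mem h.a_mem _))) (L.inv_mem hg),
      mem_cent1_iff.2 (by have := (hp.conj g).comm; rwa [e] at this)⟩
  obtain ⟨c, hc, hle⟩ := hRC.exists_cj_le (H9.isPGroup_zpowers_of_mul_self (hp.conj g).sq₁)
    (zpowers_le.2 hy)
  have e1 : c * g * w * (c * g)⁻¹ = z := by
    rw [show c * g * w * (c * g)⁻¹ = c * (g * w * g⁻¹) * c⁻¹ by group, e]
    exact H73.mem_centralizer_singleton_iff_conj.1 hc.2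
  have hy1 : c * g * z * (c * g)⁻¹ ∈ R := by
    rw [show c * g * z * (c * g)⁻¹ = c * (g * z * g⁻¹) * c⁻¹ by group]
    exact hle (cj_mem c (mem_zpowers _))
  have hcg : c * g ∈ L := mul_mem hc.1 hg
  generalize c * g = k at e1 hy1 hcg
  have hy2 : k * z * k⁻¹ ∉ zpowers a := fun e2 =>
    (hp.conj k).ne ((eq_half h.ord e2 (hp.conj k).ne₁ (hp.conj k).sq₁).trans e1.symm)
  have hq := quarter_conj h hy1 hy2
  have hq' := quarter_conj h hw hw'
  have hn : a ^ 2 ^ j * z * (a ^ 2 ^ j)⁻¹ = z := by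
    rw [half_comm h (pow_mem h.a_mem _), mul_inv_cancel_right]
  have hnL : a ^ 2 ^ j ∈ L := hR.le (pow_mem h.a_mem _)
  generalize a ^ 2 ^ j = n at hq hq' hn hnL
  have e2 : k⁻¹ * z * k = w := by rw [← e1]; group
  refine ⟨n * (k⁻¹ * n * k), mul_mem hnL (mul_mem (mul_mem (inv_mem hcg) hnL) hcg), ?_, ?_⟩
  · rw [show n * (k⁻¹ * n * k) * z * (n * (k⁻¹ * n * k))⁻¹ =
      n * (k⁻¹ * (n * (k * z * k⁻¹) * n⁻¹) * k) * n⁻¹ by group, hq, ← hz,
      show k⁻¹ * (z * (k * z * k⁻¹)) * k = k⁻¹ * z * k * z by group, e2, ← conj_mul, hq', hn, ← hz,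
      mul_assoc, ← hp.comm, ← mul_assoc, hp.sq₁, one_mul]
  · rw [show n * (k⁻¹ * n * k) * w * (n * (k⁻¹ * n * k))⁻¹ =
      n * (k⁻¹ * (n * (k * w * k⁻¹) * n⁻¹) * k) * n⁻¹ by group, e1, hn, e2, hq']

end Dih

end H72.Ch
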