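import Mathlib
import Cfsg.Agent.Base
import Cfsg.Agent.Lib.Chain.Fus

/-! Groups of small length with trivial solvable radical. -/

set_option autoImplicit false
set_option linter.style.haveILetI false
set_option linter.unusedSectionVars false

namespace H72.Ch

open Cfsg H45 H69 Subgroup H73 H29

universe u

variable {G : Type u} [Group G] [Finite G]

/-- The admissible Sylow types. -/
def Ty (R : Subgroup G) : Prop := Elem R ∨ ∃ (j : ℕ) (a b : G), DihData R (2 ^ (j + 2)) a b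

theorem Elem.of_equiv {G' : Type u} [Group G'] [Finite G'] {R : Subgroup G} {R' : Subgroup G'}
    (e : R ≃* R') (h : Elem R) : Elem R' :=
  ⟨by rw [← Nat.card_congr e.toEquiv]; exact h.1, fun r hr => by
    have h1 : e.symm ⟨r, hr⟩ * e.symm ⟨r, hr⟩ = 1 := Subtype.ext (h.2 _ (e.symm ⟨r, hr⟩).2)
    rw [← map_mul, MulEquiv.map_eq_one_iff] at h1
    exact congrArg Subtype.val h1⟩

theorem dih_of_equiv {G' : Type u} [Group G'] [Finite G'] {R : Subgroup G} {R' : Subgroup G'}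
    (e : R ≃* R') {j : ℕ} {a b : G} (h : DihData R (2 ^ (j + 2)) a b) :
    ∃ a' b' : G', DihData R' (2 ^ (j + 2)) a' b' := by
  obtain ⟨f⟩ := h.nonempty_mulEquiv (by positivity)
  exact exists_dihData (by positivity) (e.symm.trans f)

theorem Ty.of_equiv {G' : Type u} [Group G'] [Finite G'] {R : Subgroup G} {R' : Subgroup G'}
    (e : R ≃* R') (h : Ty R) : Ty R' := by
  rcases h with h | ⟨j, a, b, h⟩
  · exact Or.inl (h.of_equiv e)
  · exact Or.inr ⟨j, dih_of_equiv e h⟩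

theorem ty_conj {L R : Subgroup G} (hL : ⁅L, L⁆ = L) (hR : Syl 2 R L) (h : Ty R) {r r' : G}
    (hr : r ∈ R) (h1 : r ≠ 1) (h2 : r * r = 1) (hr' : r' ∈ R) (h1' : r' ≠ 1) (h2' : r' * r' = 1) :
    ∃ g ∈ L, g * r * g⁻¹ = r' := by
  rcases h with h | ⟨j, a, b, h⟩
  · obtain ⟨g, hg, e⟩ := elem_trans hL hR h hr h1 hr' h1'
    exact ⟨g, hg.1, e⟩
  · obtain ⟨g, hg, e⟩ := dih_conj hL hR h hr h1 h2
    obtain ⟨k, hk, f⟩ := dih_conj hL hR h hr' h1' h2'
    exact ⟨k⁻¹ * g, mul_mem (inv_mem hk) hg, by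
      rw [show k⁻¹ * g * r * (k⁻¹ * g)⁻¹ = k⁻¹ * (g * r * g⁻¹) * k by group, e, ← f]; group⟩

theorem syl_ext {P N : Subgroup G} (hP : Syl 2 P N) {x : G} (hN : x ∈ 𝐍(N)) (hx : x ∈ 𝐍(P))
    (hx2 : x * x ∈ P) : Syl 2 (P ⊔ zpowers x) (N ⊔ zpowers x) := by
  obtain ⟨k, hk⟩ := hP.isP ⟨_, hx2⟩
  have h2 : IsPGroup 2 (zpowers x) := H9.isPGroup_zpowers_of_pow (a := k + 1) (by
    rw [pow_succ' 2 k, pow_mul, pow_two]; exact congrArg Subtype.val hk)
  refine ⟨sup_le_sup_right hP.le _, isPGroup_sup_of_le_normalizer_left hP.isP h2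
    (zpowers_le.2 hx), fun W h1 h3 hW => le_antisymm (fun w hw => ?_) h1⟩
  have e : W ⊓ N = P := hP.max _ (le_inf (le_sup_left.trans h1) hP.le) inf_le_right hW.to_inf_left
  have hxW : x ∈ W := h1 (mem_sup_right (mem_zpowers x))
  rcases (mem_ext hN (hP.le hx2)).1 (h3 hw) with h4 | ⟨k, hk, rfl⟩
  · exact mem_sup_left (e.le ⟨hw, h4⟩)
  · exact mul_mem (mem_sup_left (e.le ⟨(W.mul_mem_cancel_right hxW).1 hw, hk⟩))
      (mem_sup_right (mem_zpowers x))

theorem not_solvable_of_perfect {L : Subgroup G} (hL : ⁅L, L⁆ = L) (h : L ≠ ⊥) : ¬ Group.IsSolvable L :=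
  fun _ => by
    haveI := (nontrivial_iff_ne_bot L).2 h
    exact (IsSolvable.commutator_lt_top_of_nontrivial L).ne (perfect_coe hL)

/-- The perfect residual of a short group with trivial solvable radical is simple. -/
theorem simple_res (hrad : solvableRadical G = ⊥) (h7 : len (⊤ : Subgroup G) ≤ 7) {Y : Subgroup G}
    [Y.Normal] (hY : ⁅Y, Y⁆ = Y) (h1 : Y ≠ ⊥) (hq : Group.IsSolvable (G ⧸ Y)) :
    IsSimpleGroup Y ∧ ¬ IsMulCommutative Y ∧ 𝐂(Y) = ⊥ := by
  have hns := not_solvable_of_perfect hY h1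
  have hYrad : solvableRadical Y = ⊥ := by
    have := H1.map_subtype_solvableRadical_eq_of_isSubnormal (Normal.isSubnormal ‹Y.Normal›)
    rw [hrad, bot_inf_eq] at this
    exact (map_eq_bot_iff_of_injective _ Y.subtype_injective).1 this
  haveI := (nontrivial_iff_ne_bot Y).2 h1
  have hs : IsSimpleGroup Y := ⟨fun N hN => by
    by_contra h
    push Not at h
    have h2 : ¬ Group.IsSolvable (Y ⧸ N) := fun _ => by
      haveI := QuotientGroup.nontrivial_iff.2 h.2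
      refine (IsSolvable.commutator_lt_top_of_nontrivial (Y ⧸ N)).ne ?_
      rw [_root_.commutator_def, ← map_top_of_surjective _ (QuotientGroup.mk'_surjective N),
        ← Subgroup.map_commutator, ← _root_.commutator_def, perfect_coe hY]
    have h3 : ¬ Group.IsSolvable N := fun h3 =>
      h.1 (eq_bot_iff.2 (hYrad ▸ H1.le_solvableRadical h3))
    have h4 := len_quot N
    have h5 := four_le_len_top h2
    have h6 := four_le_len h3
    have h8 := len_mono (le_top : Y ≤ ⊤)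
    rw [len_top] at h4
    omega⟩
  have hna : ¬ IsMulCommutative Y := fun h => hns (Group.isSolvable_of_comm h.is_comm.comm)
  refine ⟨hs, hna, eq_bot_iff.2 (hrad ▸ H1.le_solvableRadical ?_)⟩
  refine Group.isSolvable_of_isSolvable_injective (f := (QuotientGroup.mk' Y).comp 𝐂(Y).subtype)
    ((injective_iff_map_eq_one _).2 fun c hc => Subtype.ext ?_)
  have hcY : (c : G) ∈ Y := (QuotientGroup.eq_one_iff _).1 hc
  by_contra h2
  refine cent_ne_top_of_simple hna (x := (⟨c, hcY⟩ : Y)) (fun e => h2 (congrArg (fun y : Y => (y : G)) e))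
    (eq_top_iff.2 fun y _ => mem_cent1_iff.2 (Subtype.ext (c.2 y y.2)))

/-- A 2-element centralising an elementary abelian Sylow subgroup of the simple socle is inner. -/
theorem cent_le_of_ab {Y P : Subgroup G} [Y.Normal] (hs : IsSimpleGroup Y) (hna : ¬ IsMulCommutative Y)
    (hY : ⁅Y, Y⁆ = Y) (hC : 𝐂(Y) = ⊥) (hP : Syl 2 P ⊤) (hab : P ⊓ Y ≤ 𝐂(P ⊓ Y)) :
    P ⊓ 𝐂(P ⊓ Y) ≤ Y := by
  have hR : Syl 2 (P ⊓ Y) Y := hP.inf_normal le_top (by rw [normalizer_eq_top])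
  set R := P ⊓ Y with hRdef
  by_contra hn
  obtain ⟨f, hf, hfN, hfR, hf2⟩ := exists_step (T := R) (S := P ⊓ 𝐂(R)) hP.isP.to_inf_left
    (lt_of_le_of_ne (le_inf inf_le_left hab) fun e => hn (e ▸ inf_le_right))
  have hfY : f ∉ Y := fun e => hfR ⟨hf.1, e⟩
  have hYN : ∀ g : G, g ∈ 𝐍(Y) := fun g => by rw [normalizer_eq_top]; trivial
  have hU := syl_ext hR (hYN f) hfN hf2
  have hUab : R ⊔ zpowers f ≤ 𝐂(R ⊔ zpowers f) := by
    rw [centralizer_sup, centralizer_zpowers]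
    exact le_inf (sup_le hab (zpowers_le.2 hf.2))
      (sup_le (le_centralizer_iff.1 (zpowers_le.2 hf.2) |>.trans (centralizer_zpowers f).le)
        (zpowers_le.2 (mem_cent1_iff.2 rfl)))
  have hKY : ∀ k ∈ Y ⊔ zpowers f, ∀ l ∈ Y ⊔ zpowers f, k * l * k⁻¹ * l⁻¹ ∈ Y := fun k hk l hl => by
    have h2 := relIndex_two_of_card le_sup_left (card_ext (hYN f) hfY (hR.le hf2))
    rw [H41.mul_mem_of_relIndex_two h2 (mul_mem (mul_mem hk hl) (inv_mem hk))
      (inv_mem hl), inv_mem_iff]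
    exact ⟨fun h => by simpa [mul_assoc] using Normal.conj_mem ‹Y.Normal› _ h k⁻¹,
      fun h => Normal.conj_mem ‹Y.Normal› _ h k⟩
  have hfU : f ∈ R ⊔ zpowers f := mem_sup_right (mem_zpowers f)
  have hRU : R ≤ R ⊔ zpowers f := le_sup_left
  have hYK : Y ≤ Y ⊔ zpowers f := le_sup_left
  have hUY : ∀ w ∈ R ⊔ zpowers f, w ∉ Y → w * w ∈ R := fun w hw _ => by
    rcases (mem_ext hfN hf2).1 hw with h | ⟨k, hk, rfl⟩
    · exact mul_mem h h
    · rw [show k * f * (k * f) = k * (f * k * f⁻¹) * (f * f) by group]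
      exact mul_mem (mul_mem hk (conj_mem_of_mem_normalizer hfN hk)) hf2
  generalize R ⊔ zpowers f = U at hU hUab hfU hRU hUY
  generalize Y ⊔ zpowers f = K at hU hKY hYK
  have hUN : Syl 2 U (K ⊓ 𝐍(U)) := hU.mono (le_inf hU.le le_normalizer) inf_le_left
  obtain ⟨k, hk⟩ := exists_card_pow hU.isP
  have hcop : (Nat.card U).Coprime (U.relIndex (K ⊓ 𝐍(U))) :=
    hk ▸ Nat.Coprime.pow_left k ((Nat.Prime.coprime_iff_not_dvd Nat.prime_two).2 hUN.not_dvd_relIndex)
  obtain ⟨A, hA, hsup, -, hcA⟩ := H3.exists_complement_in hUN.le inf_le_right hcop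
  have hdec := H2.commutator_sup_centralizer (A := A) (K := U) (hA.trans inf_le_right)
    (hcA ▸ hcop.symm) (Or.inr (solv_of_pgroup hU.isP))
  obtain ⟨w, hw, hwY⟩ : ∃ w ∈ U ⊓ 𝐂(A), w ∉ Y := by
    by_contra h
    push Not at h
    exact hfY ((hdec.ge.trans (sup_le (commutator_le.2 fun k hk l hl =>
      hKY k (hU.le hk) l (hA hl).1) h)) hfU)
  have hwN : K ⊓ 𝐍(U) ≤ 𝐂[w] := hsup.ge.trans (sup_le (hUab.trans (cent_le_cent1 hw.1))
    fun a ha => mem_cent1_iff.2 (hw.2 a ha))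
  have hiso : ∀ n : ℕ, ∀ g ∈ K, g * w ^ n * g⁻¹ ∈ U → g * w ^ n * g⁻¹ = w ^ n := fun n g hg hm => by
    obtain ⟨c, hc, hcU, e⟩ := exists_norm_conj hU (x := w ^ n) hg
      (hUab.trans (cent_le_cent1 (pow_mem hw.1 n))) (hUab.trans (cent_le_cent1 hm))
    have : Commute c w := mem_cent1_iff.1 (hwN ⟨hc, hcU⟩)
    rw [← e, (this.pow_right n).eq, mul_inv_cancel_right]
  have hw2 : w * w = 1 := by
    have h1 := mem_der_of_unfused hY hR (hUY w hw.1 hwY) fun n g hg hm => by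
      have := hiso (2 * n) g⁻¹ (inv_mem (hYK hg)) (by rw [pow_mul, pow_two, inv_inv]; exact hRU hm)
      rwa [pow_mul, pow_two, inv_inv] at this
    rwa [abelian_iff_der_eq_bot.1 (abelian_iff_le_centralizer.2 hab), mem_bot] at h1
  have hw1 : w ≠ 1 := fun e => hwY (e ▸ one_mem Y)
  obtain ⟨P', hP'⟩ := hU.exists_sylow_subgroupOf
  have hz := centralizer_sup_oddCore_eq_top P' (u := ⟨w, hU.le hw.1⟩)
    (orderOf_eq_prime (Subtype.ext (by simpa [pow_two] using hw2)) fun e => hw1 (congrArg Subtype.val e))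
    (show _ ∈ (P' : Subgroup K) by rw [hP']; exact hw.1) fun g hg => Subtype.ext (by
      have hg' : g * ⟨w, hU.le hw.1⟩ * g⁻¹ ∈ U.subgroupOf K := by rw [← hP']; exact hg
      have := hiso 1 g g.2 (by rw [pow_one]; exact hg')
      simpa using this)
  have hO : oddCore K = ⊥ := by
    have hn : (oddCore K).Normal := pPrimeCore_normal 2 K
    have h1 : (oddCore K).subgroupOf (Y.subgroupOf K) = ⊥ := by
      haveI : IsSimpleGroup (Y.subgroupOf K) := (subgroupOfEquivOfLe hYK).isSimpleGroup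
      refine (hn.subgroupOf _).eq_bot_or_eq_top.resolve_right fun e => ?_
      have h2 := card_dvd_of_le (subgroupOf_eq_top.1 e)
      rw [Nat.card_congr (subgroupOfEquivOfLe hYK).toEquiv] at h2
      have h3 := four_dvd_of_not_solvable (not_solvable_of_simple hna)
      have h4 : Odd (Nat.card (oddCore K)) := H1.odd_card_oddCore
      have := (h3.trans h2)
      obtain ⟨m, hm⟩ := h4
      omega
    refine eq_bot_iff.2 fun o ho => ?_
    have : (o : G) ∈ 𝐂(Y) := fun y hy => by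
      have h2 := commute_of_normal_of_disjoint _ _ hn (Normal.subgroupOf ‹Y.Normal› K)
        (subgroupOf_eq_bot.1 h1) o ⟨y, hYK hy⟩ ho hy
      exact (congrArg Subtype.val h2.eq).symm
    rw [hC, mem_bot] at this
    exact mem_bot.2 (Subtype.ext this)
  rw [hO, sup_bot_eq] at hz
  have : w ∈ 𝐂(Y) := fun y hy => congrArg Subtype.val
    (mem_cent1_iff.1 (hz.ge (mem_top (⟨y, hYK hy⟩ : K))))
  rw [hC, mem_bot] at this
  exact hw1 this

/-- An elementary Sylow subgroup of order eight has no faithful extension of index two. -/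
theorem not_index_two_eight {Y P : Subgroup G} [Y.Normal] (hY : ⁅Y, Y⁆ = Y) (hP : Syl 2 P ⊤)
    (h8 : Nat.card (P ⊓ Y : Subgroup G) = 8) (hE : ∀ r ∈ P ⊓ Y, r * r = 1)
    (hC : P ⊓ 𝐂(P ⊓ Y) ≤ Y) (h2 : (P ⊓ Y).relIndex P = 2) : False := by
  have hR : Syl 2 (P ⊓ Y) Y := hP.inf_normal le_top (by rw [normalizer_eq_top])
  have hNR : 𝐍(P) ≤ 𝐍(P ⊓ Y) := le_normalizer_inf le_rfl (by rw [normalizer_eq_top Y]; exact le_top)
  set R := P ⊓ Y with hRdef
  have hRP : R ≤ P := inf_le_left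
  obtain ⟨f, hf, hfR⟩ := SetLike.exists_of_lt (lt_of_le_of_ne hRP fun e => by
    rw [e, relIndex_self] at h2; omega)
  have hfN : f ∈ 𝐍(R) := hNR (le_normalizer hf)
  have hact : ∀ g ∈ P, g ∉ R → ∀ r ∈ R, g * r * g⁻¹ = f * r * f⁻¹ := fun g hg hgR r hr => by
    obtain ⟨k, hk, rfl⟩ := eq_mul_of_relIndex_two' h2 hf hfR hg hgR
    rw [show f * k * r * (f * k)⁻¹ = f * (k * r * k⁻¹) * f⁻¹ by group, comm_of_sq hE hk hr,
      mul_inv_cancel_right]
  let ψ : R →* G := MonoidHom.mk' (fun r => r * (f * r * f⁻¹)) fun r s => by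
    have := comm_of_sq hE s.2 (conj_mem_of_mem_normalizer hfN r.2)
    simp only [coe_mul]
    rw [← conj_mul, mul_assoc, ← mul_assoc (s : G), this]; group
  have hψ : ∀ r : R, ψ r = r * (f * r * f⁻¹) := fun r => rfl
  have hψR : ∀ r : R, ψ r ∈ R := fun r => mul_mem r.2 (conj_mem_of_mem_normalizer hfN r.2)
  have hker : ∀ r : R, ψ r = 1 ↔ f * r * f⁻¹ = r := fun r => by
    rw [hψ, mul_eq_one_iff_inv_eq, inv_eq_of_mul_eq_one_left (hE r r.2), eq_comm]
  have hfix : ∀ r : R, f * ψ r * f⁻¹ = ψ r := fun r => by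
    rw [hψ, ← conj_mul, show f * (f * r * f⁻¹) * f⁻¹ = f * f * r * (f * f)⁻¹ by group,
      comm_of_sq hE (sq_mem_of_relIndex_two h2 hf) r.2, mul_inv_cancel_right]
    exact comm_of_sq hE (conj_mem_of_mem_normalizer hfN r.2) r.2
  have hcent : ∀ r ∈ R, f * r * f⁻¹ = r → P ≤ 𝐂[r] := fun r hr e g hg => by
    by_cases hgR : g ∈ R
    · exact mem_cent1_iff.2 (comm_of_sq hE hgR hr)
    · exact H73.mem_centralizer_singleton_iff_conj.2 ((hact g hg hgR r hr).trans e)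
  obtain ⟨r, hr⟩ : ∃ r : R, ψ r ≠ 1 := by
    by_contra h
    push Not at h
    exact hfR ⟨hf, hC ⟨hf, fun r hr => (mul_inv_eq_iff_eq_mul.1 ((hker ⟨r, hr⟩).1 (h _))).symm⟩⟩
  have heq : ψ.ker.map R.subtype = ψ.range := by
    refine le_antisymm ?_ ?_
    · rintro _ ⟨w, hw, rfl⟩
      by_cases hw1 : (w : G) = 1
      · exact (show (w : G) ∈ ψ.range from hw1.symm ▸ one_mem _)
      obtain ⟨g, -, e⟩ := elem_trans hY hR ⟨Or.inr h8, hE⟩ (hψR r) hr w.2 hw1
      obtain ⟨n, -, hn, e'⟩ := exists_norm_conj hP (mem_top g) (hcent _ (hψR r) (hfix r))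
        (e ▸ hcent _ w.2 ((hker w).1 hw))
      refine ⟨⟨n * r * n⁻¹, conj_mem_of_mem_normalizer (hNR hn) r.2⟩, ?_⟩
      have h3 : n * f * n⁻¹ ∉ R := fun h => hfR ((mem_normalizer_iff.1 (hNR hn) f).2 h)
      rw [hψ, ← hact _ (conj_mem_of_mem_normalizer hn hf) h3 _ (conj_mem_of_mem_normalizer (hNR hn) r.2)]
      change _ = (w : G)
      rw [← e, ← e', hψ]; group
    · rintro _ ⟨s, rfl⟩
      exact ⟨⟨_, hψR s⟩, (hker _).2 (hfix s), rfl⟩
  have h3 := ψ.ker.card_mul_index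
  rw [index_ker, ← heq, card_subtype, h8] at h3
  have h4 : Nat.card ψ.ker ≤ 3 := by nlinarith
  generalize Nat.card ψ.ker = m at h3 h4
  interval_cases m <;> omega

end H72.Ch
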