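import Mathlib
import Cfsg.Agent.Base
import Cfsg.Agent.Lib.Chain.XStr

/-! The local structure of a short non-solvable involution centraliser. -/

set_option autoImplicit false
set_option linter.style.haveILetI false
set_option linter.unusedSectionVars false

namespace H72.Ch

open Cfsg H45 H69 Subgroup H73 H29

universe u

variable {G : Type u} [Group G] [Finite G]

theorem eq_top_of_index_le_four (hG : commutator G = ⊤) {K : Subgroup G} (hi : K.index ≤ 4) : K = ⊤ := by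
  have h1 : K.normalCore.index ∣ 24 := by
    rw [normalCore_eq_ker, index_ker]
    have := card_subgroup_dvd_card (MulAction.toPermHom G (G ⧸ K)).range
    rw [Nat.card_perm, ← index_eq_card] at this
    exact this.trans (Nat.factorial_dvd_factorial hi)
  haveI := H8.isSolvable_of_card_dvd (G := G ⧸ K.normalCore) (a := 3) (b := 1) Nat.prime_two
    Nat.prime_three h1
  by_contra h
  haveI := QuotientGroup.nontrivial_iff.2 fun e : K.normalCore = ⊤ => h (eq_top_iff.2 (e ▸ K.normalCore_le))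
  refine (IsSolvable.commutator_lt_top_of_nontrivial (G ⧸ K.normalCore)).ne ?_
  rw [_root_.commutator_def, ← map_top_of_surjective _ (QuotientGroup.mk'_surjective K.normalCore),
    ← Subgroup.map_commutator, ← _root_.commutator_def, hG]

theorem perfect_cent_four {L P : Subgroup G} (hL : ⁅L, L⁆ = L) (hn : L ≤ 𝐍(P)) (h4 : Nat.card P ≤ 4) :
    L ≤ 𝐂(P) := le_centralizer_iff.2 fun y hy g hg => by
  have h1 : 𝐂[y].relIndex L ≤ 4 := by
    rw [relIndex_cent_eq]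
    refine (Set.ncard_le_ncard (t := (P : Set G)) ?_).trans h4
    rintro _ ⟨g, hg, rfl⟩
    exact conj_mem_of_mem_normalizer (hn hg) hy
  exact mem_cent1_iff.1 (subgroupOf_eq_top.1 (eq_top_of_index_le_four (perfect_coe hL) h1) hg)

theorem perfect_cent_eight {L Q : Subgroup G} (hL : ⁅L, L⁆ = L) (hn : L ≤ 𝐍(Q)) (h8 : Nat.card Q ≤ 8)
    {t : G} (ht : orderOf t = 2) (htQ : t ∈ Q) (hQ : Q ≤ 𝐂[t]) (hLt : L ≤ 𝐂[t]) : L ≤ 𝐂(Q) := by
  have hN : 𝐂[t] ≤ 𝐍(zpowers t) := (centralizer_zpowers t).ge.trans (centralizer_le_normalizer _)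
  have h1 : Nat.card (Q /ₙ zpowers t) ≤ 4 := by
    rw [card_morphim _ (hQ.trans hN), ker_coset]
    have := H1.card_mul_relIndex_of_le (zpowers_le.2 htQ)
    rw [Nat.card_zpowers, ht] at this
    omega
  have h2 := perfect_cent_four (L := L /ₙ zpowers t) (P := Q /ₙ zpowers t)
    (by rw [← morphimR _ (hLt.trans hN) (hLt.trans hN), hL]) (morphim_norms _ hn) h1
  rw [morphim_cents_iff _ (hLt.trans hN) (hQ.trans hN), ker_coset] at h2
  have h3 : ⁅⁅L, Q⁆, L⁆ = ⊥ := commutator_eq_bot_iff_le_centralizer.2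
    (h2.trans (le_centralizer_iff.1 (hLt.trans (centralizer_zpowers t).ge)))
  rw [← commutator_eq_bot_iff_le_centralizer, ← hL]
  exact commutator_commutator_eq_bot_of_rotate h3 (by rwa [Subgroup.commutator_comm Q])

theorem eq_bot_of_sq {Z : Subgroup G} (h2 : IsPGroup 2 Z) (hab : Z ≤ 𝐂(Z))
    (h : ∀ z ∈ Z, ∃ u ∈ Z, z = u * u) : Z = ⊥ := by
  by_contra hn
  obtain ⟨s, hs, ho⟩ := exists_orderOf_eq_prime h2 hn
  have hsurj : Function.Surjective fun u : Z => u * u := fun z => by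
    obtain ⟨u, hu, e⟩ := h z z.2
    exact ⟨⟨u, hu⟩, Subtype.ext e.symm⟩
  have := Finite.injective_iff_surjective.2 hsurj (a₁ := ⟨s, hs⟩) (a₂ := 1)
    (Subtype.ext (by simpa using H9.mul_self_of_orderOf_two ho))
  rw [show s = 1 from congrArg Subtype.val this, orderOf_one] at ho
  omega

/-- A central extension all of whose involutions lift to involutions. -/
theorem eq_bot_of_lifts {G' : Type u} [Group G'] [Finite G'] {D R Z : Subgroup G} (f : D →* G')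
    (hRD : R ≤ D) (hZ : R ⊓ kerOf f = Z) (h2 : IsPGroup 2 R) (hc : R ≤ 𝐂(Z)) (hd : Z ≤ ⁅R, R⁆)
    (hty : Ty (im f R)) (hl : ∀ r ∈ R, r * r ∈ Z → ∃ ρ ∈ R, ρ * ρ = 1 ∧ ∃ u ∈ Z, r = ρ * u) : Z = ⊥ := by
  have hZR : Z ≤ R := hZ ▸ inf_le_left
  have hm : ∀ r ∈ R, r ∈ Z ↔ ap f r = 1 := fun r hr => by
    rw [ap_eq_one_iff f (hRD hr), ← hZ]; exact ⟨fun h => h.2, fun h => ⟨hr, h⟩⟩
  have hcm : ∀ u ∈ Z, ∀ r ∈ R, Commute u r := fun u hu r hr => hc hr u hu
  have hsq : ∀ r ∈ R, ap f r * ap f r = 1 → r * r ∈ Z := fun r hr e =>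
    (hm _ (mul_mem hr hr)).2 (by rw [ap_mul f (hRD hr) (hRD hr), e])
  have hsq2 : ∀ r ∈ R, r * r ∈ Z → ∃ u ∈ Z, r * r = u * u := fun r hr e => by
    obtain ⟨ρ, hρ, e1, u, hu, rfl⟩ := hl r hr e
    exact ⟨u, hu, by rw [mul_assoc, ← mul_assoc u, (hcm u hu ρ hρ).eq, ← mul_assoc, ← mul_assoc, e1,
      one_mul]⟩
  have hcomm : ∀ r ∈ R, ∀ s ∈ R, ∀ u ∈ Z, ∀ v ∈ Z,
      r * u * (s * v) * (r * u)⁻¹ * (s * v)⁻¹ = r * s * r⁻¹ * s⁻¹ := fun r hr s hs u hu v hv => by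
    have e1 : r * u * (s * v) * (r * u)⁻¹ = r * (u * (s * v) * u⁻¹) * r⁻¹ := by group
    rw [e1, (hcm u hu _ (mul_mem hs (hZR hv))).eq, mul_inv_cancel_right,
      show r * (s * v) * r⁻¹ * (s * v)⁻¹ = r * s * (v * r⁻¹ * v⁻¹) * s⁻¹ by group,
      (hcm v hv _ (inv_mem hr)).eq, mul_inv_cancel_right]
  rcases hty with hE | ⟨j, a', b', hD⟩
  · have hall : ∀ r ∈ R, r * r ∈ Z := fun r hr => hsq r hr (hE.2 _ (ap_mem_im f hr))
    let K : Subgroup G :=
      { carrier := {y | ∃ u ∈ Z, y = u * u}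
        one_mem' := ⟨1, one_mem _, by simp⟩
        mul_mem' := by
          rintro _ _ ⟨u, hu, rfl⟩ ⟨v, hv, rfl⟩
          exact ⟨u * v, mul_mem hu hv, (hcm u hu v (hZR hv)).mul_mul_mul_comm u v⟩
        inv_mem' := by
          rintro _ ⟨u, hu, rfl⟩
          exact ⟨u⁻¹, inv_mem hu, by simp⟩ }
    refine eq_bot_of_sq (h2.to_le hZR) (hZR.trans hc) fun z hz =>
      (show ⁅R, R⁆ ≤ K from commutator_le.2 fun r hr s hs => ?_) (hd hz)
    obtain ⟨ρ, hρ, e1, u, hu, rfl⟩ := hl r hr (hall r hr)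
    obtain ⟨σ, hσ, e2, v, hv, rfl⟩ := hl s hs (hall s hs)
    rw [commutatorElement_def, hcomm ρ hρ σ hσ u hu v hv, inv_eq_of_mul_eq_one_left e1,
      inv_eq_of_mul_eq_one_left e2, mul_assoc (ρ * σ)]
    exact hsq2 _ (mul_mem hρ hσ) (hall _ (mul_mem hρ hσ))
  · have hlift : ∀ y ∈ im f R, y * y = 1 → ∃ ρ ∈ R, ρ * ρ = 1 ∧ ap f ρ = y := fun y hy e => by
      obtain ⟨r, hr, rfl⟩ := (mem_im_of_le f hRD).1 hy
      obtain ⟨ρ, hρ, e1, u, hu, rfl⟩ := hl r hr (hsq r hr e)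
      exact ⟨ρ, hρ, e1, by rw [ap_mul f (hRD hρ) (hRD (hZR hu)), (hm u (hZR hu)).1 hu, mul_one]⟩
    obtain ⟨b, hb, b2, eb⟩ := hlift b' hD.b_mem hD.bb
    obtain ⟨c, hc', c2, ec⟩ := hlift (a' * b') (mul_mem hD.a_mem hD.b_mem)
      (by simpa using hD.refl_mul_self 1)
    have ha : c * b ∈ R := mul_mem hc' hb
    have ea : ap f (c * b) = a' := by
      rw [ap_mul f (hRD hc') (hRD hb), ec, eb, mul_assoc, hD.bb, mul_one]
    have hinv : b * (c * b) * b⁻¹ = (c * b)⁻¹ := by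
      rw [mul_inv_rev, inv_eq_of_mul_eq_one_left c2, mul_assoc, mul_inv_cancel_right,
        inv_eq_of_mul_eq_one_left b2]
    generalize c * b = a at ha ea hinv
    have hinv' : ∀ i : ℤ, b * a ^ i * b⁻¹ = a ^ (-i) := fun i => by rw [← conj_zpow, hinv]; simp
    have hdec : ∀ r ∈ R, ∃ i : ℤ, ∃ u ∈ Z, r = a ^ i * u ∨ r = a ^ i * b * u := fun r hr => by
      obtain ⟨i, h | h⟩ := (hD.mem _).1 (ap_mem_im f hr)
      · refine ⟨i, (a ^ i)⁻¹ * r, (hm _ (mul_mem (inv_mem (zpow_mem ha i)) hr)).2 ?_, Or.inl (by group)⟩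
        rw [ap_mul f (hRD (inv_mem (zpow_mem ha i))) (hRD hr), ap_inv, ap_zpow f (hRD ha), ea, h,
          inv_mul_cancel]
      · have hm' := mul_mem (zpow_mem ha i) hb
        refine ⟨i, (a ^ i * b)⁻¹ * r, (hm _ (mul_mem (inv_mem hm') hr)).2 ?_, Or.inr (by group)⟩
        rw [ap_mul f (hRD (inv_mem hm')) (hRD hr), ap_inv, ap_mul f (hRD (zpow_mem ha i)) (hRD hb),
          ap_zpow f (hRD ha), ea, eb, h, inv_mul_cancel]
    have hbN : ∀ g ∈ zpowers a, b * g * b⁻¹ ∈ zpowers a := by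
      rintro _ ⟨i, rfl⟩
      exact (hinv' i).symm ▸ zpow_mem (mem_zpowers a) _
    have hb1 : b⁻¹ = b := inv_eq_of_mul_eq_one_left b2
    have hder : ⁅R, R⁆ ≤ zpowers a := commutator_le.2 fun r hr s hs => by
      have hz := fun i : ℤ => zpow_mem (mem_zpowers a) i
      obtain ⟨i, u, hu, rfl | rfl⟩ := hdec r hr <;> obtain ⟨k, v, hv, rfl | rfl⟩ := hdec s hs
      · rw [commutatorElement_def, hcomm _ (zpow_mem ha i) _ (zpow_mem ha k) u hu v hv]
        exact mul_mem (mul_mem (mul_mem (hz i) (hz k)) (inv_mem (hz i))) (inv_mem (hz k))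
      · rw [commutatorElement_def, hcomm _ (zpow_mem ha i) _ (mul_mem (zpow_mem ha k) hb) u hu v hv,
          show a ^ i * (a ^ k * b) * (a ^ i)⁻¹ * (a ^ k * b)⁻¹ =
            a ^ i * a ^ k * (b * (a ^ i)⁻¹ * b⁻¹) * (a ^ k)⁻¹ by group]
        exact mul_mem (mul_mem (mul_mem (hz i) (hz k)) (hbN _ (inv_mem (hz i)))) (inv_mem (hz k))
      · rw [commutatorElement_def, hcomm _ (mul_mem (zpow_mem ha i) hb) _ (zpow_mem ha k) u hu v hv,
          show a ^ i * b * a ^ k * (a ^ i * b)⁻¹ * (a ^ k)⁻¹ =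
            a ^ i * (b * a ^ k * b⁻¹) * (a ^ i)⁻¹ * (a ^ k)⁻¹ by group]
        exact mul_mem (mul_mem (mul_mem (hz i) (hbN _ (hz k))) (inv_mem (hz i))) (inv_mem (hz k))
      · rw [commutatorElement_def, hcomm _ (mul_mem (zpow_mem ha i) hb) _ (mul_mem (zpow_mem ha k) hb)
          u hu v hv, show a ^ i * b * (a ^ k * b) * (a ^ i * b)⁻¹ * (a ^ k * b)⁻¹ =
            a ^ i * (b * (a ^ k * (a ^ i)⁻¹) * b⁻¹) * (a ^ k)⁻¹ by group]
        exact mul_mem (mul_mem (hz i) (hbN _ (mul_mem (hz k) (inv_mem (hz i))))) (inv_mem (hz k))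
    have hZ2 : ∀ u ∈ Z, u * u = 1 := fun u hu => by
      obtain ⟨i, rfl⟩ := hder (hd hu)
      have h1 := hinv' i
      rw [← (hcm _ hu b hb).eq, mul_inv_cancel_right] at h1
      simp only at h1 ⊢
      nth_rewrite 1 [h1]
      group
    have hm1 : a ^ 2 ^ (j + 2) = 1 := by
      obtain ⟨u, hu, e⟩ := hsq2 _ (pow_mem ha (2 ^ (j + 1))) (hsq _ (pow_mem ha _)
        (by rw [ap_pow f (hRD ha), ea]; exact half_sq hD.ord))
      rw [pow_succ 2 (j + 1), pow_mul, pow_two, e, hZ2 u hu]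
    refine eq_bot_iff.2 fun u hu => ?_
    obtain ⟨i, rfl⟩ := hder (hd hu)
    have h1 := (hm _ (hZR hu)).1 hu
    simp only at h1 ⊢
    rw [ap_zpow f (hRD ha), ea, ← orderOf_dvd_iff_zpow_eq_one, hD.ord] at h1
    obtain ⟨k, rfl⟩ := h1
    rw [zpow_mul, zpow_natCast, hm1, one_zpow]
    exact one_mem _

/-- All Sylow 2-subgroups are of admissible type. -/
def TyOK (Y : Type u) [Group Y] : Prop := ∀ P : Subgroup Y, Syl 2 P ⊤ → Ty P

/-- Local data in the centraliser of `t`. -/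
structure Loc (t : G) (T Q R L : Subgroup G) (q : ℕ) : Prop where
  tQ : t ∈ Q
  QT : Q ⊴ T
  cardQ : Nat.card Q = 2 ^ q
  perf : ⁅L, L⁆ = L
  ne : L ≠ ⊥
  LQ : L ≤ 𝐂(Q)
  TL : T ≤ 𝐍(L)
  Req : R = T ⊓ L
  syl : Syl 2 R L
  CL : T ⊓ 𝐂(L) ≤ Q
  len4 : q + 4 ≤ len 𝐂[t]
  len5 : ¬ T ≤ Q ⊔ R → q + 5 ≤ len 𝐂[t]
  len8 : 8 ∣ Q.relIndex R → q + 5 ≤ len 𝐂[t]
  len6 : 8 ∣ Q.relIndex R → ¬ T ≤ Q ⊔ R → q + 6 ≤ len 𝐂[t]
  idx : T ≤ Q ⊔ R ∨ (Q ⊔ R).relIndex T = 2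
  uniq : R ⊓ Q ≠ ⊥ → ∀ r ∈ R, r * r = 1 → r ∈ Q
  ty : (Q.relIndex R = 4 ∧ (∀ r ∈ R, r * r ∈ Q) ∧
        ∀ g ∈ T, (∀ r ∈ R, g * r * g⁻¹ * r⁻¹ ∈ Q) → g ∈ Q ⊔ R) ∨
      (Q.relIndex R = 8 ∧ (∀ r ∈ R, r * r ∈ Q) ∧ T ≤ Q ⊔ R) ∨
      (8 ∣ Q.relIndex R ∧ (∀ r ∈ R, ∀ s ∈ R, R ≤ 𝐂[r] → R ≤ 𝐂[s] → r ∉ Q → s ∉ Q → r * s⁻¹ ∈ Q) ∧
        (R ⊓ Q = ⊥ → ∃ (j : ℕ) (a b : G), DihData R (2 ^ (j + 2)) a b))

theorem relIndex_le_two_of_four {P R : Subgroup G} (hP : IsPGroup 2 P) (hR : R ⊴ P) (h4 : Nat.card R = 4)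
    (hE : ∀ r ∈ R, r * r = 1) (hC : P ⊓ 𝐂(R) ≤ R) : R.relIndex P ≤ 2 := by
  obtain ⟨z, hz, ho, hc⟩ := exists_central_inv hP hR (fun e => by rw [e, card_bot] at h4; omega)
  obtain ⟨v, hv, hvz⟩ := SetLike.exists_of_lt (lt_of_le_of_ne (zpowers_le.2 hz) fun e => by
    rw [← e, Nat.card_zpowers, ho] at h4; omega)
  have hp : IsPair z v := ⟨hE z hz, fun e => by simp [e] at ho, hE v hv, fun e => hvz (e ▸ one_mem _),
    fun e => hvz (e ▸ mem_zpowers z), comm_of_sq hE hz hv⟩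
  have hV : closure ({z, v} : Set G) = R := eq_of_le_of_card_ge
    ((closure_le _).2 (Set.pair_subset hz hv)) (by rw [h4, card_pair hp])
  have h1 : P ⊓ 𝐂[v] = R := le_antisymm (fun g hg => hC ⟨hg.1, by
      rw [← hV, centralizer_closure]
      rintro y (rfl | rfl)
      exacts [(mem_cent1_iff.1 (hc hg.1)).symm, (mem_cent1_iff.1 hg.2).symm]⟩)
    (le_inf hR.1 ((ab_of_sq hE).trans (cent_le_cent1 hv)))
  rw [← h1, inf_relIndex_left, relIndex_cent_eq]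
  refine (Set.ncard_le_ncard (t := {v, z * v}) ?_).trans (Set.ncard_pair hp.rot.ne).le
  rintro _ ⟨g, hg, rfl⟩
  have h2 := conj_mem_of_mem_normalizer (hR.2 hg) hv
  rw [← hV, hp.mem_closure] at h2
  rcases h2 with e | e | e | e
  · exact absurd (by simpa using e) hp.ne₂
  · have := H73.mem_centralizer_singleton_iff_conj.1 (hc hg)
    exact absurd (by simpa using this.trans e.symm) hp.ne
  · exact Or.inl e
  · exact Or.inr e

theorem dih_central {R : Subgroup G} {j : ℕ} {a b : G} (h : DihData R (2 ^ (j + 2)) a b) {r : G}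
    (hr : r ∈ R) (hc : R ≤ 𝐂[r]) (h1 : r ≠ 1) : r = a ^ 2 ^ (j + 1) := by
  have h2 : r ∈ zpowers a := h.mem_zpowers_of_commute (not_pow_dvd_two j) hr
    (mem_cent1_iff.1 (hc h.a_mem)).symm
  have h3 := dih_inv h h.b_mem h.notMem h2
  rw [H73.mem_centralizer_singleton_iff_conj.1 (hc h.b_mem)] at h3
  exact eq_half h.ord h2 h1 (by nth_rewrite 1 [h3]; simp)

theorem exists_res (H : Subgroup G) :
    ∃ L : Subgroup G, L ⊴ H ∧ ⁅L, L⁆ = L ∧ ∀ {X : Type u} [Group X] (φ : H →* X), Function.Surjective φ →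
      L ≤ kerOf φ → Group.IsSolvable X := by
  obtain ⟨_, ⟨n, rfl⟩, hmin⟩ := WellFounded.has_min (wellFounded_lt (α := Subgroup H))
    (Set.range (derivedSeries H)) ⟨_, 0, rfl⟩
  refine ⟨(derivedSeries H n).map H.subtype, normalIn_map_subtype inferInstance, ?_, fun φ hφ hk => ⟨n, ?_⟩⟩
  · rw [← Subgroup.map_commutator, (commutator_le_left _ _).eq_of_not_lt (hmin _ ⟨n + 1, rfl⟩)]
  · rw [← map_derivedSeries_eq hφ, Subgroup.map_eq_bot_iff]
    exact (map_le_map_iff_of_injective H.subtype_injective).1 hk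

theorem loc_of_hom {t : G} (ht : orderOf t = 2) {C : Subgroup G} (hC : 𝐂[t] = C)
    (hns : ¬ Group.IsSolvable C) {T : Subgroup G} (hT : Syl 2 T C) (h7 : len C ≤ 7)
    (hTy : ∀ (Y : Type u) [Group Y] [Finite Y], IsSimpleGroup Y → ¬ IsMulCommutative Y →
      len (⊤ : Subgroup Y) < len C → TyOK Y) {X : Type u} [Group X] [Finite X] (f : C →* X)
    (hf : Function.Surjective f) (hrad : solvableRadical X = ⊥) (hFs : Group.IsSolvable (kerOf f))
    (htF : t ∈ kerOf f) : ∃ Q R L q, Loc t T Q R L q := by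
  have hlen : len (kerOf f) + len (⊤ : Subgroup X) ≤ len C := by
    have := len_ker_add_top f hf
    rwa [len_top, ← len_map_subtype] at this
  have htop : im f C = ⊤ := by rw [im_dom, MonoidHom.range_eq_top.2 hf]
  have hXns : ¬ Group.IsSolvable X := fun h => hns (isSolvable_of_morphim f le_rfl
    (solvableS hFs inf_le_right) (htop ▸ solv_top_iff.2 h))
  have hFN := kerOf_normalIn f
  have hQ : Syl 2 (T ⊓ kerOf f) (kerOf f) := hT.inf_normal hFN.1 hFN.2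
  have hTC := hT.le
  have htT : t ∈ T := (zpowers_le.1 (hT.le_of_le_normalizer (H9.isPGroup_zpowers_of_mul_self
    (H9.mul_self_of_orderOf_two ht)) (zpowers_le.2 (hFN.1 htF)) (hTC.trans (hC.ge.trans
      ((centralizer_zpowers t).ge.trans (centralizer_le_normalizer _))))))
  have hmQ : ∀ g ∈ T, g ∈ T ⊓ kerOf f ↔ ap f g = 1 := fun g hg => by
    rw [ap_eq_one_iff f (hTC hg)]; exact ⟨fun h => h.2, fun h => ⟨hg, h⟩⟩
  have hTQ : T ≤ 𝐍(T ⊓ kerOf f) := le_normalizer_inf le_normalizer (hTC.trans hFN.2)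
  have hQe : ∀ A : Subgroup G, A ≤ T → A ⊓ kerOf f = A ⊓ (T ⊓ kerOf f) := fun A hA => by
    rw [← inf_assoc, inf_eq_left.2 hA]
  have htQ : t ∈ T ⊓ kerOf f := ⟨htT, htF⟩
  have hQT : T ⊓ kerOf f ≤ T := inf_le_left
  have hfr := hQ.frattini_sup hFN.1 hFN.2
  generalize T ⊓ kerOf f = Q at hQ hmQ hTQ hQe htQ hQT hfr
  obtain ⟨q, hq⟩ := exists_card_pow hQ.isP
  have hqF : q ≤ len (kerOf f) := (le_len_of_card hq).trans (len_mono hQ.le)
  have hq1 : 1 ≤ q := by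
    have := card_le_of_le (zpowers_le.2 htQ)
    rw [Nat.card_zpowers, ht, hq] at this
    by_contra h
    rw [show q = 0 by omega] at this
    omega
  have hX4 := four_le_len_top hXns
  have hH : im f (C ⊓ 𝐍(Q)) = ⊤ := by rw [← htop, ← morphimYidl f inf_le_left, hfr]
  obtain ⟨L, hLH, hL, hres⟩ := exists_res (C ⊓ 𝐍(Q))
  have hLC : L ≤ C := hLH.1.trans inf_le_left
  have hLQ : L ≤ 𝐂(Q) := perfect_cent_eight hL (hLH.1.trans inf_le_right)
    (hq ▸ Nat.pow_le_pow_right (n := 2) (j := 3) (by norm_num) (by omega)) ht htQ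
    ((hQT.trans hTC).trans hC.ge) (hLC.trans hC.ge)
  have hTL : T ≤ 𝐍(L) := (le_inf hTC hTQ).trans hLH.2
  have hR : Syl 2 (T ⊓ L) L := hT.inf_of_le_normalizer hLC hTL
  haveI hYn : (im f L).Normal := normal_iff_top_le_normalizer.2 (hH ▸ morphim_norms f hLH.2)
  have hY : ⁅im f L, im f L⁆ = im f L := by rw [← morphimR f hLC hLC, hL]
  have hXY : Group.IsSolvable (X ⧸ im f L) :=
    hres ((QuotientGroup.mk' (im f L)).comp (restrm f inf_le_left))
      ((QuotientGroup.mk'_surjective _).comp fun y => by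
        obtain ⟨g, hg, rfl⟩ := (mem_im_of_le f inf_le_left).1 (hH.ge (mem_top y))
        exact ⟨⟨g, hg⟩, by rw [← ap_coe, ap_restrm f inf_le_left hg]⟩)
      fun g hg => (mem_kerOf_ap _).2 ⟨hLH.1 hg, by
        rw [ap_comp_total, ap_restrm f inf_le_left (hLH.1 hg)]
        exact (QuotientGroup.eq_one_iff _).2 (ap_mem_im f hg)⟩
  have hY1 : im f L ≠ ⊥ := fun e => hXns (H1.isSolvable_of_normal_of_quotient (im f L)
    (by rw [e]; infer_instance) hXY)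
  obtain ⟨hs, hna, hCY⟩ := simple_res hrad (by omega) hY hY1 hXY
  have hYns := not_solvable_of_simple hna
  have hP : Syl 2 (im f T) ⊤ := htop ▸ morphim_pSylow f le_rfl hT
  have hRY : Syl 2 (im f (T ⊓ L)) (im f L) := morphim_pSylow f hLC hR
  have hRe : im f T ⊓ im f L = im f (T ⊓ L) := hRY.max _ (morphimI f T L) inf_le_right hP.isP.to_inf_left
  have hRT : T ⊓ L ≤ T := inf_le_left
  have hReq : T ⊓ L = T ⊓ L := rfl
  have hRN : T ≤ 𝐍(T ⊓ L) := le_normalizer_inf le_normalizer hTL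
  generalize hRdef : T ⊓ L = R at hR hRY hRe hRT hRN
  have hRC := hRT.trans hTC
  have hmY : ∀ g ∈ T, g ∈ Q ⊔ R ↔ ap f g ∈ im f L := fun g hg => by
    constructor
    · intro h
      obtain ⟨u, hu, r, hr, rfl⟩ := (mem_sup_of_le_normalizer_left (hRT.trans hTQ)).1 h
      rw [ap_mul f (hTC (hQT hu)) (hRC hr), (hmQ u (hQT hu)).1 hu, one_mul]
      exact ap_mem_im f (hR.le hr)
    · intro h
      obtain ⟨r, hr, e⟩ := (mem_im_of_le f hRC).1 (hRe.le ⟨ap_mem_im f hg, h⟩)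
      rw [show g = g * r⁻¹ * r by group]
      refine mul_mem (mem_sup_left ((hmQ _ (mul_mem hg (inv_mem (hRT hr)))).2 ?_)) (mem_sup_right hr)
      rw [ap_mul f (hTC hg) (inv_mem (hRC hr)), ap_inv, e, mul_inv_cancel]
  have hcard : Nat.card (im f R) = Q.relIndex R := by
    rw [card_morphim f hRC, ← inf_relIndex_left, hQe R hRT, inf_relIndex_left]
  have hidx : (im f R).relIndex (im f T) = (Q ⊔ R).relIndex T := by
    rw [relIndex_morphim f hTC hRC, ← morphimK f hRC, ← inf_relIndex_left, ← inf_relIndex_left T (Q ⊔ R)]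
    congr 1
    ext g
    refine and_congr_right fun hg => ?_
    change g ∈ pre f (im f R) ↔ g ∈ Q ⊔ R
    rw [mem_pre, hmY g hg, ← hRe]
    exact ⟨fun h => h.2.2, fun h => ⟨hTC hg, ap_mem_im f hg, h⟩⟩
  have hY4 := four_le_len hYns
  have hY5 : 8 ∣ Q.relIndex R → 5 ≤ len (im f L) := fun h =>
    five_le_len hYns ((hcard ▸ h).trans (card_dvd_of_le hRY.le))
  have hYX : len (im f L) ≤ len (⊤ : Subgroup X) := len_mono le_top
  have hYX' : ¬ T ≤ Q ⊔ R → len (im f L) < len (⊤ : Subgroup X) := fun h => len_lt_top fun e =>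
    h fun g hg => (hmY g hg).2 (e ▸ mem_top _)
  have hty : Ty (im f R) := (hTy (im f L) hs hna (by rw [len_top]; omega) _ hRY.subgroupOf_top).of_equiv
    (subgroupOfEquivOfLe hRY.le)
  have hsq : Elem (im f R) → ∀ r ∈ R, r * r ∈ Q := fun h r hr =>
    (hmQ _ (hRT (mul_mem hr hr))).2 (by rw [ap_mul f (hRC hr) (hRC hr)]; exact h.2 _ (ap_mem_im f hr))
  have hcent : Elem (im f R) → im f T ⊓ 𝐂(im f R) ≤ im f L := fun h => by
    have := cent_le_of_ab hs hna hY hCY hP (by rw [hRe]; exact ab_of_sq h.2)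
    rwa [hRe] at this
  have hidx2 : (im f R).relIndex (im f T) ≤ 2 := by
    by_cases h8 : 8 ∣ Q.relIndex R
    · have h1 := len_quot (im f L)
      have h2 := hY5 h8
      have h3 : (im f R).relIndex (im f T) ∣ Nat.card (⊤ : Subgroup (X ⧸ im f L)) := by
        rw [← hRe, inf_relIndex_left, card_top]
        exact relIndex_dvd_index_of_normal _ _
      obtain ⟨k, hk⟩ := exists_card_pow hP.isP
      obtain ⟨m, -, hm⟩ := (Nat.dvd_prime_pow Nat.prime_two).1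
        (hk ▸ relIndex_dvd_card (im f R) (im f T))
      have h4 := le_len_of_pow_dvd Nat.prime_two (hm ▸ h3)
      rw [hm]
      exact Nat.pow_le_pow_right (n := 2) (j := 1) (by norm_num) (by omega)
    · rcases hty with hE | ⟨j, a, b, hD⟩
      · refine relIndex_le_two_of_four hP.isP (morphim_normal f ⟨hRT, hRN⟩)
          (hE.1.resolve_right fun e => h8 (hcard ▸ e ▸ dvd_rfl)) hE.2 fun g hg => ?_
        exact hRe.le ⟨hg.1, hcent hE hg⟩
      · exact absurd (by rw [← hcard, hD.card]; exact ⟨2 ^ j, by ring⟩) h8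
  have hidx3 : T ≤ Q ⊔ R ∨ (Q ⊔ R).relIndex T = 2 := by
    have h1 : (Q ⊔ R).relIndex T ≠ 0 := index_ne_zero_of_finite
    rw [← relIndex_eq_one]
    omega
  refine ⟨Q, R, L, q, htQ, ⟨hQT, hTQ⟩, hq, hL, fun e => hY1 (e ▸ im_bot f), hLQ, hTL, hRdef.symm, hR,
    fun g hg => (hmQ g hg.1).2 ?_, by rw [hC]; omega, fun h => by have := hYX' h; rw [hC]; omega,
    fun h => by have := hY5 h; rw [hC]; omega,
    fun h h' => by have := hY5 h; have := hYX' h'; rw [hC]; omega, hidx3, fun hZ r hr h2 => ?_, ?_⟩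
  · exact mem_bot.1 (hCY.le (morphim_cent f L (ap_mem_im f hg.2)))
  · by_contra hrQ
    have hRQ : R ≤ 𝐂(R ⊓ Q) := hR.le.trans (hLQ.trans (centralizer_anti inf_le_right))
    refine hZ (eq_bot_of_lifts f hRC (hQe R hRT) hR.isP hRQ (fun z hz => mem_der_of_central hL hR hz.1
      (hLQ.trans (cent_le_cent1 hz.2))) hty fun s hs hs2 => ?_)
    by_cases hsQ : s ∈ Q
    · exact ⟨1, one_mem _, by simp, s, ⟨hs, hsQ⟩, by simp⟩
    obtain ⟨y, hy, e⟩ := ty_conj hY hRY hty (ap_mem_im f hr) (mt (hmQ r (hRT hr)).2 hrQ)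
      (by rw [← ap_mul f (hRC hr) (hRC hr), h2, ap_one]) (ap_mem_im f hs) (mt (hmQ s (hRT hs)).2 hsQ)
      (by rw [← ap_mul f (hRC hs) (hRC hs)]; exact (hmQ _ (hRT (mul_mem hs hs))).1 hs2.2)
    obtain ⟨g, hg, rfl⟩ := (mem_im_of_le f hLC).1 hy
    have hcL : g * r * g⁻¹ ∈ L := L.mul_mem (L.mul_mem hg (hR.le hr)) (L.inv_mem hg)
    rw [← ap_conj f (hRC hr) (hLC hg)] at e
    have hLF : L ≤ 𝐍(L ⊓ kerOf f) := le_normalizer_inf le_normalizer (hLC.trans hFN.2)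
    have hZs : Syl 2 (R ⊓ Q) (L ⊓ kerOf f) := by
      have := hR.inf_normal inf_le_left hLF
      rwa [← inf_assoc, inf_eq_left.2 hR.le, hQe R hRT] at this
    have hsN : s ∈ 𝐍(R ⊓ Q) := centralizer_le_normalizer _ (hRQ hs)
    have hK := syl_ext hZs (hLF (hR.le hs)) hsN hs2
    have hKL : L ⊓ kerOf f ⊔ zpowers s ≤ L := sup_le inf_le_left (zpowers_le.2 (hR.le hs))
    have hc2 : g * r * g⁻¹ * (g * r * g⁻¹) = 1 := by rw [conj_mul, h2]; simp
    generalize g * r * g⁻¹ = c at hcL e hc2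
    obtain ⟨k, hk, hle⟩ := hK.exists_cj_le (H9.isPGroup_zpowers_of_mul_self hc2) (zpowers_le.2 (by
      rw [show c = c * s⁻¹ * s by group]
      refine mul_mem (mem_sup_left ⟨L.mul_mem hcL (L.inv_mem (hR.le hs)), ?_⟩)
        (mem_sup_right (mem_zpowers s))
      refine (ap_eq_one_iff f (C.mul_mem (hLC hcL) (C.inv_mem (hRC hs)))).1 ?_
      rw [ap_mul f (hLC hcL) (C.inv_mem (hRC hs)), ap_inv, e, mul_inv_cancel]))
    rcases (mem_ext hsN hs2).1 (hle (cj_mem k (mem_zpowers c))) with h | ⟨u, hu, h⟩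
    · have h1 := (hmQ _ (hRT h.1)).1 h.2
      rw [ap_conj f (hLC hcL) (hLC (hKL hk)), e] at h1
      exact absurd ((hmQ s (hRT hs)).2 (by simpa using h1)) hsQ
    · refine ⟨u * s, mul_mem hu.1 hs, by rw [← h, conj_mul, hc2]; simp, u⁻¹, inv_mem hu, ?_⟩
      rw [hRQ hs u hu, mul_inv_cancel_right]
  · rcases hty with hE | ⟨j, a, b, hD⟩
    · rcases hE.1 with h4 | h8
      · refine Or.inl ⟨hcard ▸ h4, hsq hE, fun g hg h => (hmY g hg).2 (hcent hE ⟨ap_mem_im f hg, ?_⟩)⟩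
        intro y hy
        obtain ⟨r, hr, rfl⟩ := (mem_im_of_le f hRC).1 hy
        have h1 := (hmQ _ (hQT (h r hr))).1 (h r hr)
        rw [ap_mul f (C.mul_mem (C.mul_mem (hTC hg) (hRC hr)) (C.inv_mem (hTC hg))) (C.inv_mem (hRC hr)),
          ap_conj f (hRC hr) (hTC hg), ap_inv, mul_inv_eq_one, mul_inv_eq_iff_eq_mul] at h1
        exact h1.symm
      · refine Or.inr (Or.inl ⟨hcard ▸ h8, hsq hE, hidx3.resolve_right fun h2 => ?_⟩)
        exact not_index_two_eight hY hP (hRe ▸ h8) (hRe ▸ hE.2) (hRe ▸ hcent hE) (by rw [hRe, hidx, h2])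
    · refine Or.inr (Or.inr ⟨by rw [← hcard, hD.card]; exact ⟨2 ^ j, by ring⟩,
        fun r hr s hs hrc hsc hrQ hsQ => (hmQ _ (hRT (mul_mem hr (inv_mem hs)))).2 ?_, fun h => ?_⟩)
      · have key : ∀ r ∈ R, R ≤ 𝐂[r] → r ∉ Q → ap f r = a ^ 2 ^ (j + 1) := fun r hr hc hrQ =>
          dih_central hD (ap_mem_im f hr) ((morphimS f hc).trans (morphim_cent1 f (hRC hr)))
            (mt (hmQ r (hRT hr)).2 hrQ)
        rw [ap_mul f (hRC hr) (C.inv_mem (hRC hs)), ap_inv, key r hr hrc hrQ, key s hs hsc hsQ,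
          mul_inv_cancel]
      · exact ⟨j, dih_of_equiv (imEquiv f hRC ((hQe R hRT).trans h)).symm hD⟩

theorem exists_loc {t : G} (ht : orderOf t = 2) (hns : ¬ Group.IsSolvable 𝐂[t]) {T : Subgroup G}
    (hT : Syl 2 T 𝐂[t]) (h7 : len 𝐂[t] ≤ 7)
    (hTy : ∀ (Y : Type u) [Group Y] [Finite Y], IsSimpleGroup Y → ¬ IsMulCommutative Y →
      len (⊤ : Subgroup Y) < len 𝐂[t] → TyOK Y) : ∃ Q R L q, Loc t T Q R L q := by
  have htC : t ∈ 𝐂[t] := mem_cent1_iff.2 rfl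
  have hker := QuotientGroup.ker_mk' (solvableRadical 𝐂[t])
  refine loc_of_hom ht rfl hns hT h7 hTy (QuotientGroup.mk' (solvableRadical 𝐂[t]))
    (QuotientGroup.mk'_surjective _) H1.solvableRadical_quotient ?_ ?_
  · unfold kerOf
    rw [hker]
    exact Group.isSolvable_of_surjective (f := (𝐂[t].subtype.subgroupMap _))
      (MonoidHom.subgroupMap_surjective _ _)
  · haveI : (zpowers (⟨t, htC⟩ : 𝐂[t])).Normal := ⟨fun n hn g => by
      obtain ⟨i, rfl⟩ := hn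
      have : Commute g ⟨t, htC⟩ := Subtype.ext (mem_cent1_iff.1 g.2)
      simp only
      rw [(this.zpow_right i).eq, mul_inv_cancel_right]
      exact zpow_mem (mem_zpowers _) i⟩
    exact ⟨⟨t, htC⟩, hker.ge (H1.le_solvableRadical inferInstance (mem_zpowers _)), rfl⟩

end H72.Ch
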