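import Mathlib
import Cfsg.Agent.Base
import Cfsg.Agent.Lib.Chain.Loc

/-! Elementary abelian subgroups of order eight containing the involution `t`. -/

set_option autoImplicit false
set_option linter.style.haveILetI false
set_option linter.unusedSectionVars false

namespace H72.Ch

open Cfsg H45 H69 Subgroup H73 H29

universe u

variable {G : Type u} [Group G] [Finite G]

theorem Tri.rot {ρ u v : G} (hp : IsPair u v) (h : Tri ρ u v) : Tri ρ v (u * v) :=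
  ⟨h.2, by rw [h.third hp, hp.comm, ← mul_assoc, hp.sq₂, one_mul]⟩

theorem closure_rot {u v : G} (hp : IsPair u v) : closure ({v, u * v} : Set G) = closure {u, v} := by
  ext x
  rw [hp.mem_closure, hp.rot.mem_closure, hp.comm, ← mul_assoc, hp.sq₂, one_mul]
  tauto

theorem Tri.exists_pow {ρ u v k l : G} (hp : IsPair u v) (h : Tri ρ u v) (hk : k ∈ closure ({u, v} : Set G))
    (hk1 : k ≠ 1) (hl : l ∈ closure ({u, v} : Set G)) (hl1 : l ≠ 1) :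
    ∃ n : ℕ, ρ ^ n * k * (ρ ^ n)⁻¹ = l := by
  have e2 : ∀ y : G, ρ ^ 2 * y * (ρ ^ 2)⁻¹ = ρ * (ρ * y * ρ⁻¹) * ρ⁻¹ := fun y => by rw [pow_two]; group
  rcases hp.mem_closure.1 hk with rfl | rfl | rfl | rfl <;>
    rcases hp.mem_closure.1 hl with rfl | rfl | rfl | rfl <;>
    first
    | exact absurd rfl hk1
    | exact absurd rfl hl1
    | (refine ⟨0, ?_⟩; rw [pow_zero, one_mul, inv_one, mul_one]; done)
    | (refine ⟨1, ?_⟩; rw [pow_one, h.1]; done)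
    | (refine ⟨1, ?_⟩; rw [pow_one, h.2]; done)
    | (refine ⟨1, ?_⟩; rw [pow_one, h.third hp]; done)
    | (refine ⟨2, ?_⟩; rw [e2, h.1, h.2]; done)
    | (refine ⟨2, ?_⟩; rw [e2, h.2, h.third hp]; done)
    | (refine ⟨2, ?_⟩; rw [e2, h.third hp, h.1]; done)

theorem Tri.norm_eq_one {ρ u v k : G} (hp : IsPair u v) (h : Tri ρ u v) (hk : k ∈ closure ({u, v} : Set G)) :
    k * (ρ * k * ρ⁻¹) * (ρ * (ρ * k * ρ⁻¹) * ρ⁻¹) = 1 := by
  rcases hp.mem_closure.1 hk with rfl | rfl | rfl | rfl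
  · simp
  · rw [h.1, h.2, hp.rot.sq₂]
  · rw [h.2, h.third hp, hp.comm, ← mul_assoc, hp.sq₂, one_mul, hp.sq₁]
  · rw [h.third hp, h.1, mul_assoc (u * v), hp.rot.sq₂]

theorem pair_sq {u v k : G} (hp : IsPair u v) (hk : k ∈ closure ({u, v} : Set G)) : k * k = 1 :=
  H19.mul_self_of_isKleinFour hp.isKleinFour hk

theorem mem_cent_pair {u v g : G} : g ∈ 𝐂(closure ({u, v} : Set G)) ↔ u * g = g * u ∧ v * g = g * v := by
  rw [centralizer_closure, mem_centralizer_iff]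
  simp

theorem ncard_coset (V : Subgroup G) (t : G) : ((fun k => k * t) '' (V : Set G)).ncard = Nat.card V :=
  Set.ncard_image_of_injective _ (mul_left_injective t)

theorem card_le_of_conj {T P : Subgroup G} {t g : G} (hT : Syl 2 T 𝐂[t]) (hP : IsPGroup 2 P)
    (h : P ≤ 𝐂[g * t * g⁻¹]) : Nat.card P ≤ Nat.card T := by
  have := (hT.cj g).card_le hP (by rwa [cj_centralizer_singleton])
  rwa [card_cj] at this

theorem Hyp.e_lemma (h : Hyp G) {t u v ρ g : G} (ht : t * t = 1) (hp : IsPair u v)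
    (htV : t ∈ 𝐂(closure ({u, v} : Set G))) (hρ : Tri ρ u v) (hρt : ρ ∈ 𝐂[t])
    (hno : ∀ g : G, g * t * g⁻¹ ∉ closure ({u, v} : Set G)) {P : Subgroup G}
    (hP : P ≤ 𝐍(closure ({u, v} : Set G) ⊔ zpowers t) ⊓ 𝐂[t]) (h16 : 16 ∣ Nat.card P)
    (hg : g ∈ 𝐍(closure ({u, v} : Set G) ⊔ zpowers t)) (hgt : g * t * g⁻¹ ≠ t) : False := by
  have hρV := hρ.mem_norm hp
  have h4 := card_pair hp
  have hpow := fun k hk hk1 l hl hl1 => Tri.exists_pow (k := k) (l := l) hp hρ hk hk1 hl hl1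
  have hsq := fun k hk => pair_sq (k := k) hp hk
  generalize closure ({u, v} : Set G) = V at *
  have htN := centralizer_le_normalizer _ htV
  have ht2 : t * t ∈ V := ht ▸ one_mem V
  have h8 : Nat.card (V ⊔ zpowers t : Subgroup G) = 8 := by
    rw [card_ext htN (by simpa using hno 1) ht2, h4]
  have hρE : ρ ∈ 𝐍(V ⊔ zpowers t) := le_normalizer_sup (zpowers_le.2 hρV) (zpowers_le.2
    (centralizer_le_normalizer _ ((centralizer_zpowers t).ge hρt))) (mem_zpowers ρ)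
  have hm : ∀ n ∈ 𝐍(V ⊔ zpowers t), ∃ k ∈ V, n * t * n⁻¹ = k * t := fun n hn =>
    ((mem_ext htN ht2).1 (conj_mem_of_mem_normalizer hn (mem_sup_right (mem_zpowers t)))).resolve_left
      (hno n)
  have hO : {y | ∃ n ∈ 𝐍(V ⊔ zpowers t), n * t * n⁻¹ = y} = (fun k => k * t) '' (V : Set G) := by
    ext y
    constructor
    · rintro ⟨n, hn, rfl⟩
      obtain ⟨k, hk, e⟩ := hm n hn
      exact ⟨k, hk, e.symm⟩
    · rintro ⟨l, hl, rfl⟩
      by_cases hl1 : l = 1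
      · exact ⟨1, one_mem _, by simp [hl1]⟩
      obtain ⟨k, hk, e⟩ := hm g hg
      obtain ⟨n, hn⟩ := hpow k hk (fun e1 => hgt (by rw [e, e1, one_mul])) l hl hl1
      refine ⟨ρ ^ n * g, mul_mem (pow_mem hρE n) hg, ?_⟩
      rw [show ρ ^ n * g * t * (ρ ^ n * g)⁻¹ = ρ ^ n * (g * t * g⁻¹) * (ρ ^ n)⁻¹ by group, e, ← conj_mul, hn,
        H73.mem_centralizer_singleton_iff_conj.1 (pow_mem hρt n)]
  have hc := card_eq_mul_ncard 𝐍(V ⊔ zpowers t) t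
  rw [hO, ncard_coset, h4] at hc
  refine h.no192 (normalIn_normalizer (V ⊔ zpowers t)) (IsPGroup.of_card (n := 3) h8) (h8 ▸ dvd_rfl) ?_
  rw [hc]
  exact Nat.mul_dvd_mul_left 4 (Nat.Coprime.mul_dvd_of_dvd_of_dvd (by norm_num : Nat.Coprime 16 3)
    (h16.trans (card_dvd_of_le hP)) ((hρ.three_dvd hp).trans (orderOf_dvd_natCard _ (⟨hρE, hρt⟩ :
      ρ ∈ 𝐍(V ⊔ zpowers t) ⊓ 𝐂[t]))))

/-- The case of an elementary Sylow centraliser of order eight: the transfer step. -/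
theorem b1_transfer (hG : commutator G = ⊤) {t u v ρ : G} {T U V : Subgroup G} (ht : t * t = 1)
    (hp : IsPair u v) (hV : closure ({u, v} : Set G) = V) (hρ : Tri ρ u v) (htV : t ∉ V)
    (hT : Syl 2 T 𝐂[t]) (hTm : ∀ y, y ∈ T ↔ y ∈ V ∨ ∃ k ∈ V, y = k * t) (h8 : Nat.card T = 8)
    (hU : Syl 2 U ⊤) (hTU : T ≤ U) (hlt : 8 < Nat.card U) (hUV : U ≤ 𝐂(V)) (hρU : ρ ∈ 𝐍(U))
    (hτ : ∀ g ∈ U, g * t * g⁻¹ * t ∈ V) (hρt : ∃ k ∈ V, ρ * t * ρ⁻¹ = k * t) : False := by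
  have hρV : ρ ∈ 𝐍(V) := hV ▸ hρ.mem_norm hp
  have hsq : ∀ k ∈ V, k * k = 1 := fun k hk => pair_sq hp (hV ▸ hk)
  have hVT : V ≤ T := fun k hk => (hTm k).2 (Or.inl hk)
  have htT : t ∈ T := (hTm t).2 (Or.inr ⟨1, one_mem _, by simp⟩)
  have hcv : ∀ g ∈ U, ∀ k ∈ V, Commute k g := fun g hg k hk => hUV hg k hk
  have hUT : ∀ g ∈ U, g * t * g⁻¹ * t = 1 → g ∈ T := fun g hg e =>
    (hT.max (U ⊓ 𝐂[t]) (le_inf hTU hT.le) inf_le_right hU.isP.to_inf_left).le ⟨hg,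
      H73.mem_centralizer_singleton_iff_conj.2 (by rw [← mul_left_inj t, e, ht])⟩
  let τ : G → G := fun g => g * t * g⁻¹ * t
  have hτe : ∀ g, g * t * g⁻¹ = τ g * t := fun g => by simp only [τ]; rw [mul_assoc (g * t * g⁻¹), ht, mul_one]
  have hτm : ∀ g ∈ U, ∀ g' ∈ U, τ (g * g') = τ g * τ g' := fun g hg g' hg' => by
    simp only [τ]
    rw [show g * g' * t * (g * g')⁻¹ = g * (g' * t * g'⁻¹) * g⁻¹ by group, hτe g', ← conj_mul,
      ← (hcv g hg _ (hτ g' hg')).eq, mul_inv_cancel_right, mul_assoc (τ g')]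
    rw [mul_assoc (τ g'), ht, mul_one]
    exact (comm_of_sq hsq (hτ g hg) (hτ g' hg')).symm
  have hc : ∀ g ∈ U, ρ * g * ρ⁻¹ ∈ U := fun g hg => conj_mem_of_mem_normalizer hρU hg
  obtain ⟨k₀, hk₀, e₀⟩ := hρt
  have hτc : ∀ g ∈ U, τ (ρ * g * ρ⁻¹) = ρ * τ g * ρ⁻¹ := fun g hg => by
    have e1 : ρ * τ g * ρ⁻¹ = ρ * g * ρ⁻¹ * (ρ * t * ρ⁻¹) * (ρ * g * ρ⁻¹)⁻¹ * (ρ * t * ρ⁻¹) := by
      simp only [τ]; group
    have hk1 : τ (ρ * g * ρ⁻¹) ∈ V := hτ _ (hc g hg)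
    rw [e1, e₀, ← conj_mul (b := ρ * g * ρ⁻¹), ← (hcv _ (hc g hg) _ hk₀).eq, mul_inv_cancel_right,
      hτe (ρ * g * ρ⁻¹),
      show k₀ * (τ (ρ * g * ρ⁻¹) * t) * (k₀ * t) = k₀ * τ (ρ * g * ρ⁻¹) * (t * k₀) * t by group,
      ← (hcv t (hTU htT) _ hk₀).eq, comm_of_sq hsq hk₀ hk1]
    generalize τ (ρ * g * ρ⁻¹) = w
    simp only [mul_assoc]
    rw [ht, mul_one, hsq k₀ hk₀, mul_one]
  have hsqU : ∀ g ∈ U, g * g ∈ V := fun g hg => by
    refine ((hTm _).1 (hUT _ (mul_mem hg hg) ((hτm g hg g hg).trans (hsq _ (hτ g hg))))).resolve_right ?_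
    rintro ⟨k, hk, e⟩
    have e1 : g * (k * t) * g⁻¹ = k * t := by rw [← e]; group
    rw [← conj_mul, ← (hcv g hg k hk).eq, mul_inv_cancel_right, mul_right_inj] at e1
    have hgT := hUT g hg (by rw [e1, ht])
    have e2 : g * g = 1 := by
      rcases (hTm g).1 hgT with h1 | ⟨l, hl, rfl⟩
      · exact hsq g h1
      · rw [mul_assoc, ← mul_assoc t, ← (hcv t (hTU htT) l hl).eq, mul_assoc, ht, mul_one, hsq l hl]
    exact htV (by rw [e, mul_eq_one_iff_inv_eq] at e2; exact e2 ▸ inv_mem hk)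
  have hUN : U ≤ 𝐍(V) := hUV.trans (centralizer_le_normalizer _)
  have hder : ∀ g ∈ U, ∀ l ∈ U, g * l * g⁻¹ * l⁻¹ ∈ V := fun g hg l hl => by
    rw [show g * l * g⁻¹ * l⁻¹ = g * l * (g * l) * (l⁻¹ * (g * g)⁻¹ * l) * (l * l)⁻¹ by group]
    exact mul_mem (mul_mem (hsqU _ (mul_mem hg hl))
      (conj_mem_of_mem_normalizer' (hUN hl) (inv_mem (hsqU g hg)))) (inv_mem (hsqU l hl))
  let φ := ap (coset V)
  have hφ : ∀ g ∈ U, ∀ l ∈ U, φ (g * l) = φ g * φ l := fun g hg l hl => ap_mul _ (hUN hg) (hUN hl)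
  have hφ1 : ∀ g ∈ U, φ g = 1 ↔ g ∈ V := fun g hg => coset_eq_one_iff (hUN hg)
  have hφc : ∀ g ∈ U, ∀ l ∈ U, Commute (φ g) (φ l) := fun g hg l hl => by
    have := (hφ1 _ (mul_mem (mul_mem (mul_mem hg hl) (inv_mem hg)) (inv_mem hl))).2 (hder g hg l hl)
    rw [hφ _ (mul_mem (mul_mem hg hl) (inv_mem hg)) _ (inv_mem hl), hφ _ (mul_mem hg hl) _ (inv_mem hg),
      hφ g hg l hl] at this
    simp only [φ, ap_inv] at this
    exact commutatorElement_eq_one_iff_commute.1 this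
  let ν : G → Quo V := fun g => φ g * φ (ρ * g * ρ⁻¹) * φ (ρ * (ρ * g * ρ⁻¹) * ρ⁻¹)
  have hν : ∀ g ∈ U, ∀ l ∈ U, ν (g * l) = ν g * ν l := fun g hg l hl => by
    simp only [ν]
    rw [← conj_mul (a := g) (c := l), ← conj_mul (a := ρ * g * ρ⁻¹), hφ g hg l hl, hφ _ (hc g hg) _ (hc l hl),
      hφ _ (hc _ (hc g hg)) _ (hc _ (hc l hl)), (hφc l hl _ (hc g hg)).mul_mul_mul_comm,
      ((hφc l hl _ (hc _ (hc g hg))).mul_left (hφc _ (hc l hl) _ (hc _ (hc g hg)))).mul_mul_mul_comm]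
  have hνe : ∀ g ∈ U, ν g = φ (g * (ρ * g * ρ⁻¹) * (ρ * (ρ * g * ρ⁻¹) * ρ⁻¹)) := fun g hg => by
    rw [hφ _ (mul_mem hg (hc g hg)) _ (hc _ (hc g hg)), hφ g hg _ (hc g hg)]
  have hVU := hVT.trans hTU
  have hνV : ∀ k ∈ V, ν k = 1 := fun k hk => by
    rw [hνe k (hVU hk), hρ.norm_eq_one hp (hV ▸ hk)]; exact ap_one _
  have hφt : ∀ k ∈ V, φ (k * t) = φ t := fun k hk => by
    rw [hφ k (hVU hk) t (hTU htT), (hφ1 k (hVU hk)).2 hk, one_mul]
  have hφtt : φ t * φ t = 1 := by rw [← hφ t (hTU htT) t (hTU htT), ht]; exact ap_one _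
  have hνt : ν t = φ t := by
    simp only [ν]
    rw [e₀, ← conj_mul, e₀, ← mul_assoc, hφt _ hk₀,
      hφt _ (mul_mem (conj_mem_of_mem_normalizer hρV hk₀) hk₀), hφtt, one_mul]
  let M : Subgroup G :=
    { carrier := {g | g ∈ U ∧ ν g = 1}
      one_mem' := ⟨one_mem _, hνV 1 (one_mem _)⟩
      mul_mem' := fun {a b} ha hb => ⟨mul_mem ha.1 hb.1, by rw [hν a ha.1 b hb.1, ha.2, hb.2, one_mul]⟩
      inv_mem' := fun {a} ha => ⟨inv_mem ha.1, by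
        have := hν a ha.1 _ (inv_mem ha.1)
        rw [mul_inv_cancel, hνV 1 (one_mem _), ha.2, one_mul] at this
        exact this.symm⟩ }
  have hVM : V ≤ M := fun k hk => ⟨hVU hk, hνV k hk⟩
  refine transfer_cyclic hG hU (D := M) ⟨fun g hg => hg.1, le_normalizer_iff.2 fun g hg m hm => ?_⟩
    (hTU htT) (fun g hg => ?_) ht (hTU htT) fun g hg => ?_
  · rw [show g * m * g⁻¹ = g * m * g⁻¹ * m⁻¹ * m by group]
    exact mul_mem (hVM (hder g hg m hm.1)) hm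
  · have h1 : g * (ρ * g * ρ⁻¹) * (ρ * (ρ * g * ρ⁻¹) * ρ⁻¹) ∈ T :=
      hUT _ (mul_mem (mul_mem hg (hc g hg)) (hc _ (hc g hg))) (by
        change τ _ = 1
        rw [hτm _ (mul_mem hg (hc g hg)) _ (hc _ (hc g hg)), hτm g hg _ (hc g hg), hτc _ (hc g hg),
          hτc g hg]
        exact hρ.norm_eq_one hp (hV ▸ hτ g hg))
    rcases (hTm _).1 h1 with h2 | ⟨k, hk, h2⟩
    · exact mem_sup_left ⟨hg, by rw [hνe g hg]; exact (hφ1 _ (hVU h2)).2 h2⟩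
    · rw [show g = g * t * t by rw [mul_assoc, ht, mul_one]]
      refine mul_mem (mem_sup_left ⟨mul_mem hg (hTU htT), ?_⟩) (mem_sup_right (mem_zpowers t))
      rw [hν g hg t (hTU htT), hνe g hg, h2, hφt k hk, hνt, hφtt]
  · have hle := fun P hP => card_le_of_conj (P := P) (g := g) hT hP
    have hm2 : g * t * g⁻¹ * (g * t * g⁻¹) = 1 := by rw [conj_mul, ht]; simp
    generalize g * t * g⁻¹ = m at hg hle hm2
    have hmV : m ∉ V := fun e => by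
      have := hle U hU.isP (hUV.trans (cent_le_cent1 e))
      omega
    have hmT : τ m ≠ 1 := fun e => by
      obtain ⟨k, hk, rfl⟩ := ((hTm m).1 (hUT m hg.1 e)).resolve_left hmV
      have := hg.2
      rw [hν k (hVU hk) t (hTU htT), hνV k hk, one_mul, hνt, hφ1 t (hTU htT)] at this
      exact htV this
    have h1 := hg.2
    have hm1 := hc m hg.1
    have hm3 := hc _ hm1
    rw [hνe m hg.1, hφ1 _ (mul_mem (mul_mem hg.1 hm1) hm3)] at h1
    have hs1 : ρ * m * ρ⁻¹ * (ρ * m * ρ⁻¹) = 1 := by rw [conj_mul, hm2]; simp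
    have hs2 : ρ * (ρ * m * ρ⁻¹) * ρ⁻¹ * (ρ * (ρ * m * ρ⁻¹) * ρ⁻¹) = 1 := by rw [conj_mul, hs1]; simp
    have hτ1 := hτc m hg.1
    generalize ρ * (ρ * m * ρ⁻¹) * ρ⁻¹ = m₂ at h1 hm3 hs2
    generalize ρ * m * ρ⁻¹ = m₁ at h1 hm1 hs1 hτ1
    have hcomm : m₁ * m = m * m₁ := by
      have e1 : m * m₁ * (m * m₁) = 1 := by
        have e2 : m * m₁ = m * m₁ * m₂ * m₂ := by rw [mul_assoc, hs2, mul_one]
        rw [e2, mul_assoc, ← mul_assoc m₂, ← (hcv m₂ hm3 _ h1).eq, mul_assoc (m * m₁ * m₂), hs2, mul_one,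
          hsq _ h1]
      rw [mul_eq_one_iff_eq_inv, mul_inv_rev, inv_eq_of_mul_eq_one_left hs1,
        inv_eq_of_mul_eq_one_left hm2] at e1
      exact e1.symm
    have hmN : m₁ ∈ 𝐍(V ⊔ zpowers m) := centralizer_le_normalizer _ (by
      rw [centralizer_sup, centralizer_zpowers]; exact ⟨hUV hm1, mem_cent1_iff.2 hcomm⟩)
    have hτV : ∀ k ∈ V, τ k = 1 := fun k hk => by
      simp only [τ]; rw [(hcv t (hTU htT) k hk).eq, mul_inv_cancel_right, ht]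
    have h16 := card_ext hmN (fun e => by
      rcases (mem_ext (hUN hg.1) (hm2 ▸ one_mem V)).1 e with e | ⟨k, hk, e⟩
      · rw [hτV _ e] at hτ1
        exact hmT (by simpa using hτ1.symm)
      · rw [e, hτm k (hVU hk) m hg.1, hτV k hk, one_mul] at hτ1
        exact hmT (hρ.eq_one hp (hV ▸ hτ m hg.1) hτ1.symm)) (hs1 ▸ one_mem _)
    rw [card_ext (hUN hg.1) hmV (hm2 ▸ one_mem V), ← hV, card_pair hp, hV] at h16
    have := hle _ (hU.isP.to_le (sup_le (sup_le hVU (zpowers_le.2 hg.1)) (zpowers_le.2 hm1)))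
      (sup_le (sup_le (fun k hk => mem_cent1_iff.2 (hcv m hg.1 k hk)) (zpowers_le.2 (mem_cent1_iff.2 rfl)))
        (zpowers_le.2 (mem_cent1_iff.2 hcomm)))
    omega

end H72.Ch
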