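import Mathlib
import Cfsg.Agent.Base
import Cfsg.Agent.Lib.Chain.UpA

/-! The case of an elementary abelian Sylow centraliser that is not Sylow in the group. -/

set_option autoImplicit false
set_option linter.style.haveILetI false
set_option linter.unusedSectionVars false

namespace H72.Ch

open Cfsg H45 H69 Subgroup H73 H29

universe u

variable {G : Type u} [Group G] [Finite G]

theorem Hyp.b1_core (h : Hyp G) {t u v ρ x : G} {T V : Subgroup G} (ht : t * t = 1) (hp : IsPair u v)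
    (hV : closure ({u, v} : Set G) = V) (hρ : Tri ρ u v) (hρt : ρ ∈ 𝐂[t]) (htV : t ∉ V) (htC : t ∈ 𝐂(V))
    (hT : Syl 2 T 𝐂[t]) (hTe : T = V ⊔ zpowers t) (hxN : x ∈ 𝐍(T)) (hx2 : x * x ∈ T)
    (hx : x * t * x⁻¹ = u * t) (hO : ∀ g ∈ 𝐍(T), ∃ k ∈ V, g * t * g⁻¹ = k * t) : False := by
  have hρV : ρ ∈ 𝐍(V) := hV ▸ hρ.mem_norm hp
  have hmV : ∀ y, y ∈ V ↔ y = 1 ∨ y = u ∨ y = v ∨ y = u * v := fun y => by rw [← hV, hp.mem_closure]
  have hu : u ∈ V := by simp [hmV]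
  have hv : v ∈ V := by simp [hmV]
  have hsq : ∀ k ∈ V, k * k = 1 := fun k hk => pair_sq hp (hV ▸ hk)
  have htN := centralizer_le_normalizer _ htC
  have ht2 : t * t ∈ V := ht ▸ one_mem V
  have hTm : ∀ y, y ∈ T ↔ y ∈ V ∨ ∃ k ∈ V, y = k * t := fun y => by rw [hTe, mem_ext htN ht2]
  have h4 : Nat.card V = 4 := hV ▸ card_pair hp
  have h8 : Nat.card T = 8 := by rw [hTe, card_ext htN htV ht2, h4]
  have hTV : T ≤ 𝐂(V) := hTe ▸ sup_le (ab_of_sq hsq) (zpowers_le.2 htC)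
  have hρT : ρ ∈ 𝐍(T) := hTe ▸ le_normalizer_sup (zpowers_le.2 hρV) (zpowers_le.2
    (centralizer_le_normalizer _ ((centralizer_zpowers t).ge hρt))) (mem_zpowers ρ)
  have hρn : ∀ n : ℕ, ρ ^ n * t * (ρ ^ n)⁻¹ = t := fun n =>
    H73.mem_centralizer_singleton_iff_conj.1 (pow_mem hρt n)
  have hcj : ∀ k ∈ V, ∃ g ∈ 𝐍(T), g * t * g⁻¹ = k * t := fun k hk => by
    by_cases hk1 : k = 1
    · exact ⟨1, one_mem _, by simp [hk1]⟩
    obtain ⟨n, hn⟩ := hρ.exists_pow hp (hV ▸ hu) hp.ne₁ (hV ▸ hk) hk1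
    refine ⟨ρ ^ n * x, mul_mem (pow_mem hρT n) hxN, ?_⟩
    rw [show ρ ^ n * x * t * (ρ ^ n * x)⁻¹ = ρ ^ n * (x * t * x⁻¹) * (ρ ^ n)⁻¹ by group, hx, ← conj_mul, hn,
      hρn]
  have hNV : 𝐍(T) ≤ 𝐍(V) := le_normalizer_iff.2 fun g hg k hk => by
    obtain ⟨n, hn, e⟩ := hcj k hk
    obtain ⟨k₁, hk₁, e₁⟩ := hO g hg
    obtain ⟨k₂, hk₂, e₂⟩ := hO (g * n) (mul_mem hg hn)
    rw [show g * n * t * (g * n)⁻¹ = g * (n * t * n⁻¹) * g⁻¹ by group, e, ← conj_mul, e₁, ← mul_assoc,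
      mul_left_inj, ← eq_mul_inv_iff_mul_eq] at e₂
    exact e₂ ▸ mul_mem hk₂ (inv_mem hk₁)
  have hxT : x ∉ T := fun e => by
    rw [H73.mem_centralizer_singleton_iff_conj.1 (hT.le e)] at hx
    exact hp.ne₁ (by simpa using hx)
  have hxu : x * u * x⁻¹ = u := by
    have e := H73.mem_centralizer_singleton_iff_conj.1 (hT.le hx2)
    rw [show x * x * t * (x * x)⁻¹ = x * (x * t * x⁻¹) * x⁻¹ by group, hx, ← conj_mul, hx, ← mul_assoc,
      mul_eq_right, mul_eq_one_iff_eq_inv, inv_eq_of_mul_eq_one_left hp.sq₁] at e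
    exact e
  have hT16 := card_ext hxN hxT hx2
  have hP16 : IsPGroup 2 (T ⊔ zpowers x : Subgroup G) := IsPGroup.of_card (n := 4) (by rw [hT16, h8]; rfl)
  have hxv : x * v * x⁻¹ = v := by
    rcases (hmV _).1 (conj_mem_of_mem_normalizer (hNV hxN) hv) with e | e | e | e
    · exact absurd (by simpa using e) hp.ne₂
    · exact absurd (by simpa using hxu.trans e.symm) hp.ne
    · exact e
    · obtain ⟨g, -, hg⟩ := hcj v hv
      have := card_le_of_conj (g := g) hT hP16 (hg ▸ sup_le (fun y hy => mem_cent1_iff.2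
        (Commute.mul_right (hTV hy v hv).symm (mem_cent1_iff.1 (hT.le hy)))) (zpowers_le.2
          (H73.mem_centralizer_singleton_iff_conj.2 (by
            rw [← conj_mul, e, hx, hp.comm, mul_assoc, ← mul_assoc u, hp.sq₁, one_mul]))))
      omega
  have hxC : x ∈ 𝐂(V) := hV ▸ mem_cent_pair.2 ⟨(mul_inv_eq_iff_eq_mul.1 hxu).symm,
    (mul_inv_eq_iff_eq_mul.1 hxv).symm⟩
  obtain ⟨U, hU, hle⟩ := exists_isSylowIn_le hP16 (L := 𝐍(T) ⊓ 𝐂(V))
    (sup_le (le_inf le_normalizer hTV) (zpowers_le.2 ⟨hxN, hxC⟩))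
  obtain ⟨k, hk, ρ', hρ', e⟩ := hU.frattini (g := ρ) (le_normalizer_inf le_normalizer
    (le_normalizer_centralizer hNV) hρT)
  have hρ2 : Tri ρ' u v := by
    rw [show ρ' = k⁻¹ * ρ by rw [e]; group]
    exact hρ.of_cent (𝐂(V).inv_mem hk.2 u hu).symm (𝐂(V).inv_mem hk.2 v hv).symm
  have hρ'T : ρ' ∈ 𝐍(T) := by
    rw [show ρ' = k⁻¹ * ρ by rw [e]; group]; exact mul_mem (inv_mem hk.1) hρT
  have hTU : T ≤ U := le_sup_left.trans hle
  have hxU : x ∈ U := hle (mem_sup_right (mem_zpowers x))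
  have hUT : U ⊓ 𝐂[t] = T := hT.max _ (le_inf hTU hT.le) inf_le_right hU.isP.to_inf_left
  have h32 : Nat.card U = 32 := by
    have hc := card_eq_mul_ncard U t
    have hO' : {y | ∃ g ∈ U, g * t * g⁻¹ = y} = (fun k => k * t) '' (V : Set G) := by
      ext y
      constructor
      · rintro ⟨n, hn, rfl⟩
        obtain ⟨k, hk, e⟩ := hO n (hU.le hn).1
        exact ⟨k, hk, e.symm⟩
      · rintro ⟨l, hl, rfl⟩
        by_cases hl1 : l = 1
        · exact ⟨1, one_mem _, by simp [hl1]⟩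
        obtain ⟨n, hn⟩ := hρ2.exists_pow hp (hV ▸ hu) hp.ne₁ (hV ▸ hl) hl1
        obtain ⟨k₁, hk₁, e₁⟩ := hO _ (inv_mem (pow_mem hρ'T n))
        refine ⟨ρ' ^ n * x * (ρ' ^ n)⁻¹, conj_mem_of_mem_normalizer (pow_mem hρ' n) hxU, ?_⟩
        have e₂ : t = ρ' ^ n * (k₁ * t) * (ρ' ^ n)⁻¹ := by rw [← e₁]; group
        rw [show ρ' ^ n * x * (ρ' ^ n)⁻¹ * t * (ρ' ^ n * x * (ρ' ^ n)⁻¹)⁻¹ =
          ρ' ^ n * (x * ((ρ' ^ n)⁻¹ * t * (ρ' ^ n)⁻¹⁻¹) * x⁻¹) * (ρ' ^ n)⁻¹ by group, e₁, ← conj_mul (b := x),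
          hx, ← hxC k₁ hk₁, mul_inv_cancel_right, ← mul_assoc k₁, comm_of_sq hsq hk₁ hu, mul_assoc u,
          ← conj_mul, hn, ← e₂]
    rw [hc, hO', ncard_coset, hUT, h4, h8]
  obtain ⟨S, hS, hUS⟩ := exists_isSylowIn_le hU.isP (le_top : U ≤ ⊤)
  rcases hUS.eq_or_lt with rfl | hlt
  · refine b1_transfer h.perfect ht hp hV hρ2 htV hT hTm h8 hS hTU (by omega)
      (hU.le.trans inf_le_right) hρ' (fun g hg => ?_) (hO _ hρ'T)
    obtain ⟨k, hk, e⟩ := hO g (hU.le hg).1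
    rwa [e, mul_assoc, ht, mul_one]
  · obtain ⟨y, -, hyN, hyU, hy2⟩ := exists_step hS.isP hlt
    exact h.no192' hU.isP (h32 ▸ by norm_num) (sup_le le_normalizer (zpowers_le.2 hyN))
      (by rw [card_ext hyN hyU hy2, h32]) hρ' (hρ2.three_dvd hp)

theorem Hyp.b1_case (h : Hyp G) {t u v ρ x : G} {T V : Subgroup G} (ht : t * t = 1) (hp : IsPair u v)
    (hV : closure ({u, v} : Set G) = V) (hρ : Tri ρ u v) (hρt : ρ ∈ 𝐂[t]) (htV : t ∉ V) (htC : t ∈ 𝐂(V))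
    (hT : Syl 2 T 𝐂[t]) (hTe : T = V ⊔ zpowers t) (hxN : x ∈ 𝐍(T)) (hx2 : x * x ∈ T)
    (hx : x * t * x⁻¹ ≠ t) (hO : ∀ g ∈ 𝐍(T), ∃ k ∈ V, g * t * g⁻¹ = k * t) : False := by
  obtain ⟨k, hk, e⟩ := hO x hxN
  rcases hp.mem_closure.1 (hV ▸ hk) with rfl | rfl | rfl | rfl
  · exact hx (by simpa using e)
  · exact h.b1_core ht hp hV hρ hρt htV htC hT hTe hxN hx2 e hO
  · exact h.b1_core ht hp.rot ((closure_rot hp).trans hV) (hρ.rot hp) hρt htV htC hT hTe hxN hx2 e hO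
  · exact h.b1_core ht hp.rot.rot ((closure_rot hp.rot).trans ((closure_rot hp).trans hV))
      ((hρ.rot hp).rot hp.rot) hρt htV htC hT hTe hxN hx2 e hO

/-- The Sylow centraliser `T` of `t` is not Sylow in the group. -/
structure Up (S T : Subgroup G) (t x : G) : Prop where
  hS : Syl 2 S ⊤
  ht : orderOf t = 2
  Teq : T = S ⊓ 𝐂[t]
  hT : Syl 2 T 𝐂[t]
  xS : x ∈ S
  xN : x ∈ 𝐍(T)
  xT : x ∉ T
  x2 : x * x ∈ T
  max : ∀ s : G, orderOf s = 2 → ¬ Group.IsSolvable 𝐂[s] → ∀ P : Subgroup G, IsPGroup 2 P → P ≤ 𝐂[s] →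
    Nat.card P ≤ Nat.card T

namespace Up

variable {S T Q R L : Subgroup G} {t x : G} {q : ℕ}

theorem tt (U : Up S T t x) : t * t = 1 := H9.mul_self_of_orderOf_two U.ht

theorem TS (U : Up S T t x) : T ≤ S := U.Teq ▸ inf_le_left

theorem ext_le (U : Up S T t x) : T ⊔ zpowers x ≤ S := sup_le U.TS (zpowers_le.2 U.xS)

theorem ext_isP (U : Up S T t x) : IsPGroup 2 (T ⊔ zpowers x : Subgroup G) := U.hS.isP.to_le U.ext_le

theorem ext_card (U : Up S T t x) : Nat.card (T ⊔ zpowers x : Subgroup G) = 2 * Nat.card T :=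
  card_ext U.xN U.xT U.x2

theorem xt_ne (U : Up S T t x) : x * t * x⁻¹ ≠ t := fun e =>
  U.xT (U.Teq ▸ ⟨U.xS, H73.mem_centralizer_singleton_iff_conj.2 e⟩)

theorem not_conj (U : Up S T t x) {r : G} (h : T ⊔ zpowers x ≤ 𝐂[r]) (g : G) : g * t * g⁻¹ ≠ r := fun e => by
  have := card_le_of_conj (g := g) U.hT U.ext_isP (e ▸ h)
  have h1 := U.ext_card
  have h2 : 0 < Nat.card T := Nat.card_pos
  omega

theorem cj_T (U : Up S T t x) : T ^ᶜ x = T := cj_eq_of_mem_normalizer U.xN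

theorem cj_normal (U : Up S T t x) {A : Subgroup G} (h : A ⊴ T) : A ^ᶜ x ⊴ T :=
  ⟨cj_le_of_mem_normalizer h.1 U.xN, by
    rw [← cj_normalizer, ← U.cj_T]; exact cj_mono x h.2⟩

theorem cj_cj_eq (U : Up S T t x) {A : Subgroup G} (h : A ⊴ T) : (A ^ᶜ x) ^ᶜ x = A := by
  rw [cj_cj, cj_eq_of_mem_normalizer (h.2 U.x2)]

theorem cent_xt (U : Up S T t x) : T ≤ 𝐂[x * t * x⁻¹] := by
  rw [← cj_centralizer_singleton, ← U.cj_T]; exact cj_mono x U.hT.le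

theorem inf_cj (U : Up S T t x) (D : Loc t T Q R L q) : Q ⊓ Q ^ᶜ x = ⊥ := by
  by_contra hn
  obtain ⟨s, hs, ho, hc⟩ := exists_central_inv U.ext_isP (N := Q ⊓ Q ^ᶜ x)
    ⟨inf_le_left.trans (D.QT.1.trans le_sup_left), sup_le (le_normalizer_inf D.QT.2 (U.cj_normal D.QT).2)
      (zpowers_le.2 (cj_eq_self_iff.1 (by rw [cj_inf, U.cj_cj_eq D.QT, inf_comm])))⟩ hn
  have := U.max s ho (fun h => not_solvable_of_perfect D.perf D.ne
    (solvableS h (D.LQ.trans (cent_le_cent1 hs.1)))) _ U.ext_isP hc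
  have h1 := U.ext_card
  have h2 : 0 < Nat.card T := Nat.card_pos
  omega

theorem cj_cent (U : Up S T t x) (D : Loc t T Q R L q) : Q ^ᶜ x ≤ 𝐂(Q) :=
  commutator_eq_bot_iff_le_centralizer.1 (eq_bot_iff.2 ((le_inf
    (commutator_le_right_of_le_normalizer ((U.cj_normal D.QT).1.trans D.QT.2))
    (commutator_le_left_of_le_normalizer (D.QT.1.trans (U.cj_normal D.QT).2))).trans (U.inf_cj D).le))

theorem xt_notMem (U : Up S T t x) (D : Loc t T Q R L q) : x * t * x⁻¹ ∉ Q := fun e => by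
  have := (U.inf_cj D).le ⟨e, cj_mem x D.tQ⟩
  rw [mem_bot] at this
  have h1 := U.ht
  rw [show t = 1 by simpa using this, orderOf_one] at h1
  omega

end Up

namespace Loc

variable {T Q R L : Subgroup G} {t : G} {q : ℕ}

theorem RT (D : Loc t T Q R L q) : R ≤ T := D.Req ▸ inf_le_left

theorem RL (D : Loc t T Q R L q) : R ≤ L := D.syl.le

theorem RN (D : Loc t T Q R L q) : R ⊴ T := ⟨D.RT, D.Req ▸ le_normalizer_inf le_normalizer D.TL⟩

theorem RQ (D : Loc t T Q R L q) : R ≤ 𝐂(Q) := D.RL.trans D.LQ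

theorem Lt (D : Loc t T Q R L q) : L ≤ 𝐂[t] := D.LQ.trans (cent_le_cent1 D.tQ)

theorem mem_sup (D : Loc t T Q R L q) {g : G} : g ∈ Q ⊔ R ↔ ∃ u ∈ Q, ∃ r ∈ R, g = u * r :=
  mem_sup_of_le_normalizer_left (D.RT.trans D.QT.2)

theorem card_sup (D : Loc t T Q R L q) : Nat.card (Q ⊔ R : Subgroup G) = 2 ^ q * Q.relIndex R := by
  have h1 := H3.card_sup_mul_card_inf (N := Q) (K := R) (D.RT.trans D.QT.2)
  have h2 := H1.card_mul_relIndex_of_le (inf_le_right : Q ⊓ R ≤ R)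
  rw [inf_relIndex_right] at h2
  rw [← h2, D.cardQ, mul_comm (Nat.card (Q ⊓ R : Subgroup G)), ← mul_assoc] at h1
  exact Nat.eq_of_mul_eq_mul_right Nat.card_pos h1

theorem QR_le (D : Loc t T Q R L q) : Q ⊔ R ≤ T := _root_.sup_le D.QT.1 D.RT

theorem card_R (D : Loc t T Q R L q) (h : R ⊓ Q = ⊥) : Nat.card R = Q.relIndex R := by
  rw [← inf_relIndex_left, h, relIndex_bot_left]

theorem der (D : Loc t T Q R L q) : R ⊓ Q ≤ ⁅R, R⁆ := fun _ hz =>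
  mem_der_of_central D.perf D.syl hz.1 (D.LQ.trans (cent_le_cent1 hz.2))

theorem split_of_ab (D : Loc t T Q R L q) (h : R ≤ 𝐂(R)) : R ⊓ Q = ⊥ :=
  eq_bot_iff.2 (D.der.trans (commutator_eq_bot_iff_le_centralizer.2 h).le)

theorem Q_eq (D : Loc t T Q R L q) (ht : orderOf t = 2) (h : q ≤ 1) : Q = zpowers t :=
  (eq_of_le_of_card_ge (zpowers_le.2 D.tQ) (by
    rw [Nat.card_zpowers, ht, D.cardQ]
    exact Nat.pow_le_pow_right (n := 2) (j := 1) (by norm_num) h)).symm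

end Loc

end H72.Ch
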