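import Mathlib
import Cfsg.Agent.Base
import Cfsg.Agent.Lib.Chain.UpB

/-! The elementary abelian case and the cases with `|Q| = 4`. -/

set_option autoImplicit false
set_option linter.style.haveILetI false
set_option linter.unusedSectionVars false

namespace H72.Ch

open Cfsg H45 H69 Subgroup H73 H29

universe u

variable {G : Type u} [Group G] [Finite G]

open ArithmeticFunction in
theorem omega_bound {H : Subgroup G} (hs : Group.IsSolvable H) {e p r : ℕ} (hp : p.Prime) (hr : r.Prime)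
    (h : 2 ^ e * p * r ∣ Nat.card H) : e + 2 ≤ len H := by
  have := le_len_of_dvd hs h
  rwa [cardFactors_mul (Nat.mul_ne_zero (by positivity) hp.ne_zero) hr.ne_zero,
    cardFactors_mul (by positivity) hp.ne_zero, cardFactors_apply_prime_pow Nat.prime_two,
    cardFactors_apply_prime hp, cardFactors_apply_prime hr] at this

namespace Up

variable {S T Q R L : Subgroup G} {t x : G} {q : ℕ}

theorem elem_case (h : Hyp G) (U : Up S T t x) (D : Loc t T Q R L q) (hE : ∀ y ∈ T, y * y = 1)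
    (hT : T ≤ Q ⊔ R) (h48 : Q.relIndex R = 4 ∨ Q.relIndex R = 8) : False := by
  have hab := ab_of_sq hE
  have hRE : ∀ r ∈ R, r * r = 1 := fun r hr => hE r (D.RT hr)
  have hZ := D.split_of_ab (ab_of_sq hRE)
  have hcR := D.card_R hZ
  rw [← hcR] at h48
  have hTe : T = Q ⊔ R := le_antisymm hT D.QR_le
  have hcT : Nat.card T = 2 ^ q * Nat.card R := by rw [hcR, ← D.card_sup, ← hTe]
  have htT := D.QT.1 D.tQ
  have ht1 : t ≠ 1 := fun e => by have := U.ht; rw [e, orderOf_one] at this; omega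
  have htR : t ∉ R := fun e => ht1 (mem_bot.1 (hZ.le ⟨e, D.tQ⟩))
  have hH : L ⊓ 𝐍(R) ≤ 𝐍(T) ⊓ 𝐂[t] := le_inf (hTe ▸ le_normalizer_sup
    (inf_le_left.trans (D.LQ.trans (centralizer_le_normalizer _))) inf_le_right) (inf_le_left.trans D.Lt)
  have hNt := h.norm_ne (X := T) (fun e => ht1 (mem_bot.1 (e ▸ htT))) U.hT.isP
  have h7 := h.len_le hNt
  have hc := card_eq_mul_ncard 𝐍(T) t
  have hinv : ∀ g ∈ 𝐍(T), ∀ y ∈ {y | ∃ g ∈ 𝐍(T), g * t * g⁻¹ = y},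
      g * y * g⁻¹ ∈ {y | ∃ g ∈ 𝐍(T), g * t * g⁻¹ = y} := by
    rintro g hg _ ⟨n, hn, rfl⟩
    exact ⟨g * n, mul_mem hg hn, by group⟩
  have hOT : {y | ∃ g ∈ 𝐍(T), g * t * g⁻¹ = y} ⊆ (T : Set G) \ {1} := by
    rintro _ ⟨n, hn, rfl⟩
    exact ⟨conj_mem_of_mem_normalizer hn htT, by simpa using ht1⟩
  have hOm : ∀ g ∈ 𝐍(T), g * t * g⁻¹ ∈ {y | ∃ g ∈ 𝐍(T), g * t * g⁻¹ = y} := fun g hg => ⟨g, hg, rfl⟩
  have hOt : t ∈ {y | ∃ g ∈ 𝐍(T), g * t * g⁻¹ = y} := ⟨1, one_mem _, by simp⟩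
  have hOe : ∀ y ∈ {y | ∃ g ∈ 𝐍(T), g * t * g⁻¹ = y}, ∃ g ∈ 𝐍(T), g * t * g⁻¹ = y := fun y hy => hy
  generalize {y | ∃ g ∈ 𝐍(T), g * t * g⁻¹ = y} = O at hc hinv hOT hOm hOt hOe
  have hcl : ∀ u ∈ Q, ∀ r ∈ R, r ≠ 1 → u * r ∈ O → ∀ s ∈ R, s ≠ 1 → u * s ∈ O :=
    fun u hu r hr hr1 hm s hs hs1 => by
      obtain ⟨g, hg, e⟩ := elem_trans D.perf D.syl ⟨h48, hRE⟩ hr hr1 hs hs1
      have := hinv g (hH hg).1 _ hm
      rwa [← conj_mul, e, ← D.LQ hg.1 u hu, mul_inv_cancel_right] at this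
  obtain ⟨u, hu, r, hr, e⟩ := D.mem_sup.1 (hT (conj_mem_of_mem_normalizer U.xN htT))
  have hr1 : r ≠ 1 := fun e1 => U.xt_notMem D (by rw [e, e1, mul_one]; exact hu)
  have hsyl : Syl 2 T (𝐍(T) ⊓ 𝐂[t]) := U.hT.mono (le_inf le_normalizer U.hT.le) inf_le_right
  have hm := H1.card_mul_relIndex_of_le hsyl.le
  have hodd := hsyl.not_dvd_relIndex
  have hp : Nat.card R - 1 ∣ T.relIndex (𝐍(T) ⊓ 𝐂[t]) := by
    have h1 := card_eq_mul_ncard (L ⊓ 𝐍(R)) r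
    have h2 : {y | ∃ g ∈ L ⊓ 𝐍(R), g * r * g⁻¹ = y} = (R : Set G) \ {1} := by
      ext y
      constructor
      · rintro ⟨g, hg, rfl⟩
        exact ⟨conj_mem_of_mem_normalizer hg.2 hr, by simpa using hr1⟩
      · exact fun hy => elem_trans D.perf D.syl ⟨h48, hRE⟩ hr hr1 hy.1 hy.2
    rw [h2, ncard_sharp] at h1
    have h3 := (Dvd.intro _ h1.symm).trans (card_dvd_of_le hH)
    rw [← hm, hcT] at h3
    refine Nat.Coprime.dvd_of_dvd_mul_left ?_ h3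
    rcases h48 with e | e <;> rw [e] <;> exact Nat.Coprime.mul_right (Nat.Coprime.pow_right _ (by norm_num))
      (by norm_num)
  generalize T.relIndex (𝐍(T) ⊓ 𝐂[t]) = m at hm hodd hp
  rw [← hm] at hc
  have hUN : T ⊔ zpowers x ≤ 𝐍(T) := sup_le le_normalizer (zpowers_le.2 U.xN)
  have heven : 2 ∣ O.ncard := by
    have h1 := card_dvd_of_le hUN
    rw [U.ext_card, hc, mul_left_comm, mul_comm 2] at h1
    exact (Nat.prime_two.dvd_mul.1 (Nat.dvd_of_mul_dvd_mul_left Nat.card_pos h1)).resolve_right hodd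
  have hk : Nat.card R ≤ O.ncard := by
    have h1 : insert t ((fun s => u * s) '' ((R : Set G) \ {1})) ⊆ O := by
      rintro _ (rfl | ⟨s, hs, rfl⟩)
      exacts [hOt, hcl u hu r hr hr1 (e ▸ hOm x U.xN) s hs.1 hs.2]
    have h2 := Set.ncard_le_ncard h1
    rw [Set.ncard_insert_of_notMem, Set.ncard_image_of_injective _ (mul_right_injective u),
      ncard_sharp] at h2
    · omega
    · rintro ⟨s, hs, e1⟩
      exact hs.2 (mem_bot.1 (hZ.le ⟨hs.1, (Q.mul_mem_cancel_left hu).1 ((show u * s = t from e1) ▸ D.tQ)⟩))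
  have hsolv : 16 ≤ Nat.card T → Group.IsSolvable 𝐍(T) := fun h16 => by
    by_contra hs
    obtain ⟨k, hk⟩ := exists_card_pow U.hT.isP
    have h3 := le_len_of_card hk
    have h4 := len_add_four (normalIn_normalizer T) (solv_of_pgroup U.hT.isP) hs
    have h5 : 4 ≤ k := (Nat.pow_le_pow_iff_right (by norm_num)).1 (hk ▸ h16 : 2 ^ 4 ≤ 2 ^ k)
    omega
  by_cases hq : q ≤ 1
  · have hQ := D.Q_eq U.ht hq
    have hTm : ∀ y, y ∈ T ↔ y ∈ R ∨ ∃ k ∈ R, y = k * t := fun y => by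
      rw [hTe, hQ, sup_comm, mem_ext (D.RN.2 htT) (U.tt ▸ one_mem R)]
    have hq1 : q = 1 := by
      have := D.cardQ
      rw [hQ, Nat.card_zpowers, U.ht] at this
      exact (Nat.pow_right_injective le_rfl (this.symm.trans (pow_one 2).symm))
    have hO : ∀ y ∈ O, y ∉ R := fun y hy hyR => by
      obtain ⟨g, hg, rfl⟩ := hOe y hy
      have hR1 : ∀ s ∈ R, s ≠ 1 → s ∈ O := fun s hs hs1 => by
        simpa using hcl 1 (one_mem Q) _ hyR (hOT hy).2 (by rwa [one_mul]) s hs hs1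
      obtain ⟨s, hs, hsy⟩ := SetLike.exists_of_lt (lt_of_le_of_ne (zpowers_le.2 hyR) fun e => by
        rw [← e, Nat.card_zpowers, H9.orderOf_conj, U.ht] at h48
        omega)
      have hs1 : s ≠ 1 := fun e => hsy (e ▸ one_mem _)
      have hs2 : g * t * g⁻¹ * s ≠ 1 := fun e => hsy (by
        rw [mul_eq_one_iff_inv_eq] at e; exact e ▸ inv_mem (mem_zpowers _))
      have h1 := hinv _ (inv_mem hg) _ (hR1 s hs hs1)
      have h2 := hinv _ (inv_mem hg) _ (hR1 _ (mul_mem hyR hs) hs2)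
      rw [show g⁻¹ * (g * t * g⁻¹ * s) * g⁻¹⁻¹ = t * (g⁻¹ * s * g⁻¹⁻¹) by group] at h2
      have h3 : g⁻¹ * s * g⁻¹⁻¹ ≠ t := fun e => hsy (by
        rw [show s = g * t * g⁻¹ by rw [← e]; group]; exact mem_zpowers _)
      generalize g⁻¹ * s * g⁻¹⁻¹ = w at h1 h2 h3
      have h4 : ∀ s ∈ R, s ≠ 1 → t * s ∈ O := by
        rcases (hTm w).1 (hOT h1).1 with h5 | ⟨k, hk, rfl⟩
        · exact hcl t D.tQ w h5 (hOT h1).2 h2
        · exact hcl t D.tQ k hk (fun e => h3 (by rw [e, one_mul]))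
            (by rwa [comm_of_sq hE htT (D.RT hk)])
      have h5 : O = (T : Set G) \ {1} := hOT.antisymm fun w hw => by
        rcases (hTm w).1 hw.1 with h5 | ⟨k, hk, rfl⟩
        · exact hR1 w h5 hw.2
        · by_cases hk1 : k = 1
          · simpa [hk1] using hOt
          · rw [comm_of_sq hE (D.RT hk) htT]; exact h4 k hk hk1
      rw [h5, ncard_sharp, hcT, hq1] at heven
      omega
    have hO' : ∀ g ∈ 𝐍(T), ∃ k ∈ R, g * t * g⁻¹ = k * t := fun g hg =>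
      ((hTm _).1 (hOT (hOm g hg)).1).resolve_left (hO _ (hOm g hg))
    rcases h48 with h4 | h8
    · obtain ⟨u, v, hp, hV, ρ, hρ, htri⟩ := elem_tri D.perf D.syl h4 hRE
      exact h.b1_case U.tt hp hV htri (D.Lt hρ) htR (le_centralizer_iff.1 D.RQ D.tQ) U.hT
        (by rw [hTe, hQ, sup_comm]) U.xN U.x2 U.xt_ne hO'
    · have h1 : O.ncard ≤ 8 := by
        rw [← h8, ← ncard_coset R t]
        refine Set.ncard_le_ncard fun y hy => ?_
        obtain ⟨k, hk, e⟩ := ((hTm _).1 (hOT hy).1).resolve_left (hO _ hy)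
        exact ⟨k, hk, e.symm⟩
      rw [h8] at hp
      obtain ⟨c, rfl⟩ := hp
      have := omega_bound (hsolv (by rw [hcT, h8, hq1]; norm_num)) (e := 6) Nat.prime_two Nat.prime_seven
        (by rw [hc, show O.ncard = 8 by omega, hcT, h8, hq1]; exact ⟨c, by ring⟩)
      omega
  · obtain ⟨q', rfl⟩ : ∃ q', q = q' + 2 := ⟨q - 2, by omega⟩
    have hs := hsolv (by
      rw [hcT, pow_add]; have := Nat.one_le_two_pow (n := q'); rcases h48 with e | e <;> rw [e] <;> nlinarith)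
    obtain ⟨k, hk'⟩ := heven
    obtain ⟨p, hpp, c, rfl⟩ := Nat.exists_prime_and_dvd (n := k) (by omega)
    rcases h48 with h4 | h8
    swap
    · rw [h8] at hp
      obtain ⟨d, rfl⟩ := hp
      have := omega_bound hs (e := q' + 6) hpp Nat.prime_seven
        (by rw [hc, hk', hcT, h8]; exact ⟨c * d, by ring⟩)
      omega
    rw [h4] at hp
    obtain ⟨d, rfl⟩ := hp
    have h8 := omega_bound hs (e := q' + 5) hpp Nat.prime_three
      (by rw [hc, hk', hcT, h4]; exact ⟨c * d, by ring⟩)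
    obtain rfl : q' = 0 := by omega
    have h16 : Nat.card T = 16 := by rw [hcT, h4]; rfl
    have h128 := h.card_syl (by have := len_lt_top hNt; omega) U.hS
    have h32 := U.ext_card
    obtain ⟨y, -, hyN, hyU, hy2⟩ := exists_step U.hS.isP (lt_of_le_of_ne U.ext_le fun e => by
      rw [e] at h32; omega)
    have hyT : T ^ᶜ y ≠ T := fun e => by
      have h1 := card_dvd_of_le (sup_le hUN (zpowers_le.2 (cj_eq_self_iff.1 e)))
      rw [card_ext hyN hyU hy2, h32, h16] at h1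
      exact h.no192 (normalIn_normalizer T) U.hT.isP (by rw [h16]; norm_num)
        (Nat.Coprime.mul_dvd_of_dvd_of_dvd (by norm_num : Nat.Coprime 64 3) h1
          (by rw [hc]; exact ⟨O.ncard * (Nat.card T * d), by ring⟩))
    have hyU' : T ^ᶜ y ≤ T ⊔ zpowers x := cj_le_of_mem_normalizer le_sup_left hyN
    obtain ⟨w, hw, hwT⟩ : ∃ w ∈ T ^ᶜ y, w ∉ T := by
      by_contra hn
      push Not at hn
      exact hyT (cj_eq_of_cj_le hn)
    obtain ⟨k, hk, rfl⟩ := ((mem_ext U.xN U.x2).1 (hyU' hw)).resolve_left hwT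
    have h1 := card_mul_card_le (le_sup_left : T ≤ T ⊔ zpowers x) hyU'
    have h2 := card_mul_card_le (inf_le_left : T ⊓ T ^ᶜ y ≤ T) D.QT.1
    rw [card_cj, h32, h16] at h1
    rw [D.cardQ, h16] at h2
    obtain ⟨s, hs, hs1⟩ := (T ⊓ T ^ᶜ y ⊓ Q).bot_or_exists_ne_one.resolve_left fun e => by
      rw [e, card_bot] at h2; omega
    have h3 : T ^ᶜ y ≤ 𝐂(T ^ᶜ y) := by rw [← cj_centralizer]; exact cj_mono y hab
    have h4 : x * s * x⁻¹ = s := by
      have := h3 hw s hs.1.2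
      rw [← mul_assoc, comm_of_sq hE hs.1.1 hk, mul_assoc, mul_assoc, mul_right_inj] at this
      rw [← this, mul_inv_cancel_right]
    exact hs1 (mem_bot.1 ((U.inf_cj D).le ⟨hs.2, h4 ▸ cj_mem x hs.2⟩))

theorem sq_one (U : Up S T t x) (D : Loc t T Q R L q) (hq : ∀ u ∈ Q, ∀ r ∈ R, r * r ∈ Q)
    (hT : T ≤ Q ⊔ R) : ∀ y ∈ T, y * y = 1 := by
  have h1 : ∀ y ∈ T, y * y ∈ Q := fun y hy => by
    obtain ⟨u, hu, r, hr, rfl⟩ := D.mem_sup.1 (hT hy)
    rw [mul_assoc, ← mul_assoc r, ← D.RQ hr u hu, mul_assoc, ← mul_assoc u]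
    exact mul_mem (mul_mem hu hu) (hq u hu r hr)
  intro y hy
  refine mem_bot.1 ((U.inf_cj D).le ⟨h1 y hy, mem_cj.2 ?_⟩)
  rw [show x⁻¹ * (y * y) * x = x⁻¹ * y * x * (x⁻¹ * y * x) by group]
  exact h1 _ (conj_mem_of_mem_normalizer' U.xN hy)

theorem cent_cj (U : Up S T t x) (h : T ≤ 𝐂(Q)) : T ≤ 𝐂(Q ^ᶜ x) := by
  rw [← cj_centralizer, ← U.cj_T]; exact cj_mono x h

theorem four_case (h : Hyp G) (U : Up S T t x) (D : Loc t T Q R L 2) (h4 : Q.relIndex R = 4)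
    (hsq : ∀ r ∈ R, r * r ∈ Q) (hC : ∀ g ∈ T, (∀ r ∈ R, g * r * g⁻¹ * r⁻¹ ∈ Q) → g ∈ Q ⊔ R)
    (h2 : (Q ⊔ R).relIndex T = 2) : False := by
  have hQ : Q ≤ 𝐂(Q) := abelian_of_card_four D.cardQ
  have h0 : Q ⊔ R ≤ 𝐂(Q) := sup_le hQ D.RQ
  have hxT := (U.cj_normal D.QT).1
  have h1 : Q ^ᶜ x ≤ Q ⊔ R := fun y hy => by
    by_contra hn
    have h3 : T ≤ 𝐂(Q) := fun g hg => by
      by_cases hg' : g ∈ Q ⊔ R
      · exact h0 hg'
      · obtain ⟨k, hk, rfl⟩ := eq_mul_of_relIndex_two h2 (hxT hy) hn hg hg'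
        exact mul_mem (h0 hk) (U.cj_cent D hy)
    refine hn (hC y (hxT hy) fun r hr => ?_)
    rw [U.cent_cj h3 (D.RT hr) y hy, mul_inv_cancel_right, mul_inv_cancel]
    exact one_mem Q
  have h16 : Nat.card (Q ⊔ R : Subgroup G) = 16 := by rw [D.card_sup, h4]; rfl
  have he : Q ⊔ Q ^ᶜ x = Q ⊔ R := eq_of_le_of_card_ge (sup_le le_sup_left h1) (by
    have := H3.card_sup_mul_card_inf (N := Q) (K := Q ^ᶜ x) (hxT.trans D.QT.2)
    rw [U.inf_cj D, card_bot, card_cj, D.cardQ] at this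
    omega)
  have hab : Q ⊔ R ≤ 𝐂(Q ⊔ R) := by
    nth_rewrite 2 [← he]
    rw [centralizer_sup]
    refine le_inf h0 ?_
    rw [← he]
    exact sup_le (le_centralizer_iff.1 (U.cj_cent D)) (by rw [← cj_centralizer]; exact cj_mono x hQ)
  have hZ := D.split_of_ab (le_sup_right.trans (hab.trans (centralizer_anti le_sup_right)))
  obtain ⟨u, v, hp, hV, ρ, hρ, htri⟩ := elem_tri D.perf D.syl (by rw [D.card_R hZ, h4]) fun r hr =>
    mem_bot.1 (hZ.le ⟨mul_mem hr hr, hsq r hr⟩)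
  refine h.no192' (E := Q ⊔ R) (P := T ⊔ zpowers x) (U.hT.isP.to_le D.QR_le) (by rw [h16]; norm_num)
    (sup_le (norm_of_relIndex_two D.QR_le h2) (zpowers_le.2 (cj_eq_self_iff.1 ?_))) ?_
    (le_normalizer_sup (zpowers_le.2 (centralizer_le_normalizer _ (D.LQ hρ)))
      (zpowers_le.2 (hV ▸ htri.mem_norm hp)) (mem_zpowers ρ)) (htri.three_dvd hp)
  · rw [← he, cj_sup, U.cj_cj_eq D.QT, sup_comm]
  · rw [U.ext_card, ← H1.card_mul_relIndex_of_le D.QR_le, h16, h2]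

theorem dih_four_case (U : Up S T t x) (D : Loc t T Q R L 2) (hT : T ≤ Q ⊔ R)
    (hz : ∀ r ∈ R, ∀ s ∈ R, R ≤ 𝐂[r] → R ≤ 𝐂[s] → r ∉ Q → s ∉ Q → r * s⁻¹ ∈ Q) : False := by
  have hQ : Q ≤ 𝐂(Q) := abelian_of_card_four D.cardQ
  have h3 := U.cent_cj (hT.trans (sup_le hQ D.RQ))
  have hb : ∀ y ∈ Q ^ᶜ x, y ∈ Q → y = 1 := fun y hy hy' => mem_bot.1 ((U.inf_cj D).le ⟨hy', hy⟩)
  have key : ∀ y ∈ Q ^ᶜ x, y ≠ 1 → ∃ u ∈ Q, ∃ r ∈ R, y = u * r ∧ R ≤ 𝐂[r] ∧ r ∉ Q := fun y hy hy1 => by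
    obtain ⟨u, hu, r, hr, rfl⟩ := D.mem_sup.1 (hT ((U.cj_normal D.QT).1 hy))
    refine ⟨u, hu, r, hr, rfl, fun g hg => mem_cent1_iff.2 ?_, fun e => hy1 (hb _ hy (mul_mem hu e))⟩
    have := h3 (D.RT hg) _ hy
    rw [← mul_assoc, ← D.RQ hg u hu, mul_assoc, mul_assoc, mul_right_inj] at this
    exact this.symm
  have h1 : 1 < ((Q ^ᶜ x : Subgroup G) \ {1} : Set G).ncard := by
    rw [ncard_sharp, card_cj, D.cardQ]; norm_num
  obtain ⟨y, z, hy, hz', hyz⟩ := (Set.one_lt_ncard_iff (Set.toFinite _)).1 h1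
  obtain ⟨u, hu, r, hr, e, h4, h5⟩ := key y hy.1 hy.2
  obtain ⟨v, hv, s, hs, f, h6, h7⟩ := key z hz'.1 hz'.2
  refine hyz (mul_inv_eq_one.1 (hb _ (mul_mem hy.1 (inv_mem hz'.1)) ?_))
  rw [e, f, show u * r * (v * s)⁻¹ = u * (r * s⁻¹) * v⁻¹ by group]
  exact mul_mem (mul_mem hu (hz r hr s hs h4 h6 h5 h7)) (inv_mem hv)

end Up

theorem der_le_of_sup {N A T : Subgroup G} (hN : N ⊴ T) (hA : A ≤ T) (hab : A ≤ 𝐂(A)) (h : T ≤ N ⊔ A) :
    ⁅T, T⁆ ≤ N := commutator_le.2 fun g hg k hk => by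
  obtain ⟨n, hn, a, ha, rfl⟩ := (mem_sup_of_le_normalizer_left (hA.trans hN.2)).1 (h hg)
  obtain ⟨m, hm, b, hb, rfl⟩ := (mem_sup_of_le_normalizer_left (hA.trans hN.2)).1 (h hk)
  rw [commutatorElement_def, show n * a * (m * b) * (n * a)⁻¹ * (m * b)⁻¹ =
    n * (a * m * a⁻¹) * (a * b * a⁻¹ * b⁻¹) * (b * n⁻¹ * b⁻¹) * m⁻¹ by group, hab hb a ha,
    mul_inv_cancel_right, mul_inv_cancel, mul_one]
  exact mul_mem (mul_mem (mul_mem hn (conj_mem_of_mem_normalizer (hN.2 (hA ha)) hm))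
    (conj_mem_of_mem_normalizer (hN.2 (hA hb)) (inv_mem hn))) (inv_mem hm)

theorem Loc.der_le {T Q R L : Subgroup G} {t : G} {q : ℕ} (D : Loc t T Q R L q) (hT : T ≤ 𝐂[t])
    (hQ : Q = zpowers t) : ⁅T, T⁆ ≤ R := by
  have htT := D.QT.1 D.tQ
  rcases D.idx with h | h
  · exact der_le_of_sup D.RN D.QT.1 (hQ ▸ zpowers_le.2 ((centralizer_zpowers t).ge (hT htT)))
      (by rwa [sup_comm])
  · obtain ⟨f, hf, hfR⟩ := SetLike.exists_of_lt (lt_of_le_of_ne D.QR_le fun e => by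
      rw [e, relIndex_self] at h; omega)
    refine der_le_of_sup (A := zpowers t ⊔ zpowers f) D.RN (sup_le (zpowers_le.2 htT) (zpowers_le.2 hf)) ?_
      fun g hg => ?_
    · rw [centralizer_sup, centralizer_zpowers, centralizer_zpowers]
      exact le_inf (sup_le (zpowers_le.2 (hT htT)) (zpowers_le.2 (hT hf)))
        (sup_le (zpowers_le.2 (mem_cent1_iff.2 (mem_cent1_iff.1 (hT hf)).symm))
          (zpowers_le.2 (mem_cent1_iff.2 rfl)))
    · have h1 : Q ⊔ R ≤ R ⊔ (zpowers t ⊔ zpowers f) :=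
        sup_le (hQ ▸ le_sup_of_le_right le_sup_left) le_sup_left
      by_cases hg' : g ∈ Q ⊔ R
      · exact h1 hg'
      · obtain ⟨k, hk, rfl⟩ := eq_mul_of_relIndex_two h hf hfR hg hg'
        exact mul_mem (h1 hk) (mem_sup_right (mem_sup_right (mem_zpowers f)))

end H72.Ch
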