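import Mathlib
import Cfsg.Agent.Base
import Cfsg.Agent.Lib.Chain.UpC

/-! The split cases with `Q = ⟨t⟩`. -/

set_option autoImplicit false
set_option linter.style.haveILetI false
set_option linter.unusedSectionVars false

namespace H72.Ch

open Cfsg H45 H69 Subgroup H73 H29

universe u

variable {G : Type u} [Group G] [Finite G]

theorem dihData_sup {m : ℕ} {c b : G} (h1 : orderOf c = m) (h2 : b * b = 1) (h3 : b * c * b⁻¹ = c⁻¹)
    (h4 : b ∉ zpowers c) : DihData (zpowers c ⊔ zpowers b) m c b :=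
  ⟨h1, h2, h3, h4, fun g => by
    rw [mem_ext (cj_eq_self_iff.1 (by rw [cj_zpowers, h3, zpowers_inv])) (h2 ▸ one_mem _)]
    constructor
    · rintro (⟨i, rfl⟩ | ⟨_, ⟨i, rfl⟩, rfl⟩)
      exacts [⟨i, Or.inl rfl⟩, ⟨i, Or.inr rfl⟩]
    · rintro ⟨i, rfl | rfl⟩
      exacts [Or.inl ⟨i, rfl⟩, Or.inr ⟨_, ⟨i, rfl⟩, rfl⟩]⟩

theorem mem_norm_triple {u v t g : G} (h1 : g * u * g⁻¹ ∈ closure ({u, v} : Set G) ⊔ zpowers t)
    (h2 : g * v * g⁻¹ ∈ closure ({u, v} : Set G) ⊔ zpowers t)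
    (h3 : g * t * g⁻¹ ∈ closure ({u, v} : Set G) ⊔ zpowers t) :
    g ∈ 𝐍(closure ({u, v} : Set G) ⊔ zpowers t) :=
  mem_normalizer_of_cj_le (by
    rw [cj_sup, cj_zpowers, map_conj_closure_pair]
    exact sup_le ((closure_le _).2 (Set.pair_subset h1 h2)) (zpowers_le.2 h3))

theorem elem_tri_at {L R : Subgroup G} (hL : ⁅L, L⁆ = L) (hR : Syl 2 R L) (h4 : Nat.card R = 4)
    (hE : ∀ r ∈ R, r * r = 1) {z : G} (hz : z ∈ R) (hz1 : z ≠ 1) :
    ∃ v, IsPair z v ∧ closure ({z, v} : Set G) = R ∧ ∃ ρ ∈ L, Tri ρ z v := by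
  obtain ⟨u, v, hp, hV, ρ, hρ, h⟩ := elem_tri hL hR h4 hE
  rcases hp.mem_closure.1 (hV ▸ hz) with rfl | rfl | rfl | rfl
  · exact absurd rfl hz1
  · exact ⟨v, hp, hV, ρ, hρ, h⟩
  · exact ⟨_, hp.rot, (closure_rot hp).trans hV, ρ, hρ, h.rot hp⟩
  · exact ⟨_, hp.rot.rot, (closure_rot hp.rot).trans ((closure_rot hp).trans hV), ρ, hρ,
      (h.rot hp).rot hp.rot⟩

/-- The split situation `⟨t⟩ × R ≤ T` with `t` not fused into `R`. -/
structure Spl (t : G) (T R L : Subgroup G) : Prop where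
  perf : ⁅L, L⁆ = L
  syl : Syl 2 R L
  Lt : L ≤ 𝐂[t]
  RN : R ⊴ T
  tT : t ∈ T
  idx : T ≤ R ⊔ zpowers t ∨ (R ⊔ zpowers t).relIndex T = 2
  hno : ∀ g : G, g * t * g⁻¹ ∉ R

namespace Up

variable {S T R L : Subgroup G} {t x : G}

theorem mem_T0 (U : Up S T t x) (P : Spl t T R L) {g : G} :
    g ∈ R ⊔ zpowers t ↔ g ∈ R ∨ ∃ k ∈ R, g = k * t := mem_ext (P.RN.2 P.tT) (U.tt ▸ one_mem R)

theorem card_T0 (U : Up S T t x) (P : Spl t T R L) :
    Nat.card (R ⊔ zpowers t : Subgroup G) = 2 * Nat.card R :=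
  card_ext (P.RN.2 P.tT) (by simpa using P.hno 1) (U.tt ▸ one_mem R)

theorem ext_case (h : Hyp G) (U : Up S T t x) (P : Spl t T R L) {j : ℕ} {a b : G}
    (hD : DihData R (2 ^ (j + 1)) a b) (h2 : (R ⊔ zpowers t).relIndex T = 2)
    (hc : Cls a b 1 (x * b * x⁻¹ * b * (x * b * x⁻¹)⁻¹)) : False := by
  have hsT : x * b * x⁻¹ ∈ T := conj_mem_of_mem_normalizer U.xN (P.RN.1 hD.b_mem)
  have hs2 : x * b * x⁻¹ * (x * b * x⁻¹) = 1 := by rw [conj_mul, hD.bb]; simp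
  have hxs : x * (x * b * x⁻¹) * x⁻¹ ∈ R := by
    rw [show x * (x * b * x⁻¹) * x⁻¹ = x * x * b * (x * x)⁻¹ by group]
    exact conj_mem_of_mem_normalizer (P.RN.2 U.x2) hD.b_mem
  have hsno : ∀ g : G, g * t * g⁻¹ ≠ x * b * x⁻¹ := fun g e => P.hno (x⁻¹ * g) (by
    rw [show x⁻¹ * g * t * (x⁻¹ * g)⁻¹ = x⁻¹ * (g * t * g⁻¹) * x by group, e]
    simpa [mul_assoc] using hD.b_mem)
  generalize hs : x * b * x⁻¹ = s at hc hsT hs2 hxs hsno
  obtain ⟨k, hk⟩ := hc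
  have hb1 : b⁻¹ = b := inv_eq_of_mul_eq_one_left hD.bb
  have hs1 : s⁻¹ = s := inv_eq_of_mul_eq_one_left hs2
  have hcc : (b * s) ^ 2 = (a ^ (2 * k + 1))⁻¹ := by
    rw [← hD.conj_zpow, hb1, mul_assoc, ← hk, hs1, pow_two]; group
  have hhalf : (b * s) ^ 2 ^ (j + 1) = a ^ 2 ^ j := by
    rw [pow_succ' 2 j, pow_mul, hcc]
    refine eq_half hD.ord (pow_mem (inv_mem (zpow_mem (mem_zpowers a) _)) _) (fun e => half_ne hD.ord ?_) ?_
    · obtain ⟨i, hi⟩ := mem_zpowers_odd hD.ord k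
      rw [inv_pow, inv_eq_one] at e
      rw [← hi]
      simp only
      rw [← zpow_natCast, ← zpow_mul, mul_comm i, zpow_mul, zpow_natCast, e, one_zpow]
    · rw [← pow_two, ← pow_mul, ← pow_succ, ← hD.ord, inv_pow, ← zpow_natCast, ← zpow_mul, mul_comm,
        zpow_mul, zpow_natCast, pow_orderOf_eq_one, one_zpow, inv_one]
  have hord : orderOf (b * s) = 2 ^ (j + 2) := orderOf_eq_prime_pow (hhalf ▸ half_ne hD.ord)
    (by rw [pow_succ 2 (j + 1), pow_mul, hhalf, pow_two, half_sq hD.ord])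
  have hD' := dihData_sup hord hD.bb (by rw [mul_inv_rev, hs1, hb1, ← mul_assoc, hD.bb, one_mul]) fun e =>
    hD.notMem (by
      have := eq_half hord e (fun e1 => hD.notMem (e1 ▸ one_mem _)) hD.bb
      rw [hhalf] at this
      exact this ▸ pow_mem (mem_zpowers a) _)
  have hsc : Cls (b * s) b 1 s := ⟨-1, by simp [hb1, hs1, mul_assoc, hD.bb]⟩
  have hDT : zpowers (b * s) ⊔ zpowers b ≤ T :=
    sup_le (zpowers_le.2 (mul_mem (P.RN.1 hD.b_mem) hsT)) (zpowers_le.2 (P.RN.1 hD.b_mem))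
  have hxD : (zpowers (b * s) ⊔ zpowers b) ^ᶜ x = zpowers (s * (x * s * x⁻¹)) ⊔ zpowers s := by
    rw [cj_sup, cj_zpowers, cj_zpowers, ← conj_mul, hs]
  generalize zpowers (b * s) ⊔ zpowers b = D at hD' hDT hxD
  generalize b * s = c at hD' hsc hhalf hcc hord
  have hRD : R ≤ D := fun r hr => by
    have ha : a ∈ D := zpowers_le.2 (by simpa [hcc] using inv_mem (pow_mem hD'.a_mem 2) :
      a ^ (2 * k + 1) ∈ D) (mem_zpowers_odd hD.ord k)
    obtain ⟨i, rfl | rfl⟩ := (hD.mem r).1 hr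
    exacts [zpow_mem ha i, mul_mem (zpow_mem ha i) hD'.b_mem]
  have hno : ∀ g : G, g * t * g⁻¹ ∉ D := fun g hg => by
    by_cases h1 : g * t * g⁻¹ ∈ zpowers c
    · have := eq_half hord h1 (fun e => P.hno g (e ▸ one_mem R)) (by rw [conj_mul, U.tt]; simp)
      exact P.hno g (this ▸ hhalf ▸ pow_mem hD.a_mem _)
    · rcases exists_cls hD' hg h1 with h3 | h3
      · obtain ⟨l, -, e⟩ := Cls.exists_conj hD' h3 (g' := b) ⟨0, by simp⟩
        exact P.hno (l * g) (by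
          rw [show l * g * t * (l * g)⁻¹ = l * (g * t * g⁻¹) * l⁻¹ by group, e]; exact hD.b_mem)
      · obtain ⟨l, -, e⟩ := Cls.exists_conj hD' h3 hsc
        exact hsno (l * g) (by rw [← e]; group)
  have hi : D.relIndex T = 2 := relIndex_two_of_card hDT (by
    rw [← H1.card_mul_relIndex_of_le (sup_le P.RN.1 (zpowers_le.2 P.tT)), h2, U.card_T0 P, hD.card,
      hD'.card]; ring)
  refine swap_lemma h.perfect U.hS U.tt (U.TS P.tT) hD' (fun g => ?_) hno U.xS (U.Teq ▸ U.xN)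
    (U.Teq ▸ U.xT) (mem_normalizer_of_cj_le ?_) (hs ▸ hsc)
  · rw [← U.Teq]
    refine ⟨fun hg => or_iff_not_imp_left.2 fun hg' => ?_, ?_⟩
    · exact eq_mul_of_relIndex_two hi P.tT (by simpa using hno 1) hg hg'
    · rintro (hg | ⟨d, hd, rfl⟩)
      exacts [hDT hg, mul_mem (hDT hd) P.tT]
  · have := (hsc.mem hD').1
    rw [hxD]
    exact sup_le (zpowers_le.2 (mul_mem this (hRD hxs))) (zpowers_le.2 this)

theorem v_case (h : Hyp G) (U : Up S T t x) (P : Spl t T R L) (h4 : Nat.card R = 4)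
    (hE : ∀ r ∈ R, r * r = 1) (hC : T ⊓ 𝐂(R) ≤ R ⊔ zpowers t) (h2 : (R ⊔ zpowers t).relIndex T = 2)
    {z : G} (hz : z ∈ R) (hz1 : z ≠ 1) (hzc : T ⊔ zpowers x ≤ 𝐂[z]) : False := by
  obtain ⟨v, hp, hV, ρ, hρ, htri⟩ := elem_tri_at P.perf P.syl h4 hE hz hz1
  have hv : v ∈ R := hV ▸ subset_closure (by simp)
  have hT0 : R ⊔ zpowers t ≤ T := sup_le P.RN.1 (zpowers_le.2 P.tT)
  have hxt : x * t * x⁻¹ ∈ R ⊔ zpowers t := hC ⟨conj_mem_of_mem_normalizer U.xN P.tT,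
    fun r hr => mem_cent1_iff.1 (U.cent_xt (P.RN.1 hr))⟩
  have hcz : ∀ g ∈ T ⊔ zpowers x, g * z * g⁻¹ = z := fun g hg =>
    H73.mem_centralizer_singleton_iff_conj.1 (hzc hg)
  by_cases hs : x * v * x⁻¹ ∈ R ⊔ zpowers t
  · refine h.e_lemma U.tt hp (hV ▸ fun r hr => mem_cent1_iff.1 (U.hT.le (P.RN.1 hr))) htri (P.Lt hρ)
      (hV ▸ P.hno) (P := T) (le_inf (hV ▸ norm_of_relIndex_two hT0 h2) U.hT.le) ?_
      (mem_norm_triple ?_ (hV ▸ hs) (hV ▸ hxt)) U.xt_ne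
    · rw [← H1.card_mul_relIndex_of_le hT0, h2, U.card_T0 P, h4]
    · rw [hcz x (mem_sup_right (mem_zpowers x)), hV]; exact mem_sup_left hz
  · have hsT : x * v * x⁻¹ ∈ T := conj_mem_of_mem_normalizer U.xN (P.RN.1 hv)
    have hD : DihData R (2 ^ (0 + 1)) z v := by
      have ho : orderOf z = 2 ^ (0 + 1) := (orderOf_eq_prime (by rw [pow_two, hp.sq₁]) hp.ne₁ : orderOf z = 2)
      have := dihData_sup ho hp.sq₂
        (by rw [← hp.comm, mul_inv_cancel_right, inv_eq_of_mul_eq_one_left hp.sq₁]) fun e =>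
          hp.ne (eq_half ho e hp.ne₂ hp.sq₂ |>.trans (pow_one z)).symm
      rwa [zpowers_eq_closure, zpowers_eq_closure, ← Subgroup.closure_union, Set.singleton_union, hV] at this
    refine U.ext_case h P hD h2 ⟨0, ?_⟩
    have h1 := hcz _ (mem_sup_left hsT)
    generalize x * v * x⁻¹ = s at hs hsT h1
    rcases hp.mem_closure.1 (hV ▸ conj_mem_of_mem_normalizer (P.RN.2 hsT) hv) with e | e | e | e
    · exact absurd (by simpa using e) hp.ne₂
    · exact absurd (by simpa using h1.trans e.symm) hp.ne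
    · exact absurd (hC ⟨hsT, hV ▸ mem_cent_pair.2 ⟨(mul_inv_eq_iff_eq_mul.1 h1).symm,
        (mul_inv_eq_iff_eq_mul.1 e).symm⟩⟩) hs
    · simpa using e

variable {j : ℕ} {a b : G}

theorem d_elemma (h : Hyp G) (U : Up S T t x) (P : Spl t T R L) (hD : DihData R (2 ^ (j + 2)) a b) {g : G}
    (h1 : Cls a b 0 (g * b * g⁻¹)) (h2 : g * a ^ 2 ^ (j + 1) * g⁻¹ = a ^ 2 ^ (j + 1))
    (h3 : g * t * g⁻¹ = a ^ 2 ^ (j + 1) * t) : False := by
  have hp := dih_pair hD hD.b_mem hD.notMem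
  obtain ⟨ρ, hρ, htri⟩ := dih_tri P.perf P.syl hD hD.b_mem hD.notMem
  obtain ⟨k, hk, e⟩ := Cls.exists_conj hD h1 (g' := b) ⟨0, by simp⟩
  have hq := quarter_conj hD hD.b_mem hD.notMem
  have hRt : ∀ r ∈ R, r * t * r⁻¹ = t := fun r hr =>
    H73.mem_centralizer_singleton_iff_conj.1 (U.hT.le (P.RN.1 hr))
  have hRz : ∀ r ∈ R, r * a ^ 2 ^ (j + 1) * r⁻¹ = a ^ 2 ^ (j + 1) := fun r hr => by
    rw [half_comm hD hr, mul_inv_cancel_right]
  have hn : a ^ 2 ^ j ∈ R := pow_mem hD.a_mem _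
  have hn2 : a ^ 2 ^ j * a ^ 2 ^ j = a ^ 2 ^ (j + 1) := by rw [← pow_add, ← two_mul, ← pow_succ']
  have hVR : closure ({a ^ 2 ^ (j + 1), b} : Set G) ≤ R :=
    (closure_le _).2 (Set.pair_subset (pow_mem hD.a_mem _) hD.b_mem)
  generalize a ^ 2 ^ (j + 1) = z at *
  generalize a ^ 2 ^ j = n at *
  have hz : z ∈ closure ({z, b} : Set G) := subset_closure (by simp)
  have hb : b ∈ closure ({z, b} : Set G) := subset_closure (by simp)
  have htE : t ∈ closure ({z, b} : Set G) ⊔ zpowers t := mem_sup_right (mem_zpowers t)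
  have htC : t ∈ 𝐂(closure ({z, b} : Set G)) := fun r hr => mem_cent1_iff.1 (U.hT.le (P.RN.1 (hVR hr)))
  have hnN : n ∈ 𝐍(closure ({z, b} : Set G) ⊔ zpowers t) := mem_norm_triple
    (by rw [hRz n hn]; exact mem_sup_left hz) (by rw [hq]; exact mem_sup_left (mul_mem hz hb))
    (by rw [hRt n hn]; exact htE)
  have hEb : closure ({z, b} : Set G) ⊔ zpowers t ≤ 𝐂[b] := sup_le
    ((ab_of_sq fun r hr => pair_sq hp hr).trans (cent_le_cent1 hb))
    (zpowers_le.2 (mem_cent1_iff.2 (htC b hb).symm))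
  refine h.e_lemma U.tt hp htC htri (P.Lt hρ) (fun g hg => P.hno g (hVR hg))
    (P := closure ({z, b} : Set G) ⊔ zpowers t ⊔ zpowers n) (sup_le (le_inf le_normalizer
      (sup_le (hVR.trans (P.RN.1.trans U.hT.le)) (zpowers_le.2 (U.hT.le P.tT))))
      (zpowers_le.2 ⟨hnN, U.hT.le (P.RN.1 hn)⟩)) ?_ (g := k * g) (mem_norm_triple ?_ ?_ ?_) ?_
  · rw [card_ext hnN (fun e => hp.ne₁ (by
      simpa [H73.mem_centralizer_singleton_iff_conj.1 (hEb e)] using hq)) (by rw [hn2]; exact mem_sup_left hz),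
      card_ext (centralizer_le_normalizer _ htC) (fun e => by simpa using P.hno 1 (by simpa using hVR e))
        (U.tt ▸ one_mem _), card_pair hp]
  · rw [show k * g * z * (k * g)⁻¹ = k * (g * z * g⁻¹) * k⁻¹ by group, h2, hRz k hk]
    exact mem_sup_left hz
  · rw [show k * g * b * (k * g)⁻¹ = k * (g * b * g⁻¹) * k⁻¹ by group, e]
    exact mem_sup_left hb
  · rw [show k * g * t * (k * g)⁻¹ = k * (g * t * g⁻¹) * k⁻¹ by group, h3, ← conj_mul, hRz k hk, hRt k hk]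
    exact mul_mem (mem_sup_left hz) htE
  · rw [show k * g * t * (k * g)⁻¹ = k * (g * t * g⁻¹) * k⁻¹ by group, h3, ← conj_mul, hRz k hk, hRt k hk]
    simpa using hp.ne₁

theorem d_swap_case (h : Hyp G) (U : Up S T t x) (P : Spl t T R L) (hD : DihData R (2 ^ (j + 2)) a b)
    (hsw : ∀ f ∈ T, f ∉ R ⊔ zpowers t → Cls a b 1 (f * b * f⁻¹)) : False := by
  have hxtT := conj_mem_of_mem_normalizer U.xN P.tT
  have hRt : ∀ r ∈ R, r * t = t * r := fun r hr => mem_cent1_iff.1 (U.hT.le (P.RN.1 hr))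
  have hb0 : Cls a b 0 b := ⟨0, by simp⟩
  have hxt : x * t * x⁻¹ = a ^ 2 ^ (j + 1) * t := by
    have h1 : x * t * x⁻¹ ∈ R ⊔ zpowers t := by
      by_contra hn
      have := hsw _ hxtT hn
      rw [← mem_cent1_iff.1 (U.cent_xt (P.RN.1 hD.b_mem)), mul_inv_cancel_right] at this
      exact hb0.not_both hD.ord this
    obtain ⟨k, hk, e⟩ := ((U.mem_T0 P).1 h1).resolve_left (P.hno x)
    rw [e, dih_central hD hk (fun r hr => mem_cent1_iff.2 ?_) fun e1 => U.xt_ne (by rw [e, e1, one_mul])]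
    have := mem_cent1_iff.1 (U.cent_xt (P.RN.1 hr))
    rwa [e, mul_assoc, ← hRt r hr, ← mul_assoc, ← mul_assoc, mul_left_inj] at this
  have hinv : ∀ w ∈ R, w * w = 1 → x * w * x⁻¹ ∈ R ⊔ zpowers t → x * w * x⁻¹ ∈ R := fun w hw hw2 hm => by
    refine ((U.mem_T0 P).1 hm).resolve_right ?_
    rintro ⟨k, hk, e⟩
    have key : ∀ g : G, g * t * g⁻¹ ≠ k * t := fun g e1 => P.hno (x⁻¹ * g) (by
      rw [show x⁻¹ * g * t * (x⁻¹ * g)⁻¹ = x⁻¹ * (g * t * g⁻¹) * x by group, e1, ← e]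
      simpa [mul_assoc] using hw)
    have hk2 : k * k = 1 := by
      have : k * t * (k * t) = 1 := by rw [← e, conj_mul, hw2]; simp
      rwa [mul_assoc, ← mul_assoc t, ← hRt k hk, mul_assoc, U.tt, mul_one] at this
    obtain ⟨g, hg, e1⟩ := dih_conj P.perf P.syl hD hk (fun e1 => key 1 (by simp [e1])) hk2
    refine key (g⁻¹ * x) ?_
    rw [show g⁻¹ * x * t * (g⁻¹ * x)⁻¹ = g⁻¹ * (x * t * x⁻¹) * g by group, hxt, ← e1,
      show g⁻¹ * (g * k * g⁻¹ * t) * g = k * (g⁻¹ * t * g⁻¹⁻¹) by group,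
      H73.mem_centralizer_singleton_iff_conj.1 (inv_mem (P.Lt hg))]
  have hab : a * b ∈ R := mul_mem hD.a_mem hD.b_mem
  have hab2 : a * b * (a * b) = 1 := by simpa using hD.refl_mul_self 1
  by_cases h1 : x * b * x⁻¹ ∈ R ⊔ zpowers t
  swap
  · have hm := conj_mem_of_mem_normalizer U.xN (P.RN.1 hD.b_mem)
    exact U.ext_case h P hD (P.idx.resolve_left fun e => h1 (e hm)) (hsw _ hm h1)
  by_cases h2 : x * (a * b) * x⁻¹ ∈ R ⊔ zpowers t
  swap
  · have hm := conj_mem_of_mem_normalizer U.xN (P.RN.1 hab)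
    have hD' : DihData R (2 ^ (j + 2)) a (a * b) := ⟨hD.ord, hab2, by
      rw [show a * b * a * (a * b)⁻¹ = a * (b * a * b⁻¹) * a⁻¹ by group, hD.conj]; group,
      by simpa using hD.refl_notMem 1, fun g => by
        rw [hD.mem]
        constructor
        · rintro ⟨i, rfl | rfl⟩
          exacts [⟨i, Or.inl rfl⟩, ⟨i - 1, Or.inr (by group)⟩]
        · rintro ⟨i, rfl | rfl⟩
          exacts [⟨i, Or.inl rfl⟩, ⟨i + 1, Or.inr (by group)⟩]⟩
    refine U.ext_case h P hD' (P.idx.resolve_left fun e => h2 (e hm)) ?_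
    obtain ⟨i, hi⟩ := Cls.conj_of_norm hD (P.RN.2 hm) (hsw _ hm h2) (e := 1) (g := a * b) ⟨0, by simp⟩
    exact ⟨i, hi.trans (by group)⟩
  have hxR : x ∈ 𝐍(R) := mem_normalizer_of_cj_le fun y hy => by
    obtain ⟨r, hr, rfl⟩ := mem_cj'.1 hy
    have hb' := hinv b hD.b_mem hD.bb h1
    have ha' : x * a * x⁻¹ ∈ R := by
      rw [show x * a * x⁻¹ = x * (a * b) * x⁻¹ * (x * b * x⁻¹)⁻¹ by group]
      exact mul_mem (hinv _ hab hab2 h2) (inv_mem hb')
    obtain ⟨i, rfl | rfl⟩ := (hD.mem r).1 hr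
    · rw [← conj_zpow]; exact zpow_mem ha' i
    · rw [← conj_mul, ← conj_zpow]; exact mul_mem (zpow_mem ha' i) hb'
  have hz : ∀ g ∈ 𝐍(R), g * a ^ 2 ^ (j + 1) * g⁻¹ = a ^ 2 ^ (j + 1) := fun g hg =>
    dih_central hD (conj_mem_of_mem_normalizer hg (pow_mem hD.a_mem _)) (by
      rw [← cj_centralizer_singleton, ← cj_eq_of_mem_normalizer hg]
      exact cj_mono g fun r hr => mem_cent1_iff.2 (half_comm hD hr)) (by simpa using half_ne hD.ord)
  have hbx : x * b * x⁻¹ ∉ zpowers a := fun e => by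
    have := eq_half hD.ord e (by simpa using (dih_pair hD hD.b_mem hD.notMem).ne₂)
      (by rw [conj_mul, hD.bb]; simp)
    exact (dih_pair hD hD.b_mem hD.notMem).ne (by simpa using (hz x hxR).trans this.symm)
  rcases exists_cls hD (conj_mem_of_mem_normalizer hxR hD.b_mem) hbx with h3 | h3
  · exact U.d_elemma h P hD h3 (hz x hxR) hxt
  by_cases hT : T ≤ R ⊔ zpowers t
  · refine swap_lemma h.perfect U.hS U.tt (U.TS P.tT) hD (fun g => ?_) P.hno U.xS (U.Teq ▸ U.xN)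
      (U.Teq ▸ U.xT) hxR h3
    rw [← U.Teq, ← U.mem_T0 P, le_antisymm hT (sup_le P.RN.1 (zpowers_le.2 P.tT))]
  · obtain ⟨f, hf, hfT⟩ := SetLike.not_le_iff_exists.1 hT
    refine U.d_elemma h P hD (g := f * x) ?_ (hz _ (mul_mem (P.RN.2 hf) hxR)) ?_
    · rw [show f * x * b * (f * x)⁻¹ = f * (x * b * x⁻¹) * f⁻¹ by group]
      exact Cls.add_two (e := 0) (by simpa using Cls.conj_of_norm hD (P.RN.2 hf) (hsw f hf hfT) h3)
    · rw [show f * x * t * (f * x)⁻¹ = f * (x * t * x⁻¹) * f⁻¹ by group, hxt, ← conj_mul, hz f (P.RN.2 hf),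
        H73.mem_centralizer_singleton_iff_conj.1 (U.hT.le hf)]

end Up

end H72.Ch
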