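import Mathlib
import Cfsg.Agent.Base
import Cfsg.Agent.Lib.Chain.UpD

/-! The split dihedral case with a class-preserving outer element: first steps. -/

set_option autoImplicit false
set_option linter.style.haveILetI false
set_option linter.unusedSectionVars false

namespace H72.Ch

open Cfsg H45 H69 Subgroup H73 H29

universe u

variable {G : Type u} [Group G] [Finite G]

theorem dih_cent_refl {R : Subgroup G} {j : ℕ} {a b w : G} (h : DihData R (2 ^ (j + 2)) a b) (hw : w ∈ R)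
    (hw' : w ∉ zpowers a) : R ⊓ 𝐂[w] = closure {a ^ 2 ^ (j + 1), w} := by
  have hp := dih_pair h hw hw'
  have key : ∀ g ∈ zpowers a, g * w = w * g → g = 1 ∨ g = a ^ 2 ^ (j + 1) := fun g hg e => by
    have := dih_inv h hw hw' hg
    rw [← e, mul_inv_cancel_right] at this
    exact or_iff_not_imp_left.2 fun h1 => eq_half h.ord hg h1 (by nth_rewrite 1 [this]; simp)
  refine le_antisymm (fun g hg => hp.mem_closure.2 ?_) ((closure_le _).2 (Set.pair_subset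
    ⟨pow_mem h.a_mem _, mem_cent1_iff.2 hp.comm⟩ ⟨hw, mem_cent1_iff.2 rfl⟩))
  have e := mem_cent1_iff.1 hg.2
  by_cases h1 : g ∈ zpowers a
  · rcases key g h1 e with e | e <;> simp [e]
  · obtain ⟨k, hk, rfl⟩ := eq_mul_of_relIndex_two h.relIndex hw hw' hg.1 h1
    rw [← mul_assoc, mul_left_inj] at e
    rcases key k hk e with e | e <;> simp [e]

theorem der_le_of_sup' {N A T : Subgroup G} (hN : N ⊴ T) (hA : A ≤ T) (hab : ⁅A, A⁆ ≤ N) (h : T ≤ N ⊔ A) :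
    ⁅T, T⁆ ≤ N := commutator_le.2 fun g hg k hk => by
  obtain ⟨n, hn, a, ha, rfl⟩ := (mem_sup_of_le_normalizer_left (hA.trans hN.2)).1 (h hg)
  obtain ⟨m, hm, b, hb, rfl⟩ := (mem_sup_of_le_normalizer_left (hA.trans hN.2)).1 (h hk)
  rw [commutatorElement_def, show n * a * (m * b) * (n * a)⁻¹ * (m * b)⁻¹ =
    n * (a * m * a⁻¹) * (a * b * a⁻¹ * b⁻¹) * (b * n⁻¹ * b⁻¹) * m⁻¹ by group]
  exact mul_mem (mul_mem (mul_mem (mul_mem hn (conj_mem_of_mem_normalizer (hN.2 (hA ha)) hm))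
    (hab (commutator_mem_commutator ha hb))) (conj_mem_of_mem_normalizer (hN.2 (hA hb)) (inv_mem hn)))
    (inv_mem hm)

/-- The data of the class-preserving case. -/
structure Pre (t : G) (T R L : Subgroup G) (j : ℕ) (a b : G) : Prop extends Spl t T R L where
  dih : DihData R (2 ^ (j + 2)) a b
  two : (R ⊔ zpowers t).relIndex T = 2
  TL : T ≤ 𝐍(L)
  Req : R = T ⊓ L
  der : ⁅T, T⁆ ≤ R
  pres : ∃ f ∈ T, f ∉ R ⊔ zpowers t ∧ Cls a b 0 (f * b * f⁻¹)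

namespace Up

variable {S T R L : Subgroup G} {t x a b : G} {j : ℕ}

theorem card_T (U : Up S T t x) (P : Pre t T R L j a b) : Nat.card T = 4 * Nat.card R := by
  rw [← H1.card_mul_relIndex_of_le (sup_le P.RN.1 (zpowers_le.2 P.tT)), P.two, U.card_T0 P.toSpl]; ring

theorem cent_z (P : Pre t T R L j a b) : T ≤ 𝐂[a ^ 2 ^ (j + 1)] := fun g hg =>
  H73.mem_centralizer_singleton_iff_conj.2
    (dih_central P.dih (conj_mem_of_mem_normalizer (P.RN.2 hg) (pow_mem P.dih.a_mem _)) (by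
      rw [← cj_centralizer_singleton, ← cj_eq_of_mem_normalizer (P.RN.2 hg)]
      exact cj_mono g fun r hr => mem_cent1_iff.2 (half_comm P.dih hr)) (by simpa using half_ne P.dih.ord))

theorem exists_cent_refl (P : Pre t T R L j a b) {w : G} (hw : w ∈ R) (hw' : w ∉ zpowers a) :
    ∃ f ∈ T ⊓ 𝐂[w], f ∉ R ⊔ zpowers t := by
  obtain ⟨f, hf, hf0, hc⟩ := P.pres
  obtain ⟨e, he⟩ : ∃ e, Cls a b e w := (exists_cls P.dih hw hw').elim (fun h => ⟨_, h⟩) fun h => ⟨_, h⟩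
  obtain ⟨k, hk, e1⟩ := Cls.exists_conj P.dih (by simpa using Cls.conj_of_norm P.dih (P.RN.2 hf) hc he) he
  exact ⟨k * f, ⟨T.mul_mem (P.RN.1 hk) hf, H73.mem_centralizer_singleton_iff_conj.2 (by
    refine Eq.trans ?_ e1; group)⟩, fun h => hf0 ((Subgroup.mul_mem_cancel_left _ (mem_sup_left hk)).1 h)⟩

theorem rho (U : Up S T t x) (P : Pre t T R L j a b) {w : G} (hw : w ∈ R) (hw' : w ∉ zpowers a) :
    Nat.card (T ⊓ 𝐂[w] : Subgroup G) = 16 ∧ (∀ y ∈ T ⊓ 𝐂[w], y * y = 1 ∨ y * y = t) ∧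
      ∃ ρ, Tri ρ (a ^ 2 ^ (j + 1)) w ∧ ρ ∈ 𝐍(T ⊓ 𝐂[w]) ∧
        ∀ y ∈ T ⊓ 𝐂[w], ρ * y * ρ⁻¹ * y⁻¹ ∈ closure ({a ^ 2 ^ (j + 1), w} : Set G) := by
  have hp := dih_pair P.dih hw hw'
  have hV := dih_cent_refl P.dih hw hw'
  have hTz := cent_z P
  obtain ⟨f, hf, hf0⟩ := exists_cent_refl P hw hw'
  obtain ⟨ρ, hρ, htri⟩ := dih_tri P.perf P.syl P.dih hw hw'
  have hrefl : ∀ g ∈ R, g ∉ zpowers a → Nat.card (R ⊓ 𝐂[g] : Subgroup G) = 4 := fun g hg hg' => by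
    rw [dih_cent_refl P.dih hg hg', card_pair (dih_pair P.dih hg hg')]
  have hhalf : ∀ g ∈ zpowers a, g ≠ 1 → g * g = 1 → g = a ^ 2 ^ (j + 1) := fun g hg =>
    eq_half P.dih.ord hg
  generalize a ^ 2 ^ (j + 1) = z at hp hV hTz htri hhalf ⊢
  have hρV := htri.mem_norm hp
  have h4 := card_pair hp
  have hWV : T ⊓ 𝐂[w] ≤ 𝐂(closure ({z, w} : Set G)) := fun g hg =>
    mem_cent_pair.2 ⟨(mem_cent1_iff.1 (hTz hg.1)).symm, (mem_cent1_iff.1 hg.2).symm⟩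
  have hsq := fun k hk => pair_sq (k := k) hp hk
  have hone := fun {ρ : G} (h : Tri ρ z w) k hk => Tri.eq_one (w := k) hp h hk
  have hcent := fun {k : G} (h : k ∈ 𝐂(closure ({z, w} : Set G))) => htri.of_cent
    (mem_cent_pair.1 h).1.symm (mem_cent_pair.1 h).2.symm
  have hzV : z ∈ closure ({z, w} : Set G) := subset_closure (by simp)
  have hwV : w ∈ closure ({z, w} : Set G) := subset_closure (by simp)
  generalize closure ({z, w} : Set G) = V at hV hρV h4 hWV hsq hone hcent hzV hwV ⊢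
  have hVR : V ≤ R := hV ▸ inf_le_left
  have hVW : V ≤ T ⊓ 𝐂[w] := hV ▸ inf_le_inf_right _ P.RN.1
  have htW : t ∈ T ⊓ 𝐂[w] := ⟨P.tT, mem_cent1_iff.2 (mem_cent1_iff.1 (U.hT.le (P.RN.1 hw))).symm⟩
  have hE : ∀ y ∈ T ⊓ 𝐂[w], y ∈ R ⊔ zpowers t → ∃ k ∈ V, y = k ∨ y = k * t := fun y hy hy' => by
    rcases (U.mem_T0 P.toSpl).1 hy' with h | ⟨k, hk, rfl⟩
    · exact ⟨y, hV.le ⟨h, hy.2⟩, Or.inl rfl⟩
    · exact ⟨k, hV.le ⟨hk, (Subgroup.mul_mem_cancel_right _ htW.2).1 hy.2⟩, Or.inr rfl⟩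
  have hWT : T ⊓ 𝐂[w] ≤ T := inf_le_left
  have hWL : T ⊓ 𝐂[w] ⊓ L = V := by rw [inf_right_comm, ← P.Req, hV]
  generalize T ⊓ 𝐂[w] = W at hf hWV hVW htW hE hWT hWL ⊢
  have htN := centralizer_le_normalizer _ (hWV htW)
  have h16 : Nat.card W = 16 := by
    have hi : (R ⊔ zpowers t).relIndex W = 2 := by
      have h1 : (R ⊔ zpowers t).relIndex W ≤ 2 :=
        P.two ▸ relIndex_le_of_le_right hWT (by rw [P.two]; norm_num)
      have h2 : (R ⊔ zpowers t).relIndex W ≠ 1 := fun e => hf0 (relIndex_eq_one.1 e hf)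
      have h3 : (R ⊔ zpowers t).relIndex W ≠ 0 := index_ne_zero_of_finite
      omega
    have h1 : (R ⊔ zpowers t) ⊓ W = V ⊔ zpowers t := le_antisymm (fun y hy => by
        obtain ⟨k, hk, rfl | rfl⟩ := hE y hy.2 hy.1
        exacts [mem_sup_left hk, mul_mem (mem_sup_left hk) (mem_sup_right (mem_zpowers t))])
      (le_inf (sup_le_sup_right hVR _) (sup_le hVW (zpowers_le.2 htW)))
    rw [← H1.card_mul_relIndex_of_le (inf_le_right : (R ⊔ zpowers t) ⊓ W ≤ W), inf_relIndex_right, hi, h1,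
      card_ext htN (fun e => by simpa using P.hno 1 (by simpa using hVR e)) (U.tt ▸ one_mem _), h4]
  have hLN : L ⊴ L ⊔ T := ⟨le_sup_left, sup_le le_normalizer P.TL⟩
  obtain ⟨W', hW', hle⟩ := exists_isSylowIn_le (U.hT.isP.to_le hWT) (L := (L ⊔ T) ⊓ 𝐂(V))
    (le_inf (hWT.trans le_sup_right) hWV)
  have hW4 : Nat.card (W' ⊓ L : Subgroup G) ≤ 4 := by
    obtain ⟨g, -, hg⟩ := P.syl.exists_cj_le hW'.isP.to_inf_left (inf_le_right : W' ⊓ L ≤ L)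
    have hVg : ∀ v ∈ V, g * v * g⁻¹ ∈ R := fun v hv => hg (cj_mem g ⟨hle (hVW hv), P.syl.le (hVR hv)⟩)
    have key : ∀ v ∈ V, g * v * g⁻¹ ∉ zpowers a → Nat.card (W' ⊓ L : Subgroup G) ≤ 4 := fun v hv h => by
      rw [← card_cj _ g, ← hrefl _ (hVg v hv) h]
      refine card_le_of_le (le_inf hg ?_)
      rw [← cj_centralizer_singleton]
      exact cj_mono g (inf_le_left.trans (hW'.le.trans (inf_le_right.trans (cent_le_cent1 hv))))
    by_cases h1 : g * z * g⁻¹ ∈ zpowers a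
    · refine key w hwV fun h2 => (hp.conj g).ne ?_
      rw [hhalf _ h1 (hp.conj g).ne₁ (hp.conj g).sq₁, hhalf _ h2 (hp.conj g).ne₂ (hp.conj g).sq₂]
    · exact key z hzV h1
  have hWs : Syl 2 W ((L ⊔ T) ⊓ 𝐂(V)) := hW'.of_card_le (U.hT.isP.to_le hWT) (hle.trans hW'.le) (by
    have h1 := card_mul_card_le (hW'.le.trans inf_le_left) hLN.1
    have h2 := H3.card_sup_mul_card_inf (N := L) (K := T) P.TL
    rw [inf_comm L T, ← P.Req, U.card_T P, ← mul_assoc] at h2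
    rw [Nat.eq_of_mul_eq_mul_right Nat.card_pos h2, mul_comm, mul_assoc] at h1
    have := Nat.le_of_mul_le_mul_left h1 Nat.card_pos
    omega)
  obtain ⟨k, hk, ρ', hρ', e⟩ := hWs.frattini (g := ρ) (le_normalizer_inf (zpowers_le.2 (le_normalizer
    (hLN.1 hρ))) (zpowers_le.2 (normalizer_le_normalizer_centralizer V hρV)) (mem_zpowers ρ))
  have e' : ρ' = k⁻¹ * ρ := by rw [e]; group
  have hρ2 : Tri ρ' z w := e' ▸ hcent (𝐂(V).inv_mem hk.2)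
  have hρC : ρ' ∈ L ⊔ T := e' ▸ mul_mem (inv_mem hk.1) (hLN.1 hρ)
  have hcom : ∀ y ∈ W, ρ' * y * ρ'⁻¹ * y⁻¹ ∈ V := fun y hy => hWL.le
    ⟨W.mul_mem (conj_mem_of_mem_normalizer hρ' hy) (W.inv_mem hy),
      der_le_of_sup' hLN le_sup_right (P.der.trans P.syl.le) le_rfl
        (commutator_mem_commutator hρC (mem_sup_right (hWT hy)))⟩
  refine ⟨h16, fun y hy => ?_, ρ', hρ2, hρ', hcom⟩
  have hρt : ρ' * t * ρ'⁻¹ = t := H73.mem_centralizer_singleton_iff_conj.1 (sup_le P.Lt U.hT.le hρC)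
  have hfix : ρ' * (y * y) * ρ'⁻¹ = y * y := by
    have h1 := hcom y hy
    rw [← conj_mul, show ρ' * y * ρ'⁻¹ = ρ' * y * ρ'⁻¹ * y⁻¹ * y by group]
    generalize ρ' * y * ρ'⁻¹ * y⁻¹ = v at h1
    rw [mul_assoc, ← mul_assoc y, ← hWV hy v h1, mul_assoc, ← mul_assoc v, hsq v h1, one_mul]
  obtain ⟨l, hl, e1 | e1⟩ := hE _ (mul_mem hy hy) (sq_mem_of_relIndex_two P.two (hWT hy))
  · exact Or.inl (e1.trans (hone hρ2 l hl (e1 ▸ hfix)))
  · rw [e1, ← conj_mul, hρt, mul_left_inj] at hfix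
    exact Or.inr (by rw [e1, hone hρ2 l hl hfix, one_mul])

theorem norm_W (h : Hyp G) (U : Up S T t x) (P : Pre t T R L j a b) {w : G} (hw : w ∈ R)
    (hw' : w ∉ zpowers a) {g : G} (hg : g ∈ S) (hN : g ∈ 𝐍(T ⊓ 𝐂[w])) : g ∈ T := by
  by_contra hgT
  obtain ⟨h16, -, ρ, htri, hρ, -⟩ := U.rho P hw hw'
  have hp := dih_pair P.dih hw hw'
  have hq := quarter_conj P.dih hw hw'
  have hn : a ^ 2 ^ j ∈ T := P.RN.1 (pow_mem P.dih.a_mem _)
  have hnN : a ^ 2 ^ j ∈ 𝐍(T ⊓ 𝐂[w]) := cj_eq_self_iff.1 (by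
    rw [cj_inf, cj_eq_of_mem hn, cj_centralizer_singleton, hq]
    ext y
    refine and_congr_right fun hy => ?_
    exact ⟨fun h => mem_cent1_iff.2 (by
        have h1 := mem_cent1_iff.1 h
        rwa [← mul_assoc, mem_cent1_iff.1 (cent_z P hy), mul_assoc, mul_assoc, mul_right_inj] at h1),
      fun h => mem_cent1_iff.2 (Commute.mul_right (mem_cent1_iff.1 (cent_z P hy)) (mem_cent1_iff.1 h))⟩)
  have h32 := card_ext hnN (fun e => hp.ne₁ (by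
      simpa [H73.mem_centralizer_singleton_iff_conj.1 e.2] using hq)) (by
    rw [← pow_add, ← two_mul, ← pow_succ']
    exact ⟨P.RN.1 (pow_mem P.dih.a_mem _), mem_cent1_iff.2 hp.comm⟩)
  have hlt : T ⊓ 𝐂[w] ⊔ zpowers (a ^ 2 ^ j) < S ⊓ 𝐍(T ⊓ 𝐂[w]) := lt_of_le_of_ne
    (le_inf ((sup_le inf_le_left (zpowers_le.2 hn)).trans U.TS) (sup_le le_normalizer (zpowers_le.2 hnN)))
    fun e => hgT (sup_le inf_le_left (zpowers_le.2 hn) (e.ge ⟨hg, hN⟩))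
  have h1 := H1.card_lt_of_lt hlt
  obtain ⟨k, hk⟩ := exists_card_pow (U.hS.isP.to_inf_left : IsPGroup 2 (S ⊓ 𝐍(T ⊓ 𝐂[w]) : Subgroup G))
  refine h.no192' U.hT.isP.to_inf_left (by rw [h16]; norm_num) (inf_le_right : S ⊓ _ ≤ _) ?_ hρ
    (htri.three_dvd hp)
  rw [h32, h16, hk] at h1
  exact hk ▸ pow_dvd_pow 2 (show 6 ≤ k from (Nat.pow_lt_pow_iff_right (a := 2) (n := 5) (by norm_num)).1 h1)

theorem j_le (h : Hyp G) (h7 : 7 < len (⊤ : Subgroup G)) (U : Up S T t x) (P : Pre t T R L j a b) :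
    j ≤ 1 := by
  have h1 := card_le_of_le U.ext_le
  rw [U.ext_card, U.card_T P, P.dih.card, h.card_syl h7 U.hS,
    show 2 * (4 * (2 * 2 ^ (j + 2))) = 2 ^ (j + 6) by ring] at h1
  have := (Nat.pow_le_pow_iff_right (a := 2) (m := 7) (by norm_num)).1 h1
  omega

theorem exists_cent (U : Up S T t x) (P : Pre t T R L j a b) (hj : j ≤ 1) :
    ∃ f ∈ T, f ∉ R ⊔ zpowers t ∧ f ∈ 𝐂(R) := by
  have key : ∀ f ∈ T ⊓ 𝐂[b], f * a * f⁻¹ = a → f ∈ 𝐂(R) := fun f hf e r hr => by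
    have h1 : Commute a f := (mul_inv_eq_iff_eq_mul.1 e).symm
    have h2 : Commute b f := (mem_cent1_iff.1 hf.2).symm
    obtain ⟨i, rfl | rfl⟩ := (P.dih.mem r).1 hr
    exacts [h1.zpow_left i, (h1.zpow_left i).mul_left h2]
  have hb : b ∈ T ⊓ 𝐂[b] := ⟨P.RN.1 P.dih.b_mem, mem_cent1_iff.2 rfl⟩
  have key2 : ∀ f ∈ T ⊓ 𝐂[b], f ∉ R ⊔ zpowers t → ∀ i : ℤ, f * a * f⁻¹ = a ^ i →
      ∃ f ∈ T ⊓ 𝐂[b], f ∉ R ⊔ zpowers t ∧ f * a * f⁻¹ = a ^ (-i) := fun f hf hf0 i e =>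
    ⟨f * b, mul_mem hf hb, fun h => hf0 ((Subgroup.mul_mem_cancel_right _ (mem_sup_left P.dih.b_mem)).1 h),
      by rw [show f * b * a * (f * b)⁻¹ = f * (b * a * b⁻¹) * f⁻¹ by group, P.dih.conj, ← conj_inv, e,
        zpow_neg]⟩
  have hmod : ∀ i k : ℤ, i % 8 = k % 8 → a ^ i = a ^ k := fun i k e => zpow_eq_zpow_iff_modEq.2
    (Int.ModEq.of_dvd (n := 8) (by
      rw [P.dih.ord]; exact_mod_cast pow_dvd_pow 2 (show j + 2 ≤ 3 by omega)) e)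
  have key3 : ∀ f ∈ T ⊓ 𝐂[b], f * a * f⁻¹ = a ^ (5 : ℤ) → f ∈ 𝐂(R) := fun f hf e => by
    have hc : ∀ i : ℤ, f * a ^ i * f⁻¹ = a ^ (5 * i) := fun i => by rw [← conj_zpow, e, ← zpow_mul]
    have hab : a * b ∈ R := mul_mem P.dih.a_mem P.dih.b_mem
    have hy : f * a ^ (2 : ℤ) ∈ T ⊓ 𝐂[a * b] := ⟨T.mul_mem hf.1 (P.RN.1 (zpow_mem P.dih.a_mem _)),
      H73.mem_centralizer_singleton_iff_conj.2 (by
        rw [show f * a ^ (2 : ℤ) * (a * b) * (f * a ^ (2 : ℤ))⁻¹ =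
          f * (a ^ (3 : ℤ) * (b * a ^ (2 : ℤ) * b⁻¹)⁻¹) * f⁻¹ * (f * b * f⁻¹) by group, P.dih.conj_zpow,
          inv_inv, ← zpow_add, hc, H73.mem_centralizer_singleton_iff_conj.1 hf.2, hmod _ 1 (by norm_num),
          zpow_one])⟩
    have h1 := (U.rho P P.dih.b_mem P.dih.notMem).2.1 f hf
    have h2 := (U.rho P hab (by simpa using P.dih.refl_notMem 1)).2.1 _ hy
    have h3 : f * a ^ (2 : ℤ) * (f * a ^ (2 : ℤ)) = a ^ (4 : ℤ) * (f * f) := by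
      have h4 : f * a ^ (2 : ℤ) = a ^ (2 : ℤ) * f := by
        rw [← mul_inv_eq_iff_eq_mul, hc, hmod _ 2 (by norm_num)]
      rw [h4, mul_assoc, ← mul_assoc f, h4]; group
    have h5 : a ^ (4 : ℤ) = 1 := by
      have h6 : a ^ (4 : ℤ) ≠ t := fun e => by simpa using P.hno 1 (by simpa using e ▸ zpow_mem P.dih.a_mem 4)
      rw [h3] at h2
      rcases h1 with h1 | h1 <;> rcases h2 with h2 | h2 <;> rw [h1] at h2
      · simpa using h2
      · exact absurd (by simpa using h2) h6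
      · exact absurd (by rw [← mul_left_inj t, h2, U.tt]) h6
      · simpa using h2
    exact key f hf (by rw [e, show (5 : ℤ) = 4 + 1 by norm_num, zpow_add, h5, one_mul, zpow_one])
  obtain ⟨f, hf, hf0⟩ := exists_cent_refl P P.dih.b_mem P.dih.notMem
  obtain ⟨m, hm⟩ := conj_a P.dih (P.RN.2 hf.1)
  obtain ⟨f', hf', hf0', hm'⟩ := key2 f hf hf0 _ hm
  rcases (by omega : m % 4 = 0 ∨ m % 4 = 1 ∨ m % 4 = 2 ∨ m % 4 = 3) with e | e | e | e
  · exact ⟨f, hf.1, hf0, key f hf (by rw [hm, hmod _ 1 (by omega), zpow_one])⟩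
  · exact ⟨f', hf'.1, hf0', key3 f' hf' (by rw [hm', hmod _ 5 (by omega)])⟩
  · exact ⟨f, hf.1, hf0, key3 f hf (by rw [hm, hmod _ 5 (by omega)])⟩
  · exact ⟨f', hf'.1, hf0', key f' hf' (by rw [hm', hmod _ 1 (by omega), zpow_one])⟩

end Up

end H72.Ch
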