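import Mathlib
import Cfsg.Agent.Base
import Cfsg.Agent.Lib.Chain.UpE

/-! The class-preserving case is impossible, and `T` is Sylow in the group. -/

set_option autoImplicit false
set_option linter.style.haveILetI false
set_option linter.unusedSectionVars false

namespace H72.Ch

open Cfsg H45 H69 Subgroup H73 H29

universe u

variable {G : Type u} [Group G] [Finite G]

namespace Up

variable {S T Q R L : Subgroup G} {t x a b f : G} {j q : ℕ}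

theorem decomp (U : Up S T t x) (P : Pre t T R L j a b) (hf : f ∈ T) (hf0 : f ∉ R ⊔ zpowers t)
    (hfC : f ∈ 𝐂(R)) {g : G} (hg : g ∈ T) :
    ∃ r ∈ R, ∃ c, (c = 1 ∨ c = t ∨ c = f ∨ c = t * f) ∧ g = r * c := by
  by_cases h : g ∈ R ⊔ zpowers t
  · rcases (U.mem_T0 P.toSpl).1 h with h | ⟨k, hk, rfl⟩
    exacts [⟨g, h, 1, by simp, by simp⟩, ⟨k, hk, t, by simp, rfl⟩]
  · obtain ⟨k, hk, rfl⟩ := eq_mul_of_relIndex_two P.two hf hf0 hg h
    rcases (U.mem_T0 P.toSpl).1 hk with h | ⟨l, hl, rfl⟩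
    exacts [⟨k, h, f, by simp, rfl⟩, ⟨l, hl, t * f, by simp, mul_assoc _ _ _⟩]

theorem cent_f (U : Up S T t x) (P : Pre t T R L j a b) (hf : f ∈ T) (hf0 : f ∉ R ⊔ zpowers t)
    (hfC : f ∈ 𝐂(R)) {c : G} (hc : c = 1 ∨ c = t ∨ c = f ∨ c = t * f) : c ∈ T ∧ T ≤ 𝐂[c] := by
  have h1 : T ≤ 𝐂[f] := fun g hg => by
    obtain ⟨r, hr, c, hc, rfl⟩ := U.decomp P hf hf0 hfC hg
    have h2 : t ∈ 𝐂[f] := mem_cent1_iff.2 (mem_cent1_iff.1 (U.hT.le hf)).symm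
    have h3 : f ∈ 𝐂[f] := mem_cent1_iff.2 rfl
    refine mul_mem (mem_cent1_iff.2 (hfC r hr)) ?_
    rcases hc with rfl | rfl | rfl | rfl
    exacts [one_mem _, h2, h3, mul_mem h2 h3]
  rcases hc with rfl | rfl | rfl | rfl
  exacts [⟨one_mem _, fun g _ => mem_cent1_iff.2 (by simp)⟩, ⟨P.tT, U.hT.le⟩, ⟨hf, h1⟩,
    ⟨mul_mem P.tT hf, fun g hg => mem_cent1_iff.2
      (Commute.mul_right (mem_cent1_iff.1 (U.hT.le hg)) (mem_cent1_iff.1 (h1 hg)))⟩]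

theorem inf_cent_mul {r c : G} (hc : T ≤ 𝐂[c]) : T ⊓ 𝐂[r * c] = T ⊓ 𝐂[r] := by
  ext y
  refine and_congr_right fun hy => ?_
  change y ∈ 𝐂[r * c] ↔ y ∈ 𝐂[r]
  rw [mem_cent1_iff, mem_cent1_iff, mul_assoc r, ← mem_cent1_iff.1 (hc hy), ← mul_assoc, ← mul_assoc,
    mul_left_inj]

theorem f_sq (U : Up S T t x) (P : Pre t T R L j a b) (hf : f ∈ T) (hf0 : f ∉ R ⊔ zpowers t)
    (hfC : f ∈ 𝐂(R)) : f * f = 1 := by
  have hsq := (U.rho P P.dih.b_mem P.dih.notMem).2.1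
  have hfW : f ∈ T ⊓ 𝐂[b] := ⟨hf, mem_cent1_iff.2 (hfC b P.dih.b_mem).symm⟩
  refine (hsq f hfW).resolve_right fun e => ?_
  obtain ⟨r, hr, c, hc, e1⟩ := U.decomp P hf hf0 hfC
    (conj_mem_of_mem_normalizer U.xN (P.RN.1 P.dih.b_mem))
  have h1 : (T ⊓ 𝐂[b]) ^ᶜ x = T ⊓ 𝐂[r] := by
    rw [cj_inf, U.cj_T, cj_centralizer_singleton, e1, inf_cent_mul (U.cent_f P hf hf0 hfC hc).2]
  by_cases hra : r ∈ zpowers a
  · have ha : a ∈ (T ⊓ 𝐂[b]) ^ᶜ x := by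
      obtain ⟨i, rfl⟩ := hra
      exact h1 ▸ ⟨P.RN.1 P.dih.a_mem, mem_cent1_iff.2 ((Commute.refl a).zpow_right i)⟩
    obtain ⟨y, hy, e2⟩ := mem_cj'.1 ha
    have h2 : a * a = x * (y * y) * x⁻¹ := by rw [e2, conj_mul]
    rcases hsq y hy with h3 | h3 <;> rw [h3] at h2
    · exact not_pow_dvd_two j (P.dih.ord ▸ orderOf_dvd_of_pow_eq_one (by simpa [pow_two] using h2))
    · exact P.hno x (h2 ▸ mul_mem P.dih.a_mem P.dih.a_mem)
  · rcases (U.rho P hr hra).2.1 _ (h1 ▸ cj_mem x hfW) with h2 | h2 <;> rw [conj_mul, e] at h2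
    · exact P.hno x (h2 ▸ one_mem R)
    · exact U.xt_ne h2

theorem pres_one (h : Hyp G) (h7 : 7 < len (⊤ : Subgroup G)) (U : Up S T t x) (P : Pre t T R L 1 a b)
    (hf : f ∈ T) (hf0 : f ∉ R ⊔ zpowers t) (hfC : f ∈ 𝐂(R))
    (hzc : T ⊔ zpowers x ≤ 𝐂[a ^ 2 ^ (1 + 1)]) : False := by
  have hS : T ⊔ zpowers x = S := eq_of_le_of_card_ge U.ext_le (by
    rw [U.ext_card, U.card_T P, P.dih.card, h.card_syl h7 U.hS]; norm_num)
  have hp := dih_pair P.dih P.dih.b_mem P.dih.notMem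
  obtain ⟨-, -, ρ, htri, -, hcom⟩ := U.rho P P.dih.b_mem P.dih.notMem
  have hcen : ∀ r ∈ R, T ≤ 𝐂[r] → r = 1 ∨ r = a ^ 2 ^ (1 + 1) := fun r hr hc =>
    or_iff_not_imp_left.2 (dih_central P.dih hr (P.RN.1.trans hc))
  have hzR : a ^ 2 ^ (1 + 1) ∈ R := pow_mem P.dih.a_mem _
  generalize a ^ 2 ^ (1 + 1) = z at hzc hp htri hcom hcen hzR
  have hx : ∀ y ∈ T, T ≤ 𝐂[y] → (y * (x * y * x⁻¹) ∈ T ∧ T ≤ 𝐂[y * (x * y * x⁻¹)]) ∧
      x * (y * (x * y * x⁻¹)) * x⁻¹ = y * (x * y * x⁻¹) := fun y hy hc => by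
    have h1 := conj_mem_of_mem_normalizer U.xN hy
    have h2 : T ≤ 𝐂[x * y * x⁻¹] := by rw [← cj_centralizer_singleton, ← U.cj_T]; exact cj_mono x hc
    refine ⟨⟨mul_mem hy h1, fun g hg => mem_cent1_iff.2
      (Commute.mul_right (mem_cent1_iff.1 (hc hg)) (mem_cent1_iff.1 (h2 hg)))⟩, ?_⟩
    rw [← conj_mul, show x * (x * y * x⁻¹) * x⁻¹ = x * x * y * (x * x)⁻¹ by group,
      H73.mem_centralizer_singleton_iff_conj.1 (hc U.x2), mem_cent1_iff.1 (hc h1)]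
  have hf2 := U.f_sq P hf hf0 hfC
  obtain ⟨c, ⟨hcT, hc⟩, hcx, hcR⟩ : ∃ c, (c ∈ T ∧ T ≤ 𝐂[c]) ∧ x * c * x⁻¹ = c ∧ c ∉ R := by
    have hfc := U.cent_f P hf hf0 hfC (c := f) (by simp)
    by_cases h1 : t * (x * t * x⁻¹) ∈ R
    swap
    · exact ⟨_, (hx t P.tT U.hT.le).1, (hx t P.tT U.hT.le).2, h1⟩
    by_cases h2 : f * (x * f * x⁻¹) ∈ R
    swap
    · exact ⟨_, (hx f hf hfc.2).1, (hx f hf hfc.2).2, h2⟩
    have h3 := (hcen _ h1 (hx t P.tT U.hT.le).1.2).resolve_left fun e => U.xt_ne (by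
      rw [← mul_right_inj t, e, U.tt])
    rcases hcen _ h2 (hx f hf hfc.2).1.2 with h4 | h4
    · exact ⟨f, hfc, by rw [← mul_right_inj f, h4, hf2], fun e => hf0 (mem_sup_left e)⟩
    · refine ⟨t * f, U.cent_f P hf hf0 hfC (by simp), ?_, fun e => hf0
        ((Subgroup.mul_mem_cancel_left _ (mem_sup_right (mem_zpowers t))).1 (mem_sup_left e))⟩
      have e1 : x * t * x⁻¹ = t * z := by rw [← h3, ← mul_assoc, U.tt, one_mul]
      have e2 : x * f * x⁻¹ = z * f := by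
        rw [hfC z hzR, ← h4, ← mul_assoc, hf2, one_mul]
      rw [← conj_mul, e1, e2, mul_assoc, ← mul_assoc z, hp.sq₁, one_mul]
  have hSc : S ≤ 𝐂[c] := hS ▸ sup_le hc (zpowers_le.2 (H73.mem_centralizer_singleton_iff_conj.2 hcx))
  have hSzc : S ≤ 𝐂[z * c] := fun g hg => mem_cent1_iff.2
    (Commute.mul_right (mem_cent1_iff.1 (hzc (hS ▸ hg))) (mem_cent1_iff.1 (hSc hg)))
  have hρS : ρ ∉ S := fun e => by
    obtain ⟨k, hk⟩ := U.hS.isP ⟨ρ, e⟩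
    have := (htri.three_dvd hp).trans (orderOf_dvd_of_pow_eq_one (congrArg Subtype.val hk : ρ ^ 2 ^ k = 1))
    exact absurd (Nat.prime_three.dvd_of_dvd_pow this) (by norm_num)
  have hn1 : ρ * c * ρ⁻¹ ≠ c := fun e => hρS ((h.eq_syl h7 U.hS hSc (h.cent_ne fun e =>
    hcR (e ▸ one_mem R))).le (H73.mem_centralizer_singleton_iff_conj.2 e))
  have hn2 : ρ * (z * c) * ρ⁻¹ ≠ z * c := fun e => hρS ((h.eq_syl h7 U.hS hSzc (h.cent_ne fun e =>
    hcR ((R.mul_mem_cancel_left hzR).1 (e ▸ one_mem R)))).le (H73.mem_centralizer_singleton_iff_conj.2 e))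
  have hn3 : ∀ g : G, g * c * g⁻¹ ≠ z * c := fun g e => by
    obtain ⟨n, -, hn, e1⟩ := exists_norm_conj U.hS (mem_top g) hSc (e ▸ hSzc)
    rw [h.eq_syl h7 U.hS le_normalizer (h.norm_ne (fun e => hp.ne₁ (mem_bot.1 (e ▸ U.TS (P.RN.1 hzR))))
      U.hS.isP)] at hn
    rw [H73.mem_centralizer_singleton_iff_conj.1 (hSc hn), e] at e1
    exact hp.ne₁ (by simpa using e1)
  have h1 := hcom c ⟨hcT, mem_cent1_iff.2 (mem_cent1_iff.1 (hc (P.RN.1 P.dih.b_mem))).symm⟩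
  rcases hp.mem_closure.1 h1 with e | e | e | e <;> rw [mul_inv_eq_iff_eq_mul] at e
  · exact hn1 (by simpa using e)
  · exact hn3 ρ e
  · refine hn3 (ρ * ρ) ?_
    rw [show ρ * ρ * c * (ρ * ρ)⁻¹ = ρ * (ρ * c * ρ⁻¹) * ρ⁻¹ by group, e, ← conj_mul, htri.2, e,
      mul_assoc, ← mul_assoc b, hp.sq₂, one_mul]
  · refine hn2 ?_
    rw [← conj_mul, htri.1, e, hp.comm, ← mul_assoc, ← mul_assoc, hp.sq₂, one_mul]

theorem pres_zero (h : Hyp G) (h7 : 7 < len (⊤ : Subgroup G)) (U : Up S T t x) (P : Pre t T R L 0 a b)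
    (hf : f ∈ T) (hf0 : f ∉ R ⊔ zpowers t) (hfC : f ∈ 𝐂(R)) : False := by
  have hf2 := U.f_sq P hf hf0 hfC
  have hab : a * b ∈ R := mul_mem P.dih.a_mem P.dih.b_mem
  have hab' : a * b ∉ zpowers a := by simpa using P.dih.refl_notMem 1
  have hT32 : Nat.card T = 32 := by rw [U.card_T P, P.dih.card]; rfl
  have hc1 := (U.rho P P.dih.b_mem P.dih.notMem).1
  have hc2 := (U.rho P hab hab').1
  have hN1 := fun g => U.norm_W (g := g) h P P.dih.b_mem P.dih.notMem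
  have hz : ∀ g ∈ R, Commute g (a ^ 2) := fun g hg => half_comm P.dih hg
  have hcls : ∀ e : ℤ, ∀ w, Cls a b e w → w ∈ T ⊓ 𝐂[a ^ e * b] := by
    rintro e _ ⟨i, rfl⟩
    have h1 : a ^ e * b ∈ R := mul_mem (zpow_mem P.dih.a_mem e) P.dih.b_mem
    refine ⟨P.RN.1 (mul_mem (zpow_mem P.dih.a_mem _) P.dih.b_mem), mem_cent1_iff.2 ?_⟩
    rw [zpow_add, zpow_mul, mul_assoc _ (a ^ e), zpow_ofNat]
    exact ((hz _ h1).zpow_right i).symm.mul_left (Commute.refl _)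
  have hsq1 : ∀ c, (c = 1 ∨ c = t ∨ c = f ∨ c = t * f) → c * c = 1 := by
    rintro c (rfl | rfl | rfl | rfl)
    exacts [mul_one 1, U.tt, hf2, by
      rw [mul_assoc, ← mul_assoc f, mem_cent1_iff.1 (U.hT.le hf), mul_assoc, hf2, mul_one, U.tt]]
  have hinv : ∀ y ∈ T, y * y = 1 → ∀ w ∈ R, y ∉ 𝐂[w] → ∃ r ∈ R, r ∉ zpowers a ∧ r ∉ 𝐂[w] ∧
      T ⊓ 𝐂[y] = T ⊓ 𝐂[r] := fun y hy hy2 w hw hyw => by
    obtain ⟨r, hr, c, hc, rfl⟩ := U.decomp P hf hf0 hfC hy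
    have h1 := (U.cent_f P hf hf0 hfC hc).2
    have h2 : r ∉ 𝐂[w] := fun e => hyw (mul_mem e (mem_cent1_iff.2 (mem_cent1_iff.1 (h1 (P.RN.1 hw))).symm))
    refine ⟨r, hr, fun e => h2 ?_, h2, inf_cent_mul h1⟩
    rw [mul_assoc, ← mul_assoc c, ← mem_cent1_iff.1 (h1 (P.RN.1 hr)), mul_assoc, hsq1 c hc, mul_one] at hy2
    by_cases h3 : r = 1
    · exact h3 ▸ one_mem _
    · exact eq_half P.dih.ord e h3 hy2 ▸ mem_cent1_iff.2 (hz w hw).symm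
  have hB : ∀ B : Subgroup G, B ≤ T → (∀ y ∈ B, y * y = 1) → B ≤ T ⊓ 𝐂[b] ∨ B ≤ T ⊓ 𝐂[a * b] := by
    intro B hBT hB2
    by_contra hn
    push Not at hn
    obtain ⟨y, hy, hy'⟩ := SetLike.not_le_iff_exists.1 hn.1
    obtain ⟨y', hz', hz''⟩ := SetLike.not_le_iff_exists.1 hn.2
    obtain ⟨r, hr, hra, hrw, e1⟩ := hinv y (hBT hy) (hB2 y hy) b P.dih.b_mem fun e => hy' ⟨hBT hy, e⟩
    obtain ⟨s, hs, hsa, hsw, e2⟩ := hinv y' (hBT hz') (hB2 y' hz') _ hab fun e => hz'' ⟨hBT hz', e⟩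
    have h1 : Cls a b 1 r := (exists_cls P.dih hr hra).resolve_left fun e => hrw (by simpa using (hcls 0 r e).2)
    have h2 : Cls a b 0 s := (exists_cls P.dih hs hsa).resolve_right fun e => hsw (by simpa using (hcls 1 s e).2)
    have h3 : y' ∈ T ⊓ 𝐂[r] := e1.le ⟨hBT hz', mem_cent1_iff.2 (comm_of_sq hB2 hz' hy)⟩
    have h4 : r ∈ T ⊓ 𝐂[s] := e2.le ⟨P.RN.1 hr, mem_cent1_iff.2 (mem_cent1_iff.1 h3.2).symm⟩
    rcases (dih_pair P.dih hs hsa).mem_closure.1 ((dih_cent_refl P.dih hs hsa).le ⟨hr, h4.2⟩) with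
      e | e | e | e
    · exact hra (e ▸ one_mem _)
    · exact hra (e ▸ pow_mem (mem_zpowers a) _)
    · exact h2.not_both P.dih.ord (by simpa [e] using h1)
    · exact (h2.mul_half P.dih.ord).not_both P.dih.ord (by simpa [e] using h1)
  have hW2 : ∀ y ∈ T ⊓ 𝐂[b], y * y = 1 := fun y hy => by
    obtain ⟨r, hr, c, hc, rfl⟩ := U.decomp P hf hf0 hfC hy.1
    have h1 := (U.cent_f P hf hf0 hfC hc).2
    have h2 : r ∈ 𝐂[b] := (Subgroup.mul_mem_cancel_right _ (mem_cent1_iff.2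
      (mem_cent1_iff.1 (h1 (P.RN.1 P.dih.b_mem))).symm)).1 hy.2
    rw [mul_assoc, ← mul_assoc c, ← mem_cent1_iff.1 (h1 (P.RN.1 hr)), mul_assoc, hsq1 c hc, mul_one]
    exact pair_sq (dih_pair P.dih P.dih.b_mem P.dih.notMem)
      ((dih_cent_refl P.dih P.dih.b_mem P.dih.notMem).le ⟨hr, h2⟩)
  have ht1 : t ∈ T ⊓ 𝐂[b] := ⟨P.tT, mem_cent1_iff.2 (mem_cent1_iff.1 (U.hT.le (P.RN.1 P.dih.b_mem))).symm⟩
  have ht2 : t ∈ T ⊓ 𝐂[a * b] := ⟨P.tT, mem_cent1_iff.2 (mem_cent1_iff.1 (U.hT.le (P.RN.1 hab))).symm⟩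
  have hl1 : T ⊓ 𝐂[b] ≤ T := inf_le_left
  have hl2 : T ⊓ 𝐂[a * b] ≤ T := inf_le_left
  generalize T ⊓ 𝐂[b] = W₁ at hc1 hN1 hB hW2 ht1 hl1
  generalize T ⊓ 𝐂[a * b] = W₂ at hc2 hB ht2 hl2
  have hcj2 : ∀ g : G, ∀ y ∈ W₁ ^ᶜ g, y * y = 1 := fun g y hy => by
    obtain ⟨w, hw, rfl⟩ := mem_cj'.1 hy
    rw [conj_mul, hW2 w hw]; simp
  have hg : ∀ g ∈ S, g ∉ T → W₁ ^ᶜ g ≤ T → W₁ ^ᶜ g = W₂ := fun g hg hgT hle => by
    rcases hB _ hle (hcj2 g) with h1 | h1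
    · exact absurd (hN1 g hg (mem_normalizer_of_cj_le h1)) hgT
    · exact eq_of_le_of_card_ge h1 (by rw [card_cj, hc1, hc2])
  have hx1 := hg x U.xS U.xT (cj_le_of_mem_normalizer hl1 U.xN)
  have hn1 : T ≤ 𝐍(W₁) := norm_of_card hl1 (by rw [hT32, hc1])
  have hn2 : T ≤ 𝐍(W₂) := norm_of_card hl2 (by rw [hT32, hc2])
  have hx2 : W₂ ^ᶜ x = W₁ := by rw [← hx1, U.cj_cj_eq ⟨hl1, hn1⟩]
  have h64 := U.ext_card
  obtain ⟨y, hyS, hyN, hyU, -⟩ := exists_step U.hS.isP (lt_of_le_of_ne U.ext_le fun e => by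
    rw [e, h.card_syl h7 U.hS] at h64; omega)
  have hyU' : W₁ ^ᶜ y ≤ T ⊔ zpowers x := cj_le_of_mem_normalizer (hl1.trans le_sup_left) hyN
  by_cases h1 : W₁ ^ᶜ y ≤ T
  · have h2 := hg y hyS (fun e => hyU (mem_sup_left e)) h1
    have h3 := hN1 (x * y) (mul_mem U.xS hyS) (cj_eq_self_iff.1 (by rw [← cj_cj, h2, hx2]))
    exact hyU ((Subgroup.mul_mem_cancel_left _ (mem_sup_right (mem_zpowers x))).1 (mem_sup_left h3))
  obtain ⟨w, hw, hwT⟩ := SetLike.not_le_iff_exists.1 h1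
  obtain ⟨k, hk, rfl⟩ := ((mem_ext U.xN U.x2).1 (hyU' hw)).resolve_left hwT
  have hfix : ∀ s ∈ T ⊓ W₁ ^ᶜ y, k * x * s * (k * x)⁻¹ = s := fun s hs => by
    rw [comm_of_sq (hcj2 y) hw hs.2, mul_inv_cancel_right]
  have e1 : W₁ ^ᶜ (k * x) = W₂ := by rw [← cj_cj, hx1, cj_eq_of_mem_normalizer (hn2 hk)]
  have e2 : W₂ ^ᶜ (k * x) = W₁ := by rw [← cj_cj, hx2, cj_eq_of_mem_normalizer (hn1 hk)]
  have hle : T ⊓ W₁ ^ᶜ y ≤ W₁ ⊓ W₂ := by
    rcases hB _ inf_le_left (fun s hs => hcj2 y s hs.2) with h2 | h2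
    · exact le_inf h2 fun s hs => e1 ▸ hfix s hs ▸ cj_mem _ (h2 hs)
    · exact le_inf (fun s hs => e2 ▸ hfix s hs ▸ cj_mem _ (h2 hs)) h2
  have h2 := card_mul_card_le (le_sup_left : T ≤ T ⊔ zpowers x) hyU'
  rw [card_cj, hc1, h64, hT32] at h2
  have h3 : Nat.card (W₁ ⊓ W₂ : Subgroup G) ≤ 8 := by
    have h4 := card_dvd_of_le (inf_le_left : W₁ ⊓ W₂ ≤ W₁)
    have h5 := H1.card_lt_of_lt (lt_of_le_of_ne (inf_le_left : W₁ ⊓ W₂ ≤ W₁) fun e => U.xT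
      (hN1 x U.xS (cj_eq_self_iff.1 (hx1.trans (eq_of_le_of_card_ge (inf_eq_left.1 e)
        (by rw [hc1, hc2])).symm))))
    rw [hc1] at h4 h5
    generalize Nat.card (W₁ ⊓ W₂ : Subgroup G) = m at h4 h5
    by_contra h6
    have h6' : 8 < m := by omega
    interval_cases m <;> omega
  have h4 := (eq_of_le_of_card_ge hle (by omega)).ge ⟨ht1, ht2⟩
  exact hwT (U.Teq ▸ ⟨U.ext_le (hyU' hw), H73.mem_centralizer_singleton_iff_conj.2 (hfix t h4)⟩)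

/-- The Sylow centraliser of an extremal involution with non-solvable centraliser is Sylow. -/
theorem false (h : Hyp G) (U : Up S T t x) (D : Loc t T Q R L q) : False := by
  have ht1 : t ≠ 1 := fun e => by have := U.ht; rw [e, orderOf_one] at this; omega
  have h7 := h.len_le (h.cent_ne ht1)
  have key : q ≤ 1 → (R ⊓ Q = ⊥ → ⁅T, T⁆ ≠ ⊥ ∧ Ty R) → Spl t T R L ∧ R ⊓ Q = ⊥ ∧ Q = zpowers t ∧
      ∃ z ∈ R, z ≠ 1 ∧ T ⊔ zpowers x ≤ 𝐂[z] := fun hq hty => by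
    have hQ := D.Q_eq U.ht hq
    have hder := D.der_le U.hT.le hQ
    have hxN : x ∈ 𝐍(⁅T, T⁆) := le_normalizer_commutator le_rfl le_rfl U.xN
    have hZ : R ⊓ Q = ⊥ := by
      by_contra hZ
      obtain ⟨s, hs, hs1⟩ := (R ⊓ Q).bot_or_exists_ne_one.resolve_left hZ
      have h1 : t ∈ ⁅T, T⁆ := by
        have h2 := eq_half (a := t) (j := 0) U.ht (hQ ▸ hs.2) hs1 (by
          obtain ⟨i, rfl⟩ := hQ ▸ hs.2
          simp only
          rw [← zpow_add, ← two_mul, zpow_mul, zpow_two, U.tt, one_zpow])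
        exact commutator_mono D.RT D.RT (D.der (by simpa [h2] using hs))
      exact U.xt_notMem D (D.uniq hZ _ (hder (conj_mem_of_mem_normalizer hxN h1))
        (by rw [conj_mul, U.tt]; simp))
    obtain ⟨z, hz, ho, hc⟩ := exists_central_inv U.ext_isP (N := ⁅T, T⁆)
      ⟨(hder.trans D.RT).trans le_sup_left, sup_le (le_normalizer_commutator le_normalizer le_normalizer)
        (zpowers_le.2 hxN)⟩ (hty hZ).1
    have hz1 : z ≠ 1 := fun e => by rw [e, orderOf_one] at ho; omega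
    refine ⟨⟨D.perf, D.syl, D.Lt, D.RN, D.QT.1 D.tQ, by rw [sup_comm, ← hQ]; exact D.idx, fun g hg => ?_⟩,
      hZ, hQ, z, hder hz, hz1, hc⟩
    obtain ⟨k, -, e⟩ := ty_conj D.perf D.syl (hty hZ).2 hg (by simpa using ht1)
      (by rw [conj_mul, U.tt]; simp) (hder hz) hz1 (H9.mul_self_of_orderOf_two ho)
    exact U.not_conj hc (k * g) (by rw [← e]; group)
  rcases D.ty with ⟨h4, hsq, hC⟩ | ⟨h8, hsq, hT⟩ | ⟨h8, hz, hD⟩
  · rcases D.idx with hT | h2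
    · exact U.elem_case h D (U.sq_one D (fun _ _ => hsq) hT) hT (Or.inl h4)
    have hT : ¬ T ≤ Q ⊔ R := fun e => by rw [relIndex_eq_one.2 e] at h2; omega
    have := D.len5 hT
    by_cases hq : q ≤ 1
    · have hE : R ⊓ Q = ⊥ → ∀ r ∈ R, r * r = 1 := fun hZ r hr => mem_bot.1 (hZ.le ⟨mul_mem hr hr, hsq r hr⟩)
      obtain ⟨P, hZ, hQ, z, hz, hz1, hc⟩ := key hq fun hZ => ⟨fun e => hT fun g hg => hC g hg fun r hr =>
        bot_le (a := Q) (e.le (commutator_mem_commutator hg (D.RT hr))),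
        Or.inl ⟨Or.inl (by rw [D.card_R hZ, h4]), hE hZ⟩⟩
      refine U.v_case h P (by rw [D.card_R hZ, h4]) (hE hZ) (fun g hg => ?_) (by rwa [sup_comm, ← hQ])
        hz hz1 hc
      rw [sup_comm, ← hQ]
      exact hC g hg.1 fun r hr => by rw [← hg.2 r hr]; simp
    · obtain rfl : q = 2 := by omega
      exact U.four_case h D h4 hsq hC h2
  · exact U.elem_case h D (U.sq_one D (fun _ _ => hsq) hT) hT (Or.inr h8)
  · have := D.len8 h8
    by_cases hq : q ≤ 1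
    · obtain ⟨P, hZ, hQ, z, hz, hz1, hc⟩ := key hq fun hZ => by
        obtain ⟨j, a, b, hD⟩ := hD hZ
        refine ⟨fun e => hD.notMem (hD.mem_zpowers_of_commute (not_pow_dvd_two j) hD.b_mem ?_),
          Or.inr ⟨j, a, b, hD⟩⟩
        exact commutatorElement_eq_one_iff_commute.1
          (mem_bot.1 (e.le (commutator_mem_commutator (D.RT hD.b_mem) (D.RT hD.a_mem))))
      obtain ⟨j, a, b, hD⟩ := hD hZ
      by_cases hp : ∃ f ∈ T, f ∉ R ⊔ zpowers t ∧ Cls a b 0 (f * b * f⁻¹)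
      · have hT : ¬ T ≤ R ⊔ zpowers t := fun e => by
          obtain ⟨f, hf, hf0, -⟩ := hp
          exact hf0 (e hf)
        have P' : Pre t T R L j a b := ⟨P, hD, P.idx.resolve_left hT, D.TL, D.Req, D.der_le U.hT.le hQ, hp⟩
        have h6 := D.len6 h8 (by rwa [hQ, sup_comm])
        have hq1 : 1 ≤ q := by
          have := D.cardQ
          rw [hQ, Nat.card_zpowers, U.ht] at this
          exact (Nat.pow_right_injective le_rfl (this.symm.trans (pow_one 2).symm)).ge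
        have h8' : 7 < len (⊤ : Subgroup G) := by have := len_lt_top (h.cent_ne ht1); omega
        have hj := U.j_le h h8' P'
        obtain ⟨f, hf, hf0, hfC⟩ := U.exists_cent P' hj
        obtain rfl | rfl : j = 0 ∨ j = 1 := by omega
        · exact U.pres_zero h h8' P' hf hf0 hfC
        · exact U.pres_one h h8' P' hf hf0 hfC
            (dih_central hD hz ((D.RT.trans le_sup_left).trans hc) hz1 ▸ hc)
      · refine U.d_swap_case h P hD fun f hf hf0 => (exists_cls hD (conj_mem_of_mem_normalizer (D.RN.2 hf)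
          hD.b_mem) fun e => ?_).resolve_left fun e => hp ⟨f, hf, hf0, e⟩
        have hp := dih_pair hD hD.b_mem hD.notMem
        have h1 := eq_half hD.ord e (by simpa using hp.ne₂) (by rw [conj_mul, hD.bb]; simp)
        have h2 := H73.mem_centralizer_singleton_iff_conj.1 (hc (mem_sup_left hf))
        rw [dih_central hD hz ((D.RT.trans le_sup_left).trans hc) hz1] at h2
        exact hp.ne (by simpa using h2.trans h1.symm)
    · obtain rfl : q = 2 := by omega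
      exact U.dih_four_case D (by by_contra hT; have := D.len6 h8 hT; omega) hz

end Up

end H72.Ch
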