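import Mathlib
import Cfsg.Agent.Base
import Cfsg.Agent.Lib.Chain.UpF
import Cfsg.Agent.S3309

/-! The case of a 2-central involution with non-solvable centraliser, and the trichotomy. -/

set_option autoImplicit false
set_option linter.style.haveILetI false
set_option linter.unusedSectionVars false

namespace H72.Ch

open Cfsg H45 H69 Subgroup H73 H29

universe u

variable {G : Type u} [Group G] [Finite G]

theorem rank_of_syl {S : Subgroup G} (hS : Syl 2 S ⊤)
    (h : ∀ A : Subgroup G, A ≤ S → (∀ a ∈ A, a * a = 1) → Nat.card A ≤ 4) : PRankLE 2 2 G := fun A _ hA => by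
  obtain ⟨g, -, hg⟩ := hS.exists_cj_le (R := A) (fun a => ⟨1, Subtype.ext (by simpa using hA a a.2)⟩) le_top
  rw [← card_cj A g]
  refine h _ hg fun a ha => ?_
  obtain ⟨b, hb, rfl⟩ := mem_cj'.1 ha
  rw [conj_mul, ← pow_two, hA b hb]; simp

theorem two_times_dih (h : Hyp G) {S D : Subgroup G} (hS : Syl 2 S ⊤) {t c v : G} (ht : orderOf t = 2)
    (htS : t ∈ S) (hSt : S ≤ 𝐂[t]) (hD : DihData D 4 c v) (hDS : D ≤ S) (htD : t ∉ D)
    (h16 : Nat.card S = 16) : False := by
  obtain ⟨P, rfl⟩ := hS.exists_sylow_top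
  obtain ⟨e⟩ := hD.nonempty_mulEquiv (by norm_num)
  have e' : zpowers t ≃* Multiplicative (ZMod 2) :=
    mulEquivOfPrimeCardEq (p := 2) (by rw [Nat.card_zpowers, ht]) (by simp)
  let φ : zpowers t × D →* (P : Subgroup G) := MonoidHom.noncommCoprod (inclusion (zpowers_le.2 htS))
    (inclusion hDS) (by
      rintro ⟨_, i, rfl⟩ d
      exact Subtype.ext ((show Commute (d : G) t from mem_cent1_iff.1 (hSt (hDS d.2))).zpow_right i).symm)
  have hφ : Function.Bijective φ := (Nat.bijective_iff_injective_and_card φ).2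
    ⟨(injective_iff_map_eq_one φ).2 fun p hp => by
      have h1 : (p.1 : G) * p.2 = 1 := congrArg Subtype.val hp
      have h2 : (p.1 : G) = 1 := by
        by_contra h2
        have h3 := eq_half (a := t) (j := 0) ht p.1.2 h2 (by
          obtain ⟨i, hi⟩ := p.1.2
          simp only at hi
          rw [← hi, ← zpow_add, ← two_mul, zpow_mul, zpow_two, H9.mul_self_of_orderOf_two ht, one_zpow])
        rw [h3, mul_eq_one_iff_eq_inv] at h1
        rw [pow_zero, pow_one] at h1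
        exact htD (h1 ▸ inv_mem p.2.2)
      exact Prod.ext (Subtype.ext h2) (Subtype.ext (by simpa [h2] using h1)),
    by rw [Nat.card_prod, Nat.card_zpowers, ht, hD.card, h16]⟩
  haveI := h.simple
  exact Cfsg.Agent.S3309.result P ⟨(MulEquiv.ofBijective φ hφ).symm.trans (e'.prodCongr e)⟩ h.nab

theorem top_case (h : Hyp G) {S Q R L : Subgroup G} {t : G} {q : ℕ} (hS : Syl 2 S ⊤) (ht : orderOf t = 2)
    (hSt : S ≤ 𝐂[t]) (D : Loc t S Q R L q) : len (⊤ : Subgroup G) ≤ 7 ∧ (S ≤ 𝐂(S) ∨ PRankLE 2 2 G) := by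
  have ht1 : t ≠ 1 := fun e => by rw [e, orderOf_one] at ht; omega
  have tt := H9.mul_self_of_orderOf_two ht
  have htS := D.QT.1 D.tQ
  have h7 : len (⊤ : Subgroup G) ≤ 7 := by
    by_contra h7
    exact not_solvable_of_perfect D.perf D.ne (solv_of_pgroup (hS.isP.to_le
      (D.Lt.trans (h.eq_syl (by omega) hS hSt (h.cent_ne ht1)).le)))
  have h6 := len_lt_top (h.cent_ne ht1)
  have h4 := D.len4
  refine ⟨h7, ?_⟩
  have hQab : Q ≤ 𝐂(Q) := by
    by_cases hq : q ≤ 1
    · rw [D.Q_eq ht hq, centralizer_zpowers]; exact zpowers_le.2 (hSt htS)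
    · obtain rfl : q = 2 := by omega
      exact abelian_of_card_four D.cardQ
  by_cases hZ : R ⊓ Q = ⊥
  swap
  · refine Or.inr (rank_of_syl hS fun A hA hA2 => ?_)
    by_cases hq : q ≤ 1
    · have hQ := D.Q_eq ht hq
      have hQR : Q ≤ R := by
        have h1 := card_le_of_le (inf_le_right : R ⊓ Q ≤ Q)
        have h2 := (one_lt_card_iff_ne_bot _).2 hZ
        refine inf_eq_right.1 (eq_of_le_of_card_ge inf_le_right ?_)
        rw [hQ, Nat.card_zpowers, ht, ← hQ]; omega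
      have h1 := card_mul_card_le hA D.RT
      have h2 : Nat.card (A ⊓ R : Subgroup G) ≤ 2 := by
        rw [← ht, ← Nat.card_zpowers, ← hQ]
        exact card_le_of_le fun a ha => D.uniq hZ a ha.2 (hA2 a ha.1)
      have h3 : Nat.card S ≤ Nat.card R * 2 := by
        rw [← H1.card_mul_relIndex_of_le D.RT]
        have := D.idx
        rw [sup_eq_right.2 hQR, ← relIndex_eq_one] at this
        exact Nat.mul_le_mul_left _ (by omega)
      have h5 := h1.trans (Nat.mul_le_mul h3 h2)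
      rw [mul_assoc, mul_comm] at h5
      exact Nat.le_of_mul_le_mul_left h5 Nat.card_pos
    · obtain rfl : q = 2 := by omega
      have hT : S ≤ Q ⊔ R := by by_contra e; have := D.len5 e; omega
      have h8 : ¬ 8 ∣ Q.relIndex R := fun e => by have := D.len8 e; omega
      have hr : Q.relIndex R = 4 := by
        rcases D.ty with h1 | h1 | h1
        exacts [h1.1, absurd h1.1.symm.dvd h8, absurd h1.1 h8]
      by_cases hQA : Q ≤ A
      · refine (card_le_of_le fun a ha => ?_).trans D.cardQ.le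
        obtain ⟨u, hu, r, hr, rfl⟩ := D.mem_sup.1 (hT (hA ha))
        exact mul_mem hu (D.uniq hZ r hr (hA2 r ((A.mul_mem_cancel_left (hQA hu)).1 ha)))
      · by_contra hc
        have h1 := H3.card_sup_mul_card_inf (N := Q) (K := A) (hA.trans D.QT.2)
        have h2 : Nat.card (Q ⊓ A : Subgroup G) ≤ 2 := by
          have h3 := card_dvd_of_le (inf_le_left : Q ⊓ A ≤ Q)
          have h5 := H1.card_lt_of_lt (lt_of_le_of_ne (inf_le_left : Q ⊓ A ≤ Q) fun e =>
            hQA (inf_eq_left.1 e))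
          rw [D.cardQ] at h3 h5
          generalize Nat.card (Q ⊓ A : Subgroup G) = m at h3 h5
          interval_cases m <;> omega
        obtain ⟨k, hk⟩ := exists_card_pow (hS.isP.to_le hA)
        have h3 : 8 ≤ Nat.card A := by
          rw [hk] at hc ⊢
          exact Nat.pow_le_pow_right (n := 2) (i := 3) (by norm_num)
            ((Nat.pow_lt_pow_iff_right (a := 2) (n := 2) (by norm_num)).1 (by omega))
        have h5 : Q ⊔ A = S := eq_of_le_of_card_ge (sup_le D.QT.1 hA) (by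
          rw [le_antisymm hT D.QR_le, D.card_sup, hr]
          rw [D.cardQ] at h1
          nlinarith)
        have hSQ : S ≤ 𝐂(Q) := hT.trans (sup_le hQab D.RQ)
        refine hZ (D.split_of_ab (D.RT.trans (le_trans ?_ (centralizer_anti D.RT))))
        nth_rewrite 2 [← h5]
        rw [centralizer_sup]
        exact le_inf hSQ (h5 ▸ sup_le (le_centralizer_iff.1 (hA.trans hSQ)) (ab_of_sq hA2))
  have hE : (∀ r ∈ R, r * r ∈ Q) → ∀ r ∈ R, r * r = 1 := fun hsq r hr =>
    mem_bot.1 (hZ.le ⟨mul_mem hr hr, hsq r hr⟩)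
  have hab : (∀ r ∈ R, r * r ∈ Q) → S ≤ Q ⊔ R → S ≤ 𝐂(S) := fun hsq hT => by
    rw [le_antisymm hT D.QR_le, centralizer_sup]
    exact le_inf (sup_le hQab D.RQ) (sup_le (le_centralizer_iff.1 D.RQ) (ab_of_sq (hE hsq)))
  by_cases hd : ⁅S, S⁆ = ⊥
  · exact Or.inl (commutator_eq_bot_iff_le_centralizer.1 hd)
  have htR : t ∉ R := fun e => ht1 (mem_bot.1 (hZ.le ⟨e, D.tQ⟩))
  obtain ⟨z, hz, ho, hc⟩ := exists_central_inv hS.isP (N := ⁅S, S⁆)
    ⟨commutator_le_left_of_le_normalizer le_normalizer, le_normalizer_commutator le_normalizer le_normalizer⟩ hd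
  have hz1 : z ≠ 1 := fun e => by rw [e, orderOf_one] at ho; omega
  have hno : q ≤ 1 → Ty R → ∀ g : G, g * t * g⁻¹ ∉ R := fun hq hty g hg => by
    have hder := D.der_le hSt (D.Q_eq ht hq)
    obtain ⟨k, -, e⟩ := ty_conj D.perf D.syl hty hg (by simpa using ht1)
      (by rw [conj_mul, tt]; simp) (hder hz) hz1 (H9.mul_self_of_orderOf_two ho)
    have e1 : k * g * t * (k * g)⁻¹ = z := by rw [← e]; group
    obtain ⟨n, -, hn, e2⟩ := exists_norm_conj hS (mem_top (k * g)) hSt (e1 ▸ hc)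
    exact htR (hder ((mem_normalizer_iff.1 (le_normalizer_commutator le_rfl le_rfl hn) t).2
      (e2 ▸ e1 ▸ hz)))
  exfalso
  rcases D.ty with ⟨h4, hsq, hC⟩ | ⟨h8, hsq, hT⟩ | ⟨h8, -, hD⟩
  · have hT : ¬ S ≤ Q ⊔ R := fun e => hd (commutator_eq_bot_iff_le_centralizer.2 (hab hsq e))
    have h2 := D.idx.resolve_left hT
    have hq : q ≤ 1 := by have := D.len5 hT; omega
    have hQ := D.Q_eq ht hq
    have hR4 : Nat.card R = 4 := by rw [D.card_R hZ, h4]
    have hno' := hno hq (Or.inl ⟨Or.inl hR4, hE hsq⟩)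
    have hzR := D.der_le hSt hQ hz
    obtain ⟨f, hf, hf0⟩ := SetLike.not_le_iff_exists.1 hT
    have hm : ∀ g, g ∈ Q ⊔ R ↔ g ∈ R ∨ ∃ k ∈ R, g = k * t := fun g => by
      rw [sup_comm, hQ, mem_ext (D.RN.2 htS) (tt ▸ one_mem R)]
    rcases (hm _).1 (sq_mem_of_relIndex_two h2 hf) with hf2 | ⟨k, hk, e⟩
    swap
    · have h1 : Q ⊔ R ≤ R ⊔ zpowers f := sup_le (hQ ▸ zpowers_le.2 (by
        rw [show t = k⁻¹ * (f * f) by rw [e]; group]
        exact mul_mem (mem_sup_left (inv_mem hk)) (mem_sup_right (mul_mem (mem_zpowers f) (mem_zpowers f)))))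
        le_sup_left
      refine transfer_cyclic h.perfect hS D.RN hf (fun g hg => ?_) tt htS hno'
      by_cases hg' : g ∈ Q ⊔ R
      · exact h1 hg'
      · obtain ⟨l, hl, rfl⟩ := eq_mul_of_relIndex_two h2 hf hf0 hg hg'
        exact mul_mem (h1 hl) (mem_sup_right (mem_zpowers f))
    obtain ⟨v, hp, hV, -⟩ := elem_tri_at D.perf D.syl hR4 (hE hsq) hzR hz1
    have hv : v ∈ R := hV ▸ subset_closure (by simp)
    have hact : ∀ g ∈ S, g ∉ Q ⊔ R → g * v * g⁻¹ = z * v := fun g hg hg0 => by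
      have h1 := H73.mem_centralizer_singleton_iff_conj.1 (hc hg)
      rcases hp.mem_closure.1 (hV ▸ conj_mem_of_mem_normalizer (D.RN.2 hg) hv) with e | e | e | e
      · exact absurd (by simpa using e) hp.ne₂
      · exact absurd (by simpa using h1.trans e.symm) hp.ne
      · refine absurd (hC g hg fun r hr => ?_) hg0
        have : g ∈ 𝐂(R) := hV ▸ mem_cent_pair.2 ⟨(mul_inv_eq_iff_eq_mul.1 h1).symm,
          (mul_inv_eq_iff_eq_mul.1 e).symm⟩
        rw [← this r hr]; simp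
      · exact e
    obtain ⟨c, hcS, hc0, hc2⟩ : ∃ c ∈ S, c ∉ Q ⊔ R ∧ c * c = z := by
      have h1 : f * (f * f) * f⁻¹ = f * f := by group
      rcases hp.mem_closure.1 (hV ▸ hf2) with e | e | e | e
      · refine ⟨f * v, mul_mem hf (D.RT hv), fun h => hf0
          ((Subgroup.mul_mem_cancel_right _ (mem_sup_right hv)).1 h), ?_⟩
        rw [show f * v * (f * v) = f * v * f⁻¹ * (f * f) * v by group, hact f hf hf0, e, mul_one,
          mul_assoc, hp.sq₂, mul_one]
      · exact ⟨f, hf, hf0, e⟩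
      · rw [e, hact f hf hf0] at h1
        exact absurd (by simpa using h1) hz1
      · rw [e, ← conj_mul, hact f hf hf0, H73.mem_centralizer_singleton_iff_conj.1 (hc hf)] at h1
        exact absurd (by simpa using h1) hz1
    have hord : orderOf c = 2 ^ (1 + 1) := orderOf_eq_prime_pow (by simpa [pow_two, hc2] using hz1)
      (by rw [show 2 ^ (1 + 1) = 2 * 2 from rfl, pow_mul, pow_two, pow_two, hc2, hp.sq₁])
    have hD := dihData_sup hord hp.sq₂ (by
      have h1 := hact c hcS hc0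
      rw [mul_inv_eq_iff_eq_mul, ← hc2, mul_assoc, mul_assoc, mul_right_inj] at h1
      rw [mul_inv_eq_iff_eq_mul, eq_inv_mul_iff_mul_eq, ← h1]) fun e =>
        hp.ne ((eq_half hord e hp.ne₂ hp.sq₂).trans (by rw [pow_one, pow_two, hc2])).symm
    have h8 : Nat.card (Q ⊔ R : Subgroup G) = 8 := by
      rw [sup_comm, hQ, card_ext (D.RN.2 htS) htR (tt ▸ one_mem R), hR4]
    refine two_times_dih h hS ht htS hSt hD (sup_le (zpowers_le.2 hcS) (zpowers_le.2 (D.RT hv)))
      (fun e => hc0 ((eq_of_le_of_card_ge (sup_le (hQ ▸ zpowers_le.2 e) (hV ▸ (closure_le _).2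
        (Set.pair_subset (hc2 ▸ mul_mem hD.a_mem hD.a_mem) hD.b_mem))) (by rw [h8, hD.card]; rfl)).ge
          hD.a_mem)) (by rw [← H1.card_mul_relIndex_of_le D.QR_le, h8, h2])
  · exact hd (commutator_eq_bot_iff_le_centralizer.2 (hab hsq hT))
  · have hq : q ≤ 1 := by have := D.len8 h8; omega
    have hQ := D.Q_eq ht hq
    have hq1 : 1 ≤ q := by
      have := D.cardQ
      rw [hQ, Nat.card_zpowers, ht] at this
      exact (Nat.pow_right_injective le_rfl (this.symm.trans (pow_one 2).symm)).ge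
    have hT : S ≤ Q ⊔ R := by by_contra e; have := D.len6 h8 e; omega
    exact transfer_cyclic h.perfect hS D.RN htS (by rwa [sup_comm, ← hQ]) tt htS (hno hq (Or.inr (hD hZ)))

/-- The trichotomy for short simple groups. -/
theorem Hyp.trichotomy (h : Hyp G)
    (hTy : ∀ (Y : Type u) [Group Y] [Finite Y], IsSimpleGroup Y → ¬ IsMulCommutative Y →
      len (⊤ : Subgroup Y) + 2 ≤ len (⊤ : Subgroup G) → TyOK Y) :
    (∀ t : G, orderOf t = 2 → Group.IsSolvable 𝐂[t]) ∨
      (len (⊤ : Subgroup G) ≤ 7 ∧ ((∃ S : Subgroup G, Syl 2 S ⊤ ∧ S ≤ 𝐂(S)) ∨ PRankLE 2 2 G)) := by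
  by_cases hs : ∀ t : G, orderOf t = 2 → Group.IsSolvable 𝐂[t]
  · exact Or.inl hs
  push Not at hs
  obtain ⟨t₀, ht₀, hs₀⟩ := hs
  obtain ⟨⟨t, T⟩, ⟨ht, hns, hT⟩, hmax⟩ := Set.exists_max_image
    {p : G × Subgroup G | orderOf p.1 = 2 ∧ ¬ Group.IsSolvable 𝐂[p.1] ∧ Syl 2 p.2 𝐂[p.1]}
    (fun p => Nat.card p.2) (Set.toFinite _) (by
      obtain ⟨T, hT⟩ := exists_isSylowIn 2 𝐂[t₀]
      exact ⟨⟨t₀, T⟩, ht₀, hs₀, hT⟩)
  simp only at ht hns hT
  have ht1 : t ≠ 1 := fun e => by rw [e, orderOf_one] at ht; omega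
  obtain ⟨Q, R, L, q, D⟩ := exists_loc ht hns hT (h.len_le (h.cent_ne ht1)) fun Y _ _ h1 h2 h3 =>
    hTy Y h1 h2 (by have := len_lt_top (h.cent_ne ht1); omega)
  obtain ⟨S, hS, hTS⟩ := exists_isSylowIn_le hT.isP (le_top : T ≤ ⊤)
  rcases hTS.eq_or_lt with rfl | hlt
  · obtain ⟨h1, h2⟩ := top_case h hS ht hT.le D
    exact Or.inr ⟨h1, h2.imp_left fun h2 => ⟨_, hS, h2⟩⟩
  · obtain ⟨x, hx, h1, h2, h3⟩ := exists_step hS.isP hlt
    refine (Up.false h ⟨hS, ht, (hT.max _ (le_inf hTS hT.le) inf_le_right hS.isP.to_inf_left).symm, hT, hx,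
      h1, h2, h3, fun s hs hns P hP hle => ?_⟩ D).elim
    obtain ⟨P', hP', hle'⟩ := exists_isSylowIn_le hP hle
    exact (card_le_of_le hle').trans (hmax ⟨s, P'⟩ ⟨hs, hns, hP'⟩)

end H72.Ch
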