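import Mathlib
import Cfsg.Agent.Base
import Cfsg.Agent.Lib.Chain.Top

/-! Generic lower bounds for the chain length, and small Sylow 2-subgroups of simple groups. -/

set_option autoImplicit false
set_option linter.style.haveILetI false
set_option linter.unusedSectionVars false

namespace H72.Ch

open Cfsg H45 H69 Subgroup H73 H29

universe u

section
variable {G : Type*} [Group G] [Finite G]

theorem len_sylow {H : Subgroup G} {p n r : ℕ} (hp : p.Prime) (hr : r.Prime) (hne : r ≠ p)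
    (h : p ^ n ∣ Nat.card H) (h' : r ∣ Nat.card H) : n + 1 ≤ len H := by
  haveI := Fact.mk hp
  obtain ⟨K, hK⟩ := Sylow.exists_subgroup_card_pow_prime (G := H) p h
  have h1 : n ≤ len K := le_len_of_pow_dvd hp (hK ▸ dvd_rfl)
  have h2 : K ≠ ⊤ := fun e => by
    rw [e, card_top] at hK
    rw [hK] at h'
    exact hne ((Nat.prime_dvd_prime_iff_eq hr hp).1 (hr.dvd_of_dvd_pow h'))
  have := len_lt_top h2
  rw [len_top] at this
  omega

theorem len_le_map_of_disj {G' : Type*} [Group G'] [Finite G'] (f : G →* G') {H : Subgroup G}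
    (h : H ⊓ f.ker = ⊥) : len H ≤ len (H.map f) := by
  rw [← len_top H, ← len_top (H.map f)]
  refine len_le_of_injective (f := (f.comp H.subtype).codRestrict _ fun x => mem_map_of_mem f x.2) ?_
  rw [injective_iff_map_eq_one]
  intro a ha
  have : (a : G) ∈ H ⊓ f.ker := ⟨a.2, congrArg Subtype.val ha⟩
  rw [h, mem_bot] at this
  exact Subtype.ext this

theorem len_add_of_disj {N K H : Subgroup G} (hN : N ⊴ H) (hK : K ≤ H) (hd : N ⊓ K = ⊥) :
    len N + len K ≤ len H := by
  haveI := hN.normal_subgroupOf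
  have h1 := len_quot (N.subgroupOf H)
  rw [len_subgroupOf hN.1, len_top] at h1
  have h2 := len_le_map_of_disj (QuotientGroup.mk' (N.subgroupOf H)) (H := K.subgroupOf H) (by
    rw [QuotientGroup.ker_mk', eq_bot_iff]
    intro x hx
    have : (x : G) ∈ N ⊓ K := ⟨hx.2, hx.1⟩
    rw [hd, mem_bot] at this
    exact Subtype.ext this)
  rw [len_subgroupOf hK] at h2
  have h3 := len_mono (le_top : (K.subgroupOf H).map (QuotientGroup.mk' (N.subgroupOf H)) ≤ ⊤)
  omega

theorem len_range {G' : Type*} [Group G'] [Finite G'] {f : G →* G'} (hf : Function.Injective f) :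
    len (⊤ : Subgroup G) ≤ len f.range := by
  have := len_le_map hf (⊤ : Subgroup G)
  rwa [← MonoidHom.range_eq_map] at this

theorem len_top_sylow {p n r : ℕ} (hp : p.Prime) (hr : r.Prime) (hne : r ≠ p)
    (h : p ^ n ∣ Nat.card G) (h' : r ∣ Nat.card G) : n + 1 ≤ len (⊤ : Subgroup G) :=
  len_sylow hp hr hne (by rwa [card_top]) (by rwa [card_top])

end

variable {G : Type u} [Group G] [Finite G]

theorem exists_conj_ne [IsSimpleGroup G] (hG : ¬ IsMulCommutative G) {S : Subgroup G} (hS : Syl 2 S ⊤)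
    {z : G} (hz : orderOf z = 2) (hzS : z ∈ S) : ∃ g : G, g * z * g⁻¹ ∈ S ∧ g * z * g⁻¹ ≠ z := by
  by_contra hn
  push Not at hn
  obtain ⟨P, rfl⟩ := hS.exists_sylow_top
  have hzp : IsPGroup 2 (zpowers z) := .of_card (n := 1) (by rw [Nat.card_zpowers, hz, pow_one])
  exact not_solvable_of_simple hG
    (solv_top_iff.1 (H73.zpowers_eq_top_of_isolated P hz hzS hn ▸ solv_of_pgroup hzp))

theorem ty_of_small [IsSimpleGroup G] (hG : ¬ IsMulCommutative G) {S : Subgroup G} (hS : Syl 2 S ⊤)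
    (h : Nat.card S = 4 ∨ Nat.card S = 8) : Ty S := by
  by_cases he : ∀ r ∈ S, r * r = 1
  · exact Or.inl ⟨h, he⟩
  push Not at he
  obtain ⟨c, hc, hc2⟩ := he
  have hzp : zpowers c ≤ S := zpowers_le.2 hc
  obtain ⟨k, hk⟩ := exists_card_pow (hS.isP.to_le hzp)
  rw [Nat.card_zpowers] at hk
  have hk2 : 2 ≤ k := by
    by_contra h1
    have : c ^ 2 = 1 := orderOf_dvd_iff_pow_eq_one.1 (hk ▸ Nat.pow_dvd_pow 2 (show k ≤ 1 by omega))
    exact hc2 (by rwa [← pow_two])
  obtain ⟨j, rfl⟩ : ∃ j, k = j + 1 + 1 := ⟨k - 2, by omega⟩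
  have hz := H9.orderOf_eq_two_of_mul_self (half_ne hk) (half_sq hk)
  obtain ⟨g, hb, hbz⟩ := exists_conj_ne hG hS hz (pow_mem hc _)
  set b := g * c ^ 2 ^ (j + 1) * g⁻¹ with hbdef
  have bb : b * b = 1 := H73.conj_mul_self (half_sq hk) g
  have b1 : b ≠ 1 := by simpa [hbdef] using half_ne hk
  have hbc : b ∉ zpowers c := fun e => hbz (eq_half hk e b1 bb)
  have hlt : zpowers c < S := lt_of_le_of_ne hzp fun e => hbc (e ▸ hb)
  have h1 : Nat.card (zpowers c) < Nat.card S :=
    lt_of_le_of_ne (card_le_of_le hzp) fun e => hlt.ne (eq_of_le_of_card_ge hzp e.ge)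
  have h2 := card_dvd_of_le hzp
  rw [Nat.card_zpowers, hk] at h1 h2
  have hj : j = 0 := by
    by_contra hj
    have : 2 ^ 3 ≤ 2 ^ (j + 1 + 1) := Nat.pow_le_pow_right (by norm_num) (by omega)
    omega
  subst hj
  have h8 : Nat.card S = 8 := by norm_num at h1; omega
  have hc4 : Nat.card (zpowers c) = 4 := by rw [Nat.card_zpowers, hk]; norm_num
  have hN : S ≤ 𝐍(zpowers c) := norm_of_card hzp (by rw [hc4, h8])
  have hS' : zpowers c ⊔ zpowers b = S := eq_of_le_of_card_ge (sup_le hzp (zpowers_le.2 hb))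
    (by rw [card_ext (hN hb) hbc (bb ▸ one_mem _), hc4, h8])
  have c4 : c ^ 4 = 1 := by have := pow_orderOf_eq_one c; rwa [hk] at this
  have hm : b * c * b⁻¹ ∈ zpowers c := (mem_normalizer_iff.1 (hN hb) c).1 (mem_zpowers c)
  have ho : orderOf (b * c * b⁻¹) = 4 := by
    rw [← MulAut.conj_apply, MulEquiv.orderOf_eq, hk]; norm_num
  have hcase : b * c * b⁻¹ = c ∨ b * c * b⁻¹ = c⁻¹ := by
    classical
    rw [mem_zpowers_iff_mem_range_orderOf, hk, Finset.mem_image] at hm
    obtain ⟨i, hi, e⟩ := hm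
    rw [Finset.mem_range] at hi
    have hi' : i < 4 := by simpa using hi
    have hsq : (b * c * b⁻¹) ^ 2 ≠ 1 := fun e => by
      have := orderOf_dvd_of_pow_eq_one e
      rw [ho] at this; omega
    interval_cases i
    · exact absurd (by rw [← e]; simp) hsq
    · exact Or.inl (by rw [← e, pow_one])
    · exact absurd (by rw [← e, ← pow_mul, c4]) hsq
    · exact Or.inr (by rw [← e, eq_inv_iff_mul_eq_one, ← pow_succ, c4])
  rcases hcase with e | e
  · exfalso
    have hcb : Commute b c := mul_inv_eq_iff_eq_mul.1 e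
    have key : ∀ s ∈ S, ∃ i : ℤ, s = c ^ i ∨ s = c ^ i * b := fun s hs => by
      rw [← hS', mem_ext (hN hb) (bb ▸ one_mem _)] at hs
      rcases hs with ⟨i, rfl⟩ | ⟨_, ⟨i, rfl⟩, rfl⟩
      · exact ⟨i, Or.inl rfl⟩
      · exact ⟨i, Or.inr rfl⟩
    have hab : S ≤ 𝐂(S) := fun s hs => mem_centralizer_iff.2 fun s' hs' => by
      obtain ⟨i, rfl | rfl⟩ := key s hs <;> obtain ⟨i', rfl | rfl⟩ := key s' hs'
      · exact (Commute.zpow_zpow_self c _ _).eq
      · exact ((Commute.zpow_zpow_self c _ _).mul_left (hcb.zpow_right _)).eq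
      · exact ((Commute.zpow_zpow_self c _ _).mul_right (hcb.zpow_right _).symm).eq
      · exact (((Commute.zpow_zpow_self c _ _).mul_right (hcb.zpow_right _).symm).mul_left
          ((hcb.zpow_right _).mul_right (Commute.refl b))).eq
    have hsq : ∀ s ∈ S, s * s ∈ zpowers c := fun s hs => by
      obtain ⟨i, rfl | rfl⟩ := key s hs
      · exact mul_mem (zpow_mem (mem_zpowers c) _) (zpow_mem (mem_zpowers c) _)
      · rw [(hcb.zpow_right i).mul_mul_mul_comm, bb, mul_one]
        exact mul_mem (zpow_mem (mem_zpowers c) _) (zpow_mem (mem_zpowers c) _)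
    refine half_ne hk (eq_one_of_abelian_syl (L := ⊤) (perfect_of_simple hG) hS hab (pow_mem hc _) fun n hn => ?_)
    have hnc : n * c * n⁻¹ ∈ S := (mem_normalizer_iff.1 hn.2 c).1 hc
    have e1 : n * c ^ 2 ^ (0 + 1) * n⁻¹ = (n * c * n⁻¹) * (n * c * n⁻¹) := by
      rw [conj_mul, ← pow_two]; norm_num
    have := eq_half hk (d := n * c ^ 2 ^ (0 + 1) * n⁻¹) (e1 ▸ hsq _ hnc) (by simpa using half_ne hk)
      (H73.conj_mul_self (half_sq hk) n)
    exact mem_cent1_iff.2 (mul_inv_eq_iff_eq_mul.1 this)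
  · exact Or.inr ⟨0, c, b, hS' ▸ dihData_sup hk bb e hbc⟩

theorem ty_of_dihedral {S : Subgroup G} {k : ℕ} (hk : 1 ≤ k) (e : S ≃* DihedralGroup (2 ^ k)) : Ty S := by
  obtain ⟨a, b, h⟩ := exists_dihData (by positivity) e
  rcases hk.eq_or_lt with rfl | hk
  · refine Or.inl ⟨Or.inl (by rw [h.card]; norm_num), fun r hr => ?_⟩
    obtain ⟨i, rfl | rfl⟩ := (h.mem r).1 hr
    · have : a ^ 2 = 1 := by have := pow_orderOf_eq_one a; rwa [h.ord] at this
      rw [← zpow_add, ← two_mul, zpow_mul, zpow_two, ← pow_two, this, one_zpow]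
    · exact h.refl_mul_self i
  · obtain ⟨j, rfl⟩ : ∃ j, k = j + 2 := ⟨k - 2, by omega⟩
    exact Or.inr ⟨j, a, b, h⟩

theorem TyOK.of_equiv {G' : Type u} [Group G'] [Finite G'] (e : G ≃* G') (h : TyOK G') : TyOK G :=
  fun P hP => by
    obtain ⟨Q, rfl⟩ := hP.exists_sylow_top
    have := h _ (isSylowIn_top (Q.mapSurjective (f := e.toMonoidHom) e.surjective))
    exact this.of_equiv ((Q : Subgroup G).equivMapOfInjective e.toMonoidHom e.injective).symm

theorem tyOK_of_card [IsSimpleGroup G] (hG : ¬ IsMulCommutative G) {m : ℕ} (hm : ¬ 2 ∣ m)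
    (h : Nat.card G = 4 * m ∨ Nat.card G = 8 * m) : TyOK G := fun P hP => by
  refine ty_of_small hG hP ?_
  have hm0 : m ≠ 0 := fun e => hm (e ▸ dvd_zero 2)
  rw [hP.card_eq_pow_factorization, card_top]
  rcases h with h | h
  · left
    rw [h, show 4 = 2 ^ 2 by norm_num, Nat.factorization_mul (by positivity) hm0, Finsupp.add_apply,
      Nat.factorization_eq_zero_of_not_dvd hm, Nat.Prime.factorization_pow Nat.prime_two, Finsupp.single_eq_same]
  · right
    rw [h, show 8 = 2 ^ 3 by norm_num, Nat.factorization_mul (by positivity) hm0, Finsupp.add_apply,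
      Nat.factorization_eq_zero_of_not_dvd hm, Nat.Prime.factorization_pow Nat.prime_two, Finsupp.single_eq_same]

end H72.Ch
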