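import Mathlib
import Cfsg.Agent.Base
import Cfsg.Agent.Lib.Chain.Gen
import Cfsg.Agent.Lib.NGrp.Small
import Cfsg.Agent.Lib.GL.SylowSL2

/-! The chain length of `L₃(q)`, `q` odd, is at least eight. -/

set_option autoImplicit false
set_option linter.style.haveILetI false
set_option linter.unusedSectionVars false

namespace H72.Ch

open Cfsg H45 H69 Subgroup Matrix
open scoped MatrixGroups

variable {F : Type*} [Field F]

/-- The matrices with last row `(0, 0, c)`, `c ∈ A`. -/
def rowStab (A : Subgroup Fˣ) : Subgroup SL(3, F) where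
  carrier := {g | ∃ c ∈ A, (![0, 0, 1] : Fin 3 → F) ᵥ* g.1 = (c : F) • ![0, 0, 1]}
  one_mem' := ⟨1, one_mem _, by simp⟩
  mul_mem' := by
    rintro a b ⟨c, hc, h⟩ ⟨d, hd, h'⟩
    refine ⟨c * d, mul_mem hc hd, ?_⟩
    rw [Matrix.SpecialLinearGroup.coe_mul, ← vecMul_vecMul, h, smul_vecMul, h', smul_smul, Units.val_mul]
  inv_mem' := by
    rintro a ⟨c, hc, h⟩
    refine ⟨c⁻¹, inv_mem hc, ?_⟩
    have h1 : (![0, 0, 1] : Fin 3 → F) ᵥ* a.1 ᵥ* (a⁻¹).1 = ![0, 0, 1] := by
      rw [vecMul_vecMul, ← Matrix.SpecialLinearGroup.coe_mul, mul_inv_cancel, Matrix.SpecialLinearGroup.coe_one, vecMul_one]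
    rw [h, smul_vecMul] at h1
    conv_rhs => rw [← h1]
    rw [smul_smul, Units.inv_mul, one_smul]

theorem mem_rowStab {A : Subgroup Fˣ} {g : SL(3, F)} :
    g ∈ rowStab A ↔ g.1 2 0 = 0 ∧ g.1 2 1 = 0 ∧ ∃ c ∈ A, g.1 2 2 = c := by
  constructor
  · rintro ⟨c, hc, h⟩
    have e := fun i => congrFun h i
    simp only [vecMul, dotProduct, Fin.sum_univ_three] at e
    exact ⟨by simpa using e 0, by simpa using e 1, c, hc, by simpa using e 2⟩
  · rintro ⟨h0, h1, c, hc, h2⟩
    refine ⟨c, hc, funext fun i => ?_⟩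
    fin_cases i <;> simp [vecMul, dotProduct, Fin.sum_univ_three, h0, h1, h2]

/-- The translations of the affine plane. -/
def transl (F : Type*) [Field F] : Multiplicative (F × F) →* SL(3, F) where
  toFun v := ⟨!![1, 0, v.toAdd.1; 0, 1, v.toAdd.2; 0, 0, 1], by simp [det_fin_three]⟩
  map_one' := Subtype.ext (by simp [one_fin_three])
  map_mul' a b := Subtype.ext (by
    change (_ : Matrix (Fin 3) (Fin 3) F) = !![_, _, _; _, _, _; _, _, _] * !![_, _, _; _, _, _; _, _, _]
    ext s t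
    fin_cases s <;> fin_cases t <;> simp [Matrix.mul_apply, Fin.sum_univ_three, add_comm])

theorem transl_val (v : Multiplicative (F × F)) :
    (transl F v).1 = !![1, 0, v.toAdd.1; 0, 1, v.toAdd.2; 0, 0, 1] := rfl

theorem transl_inj : Function.Injective (transl F) := fun a b h => by
  have e := fun i j => congrFun (congrFun (congrArg Subtype.val h) i) j
  exact Multiplicative.toAdd.injective (Prod.ext (e 0 2) (e 1 2))

theorem emb_transl (g : SL(2, F)) (v : Multiplicative (F × F)) :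
    H3.NG.emb F g * transl F v = transl F (Multiplicative.ofAdd
      (g.1 0 0 * v.toAdd.1 + g.1 0 1 * v.toAdd.2, g.1 1 0 * v.toAdd.1 + g.1 1 1 * v.toAdd.2)) * H3.NG.emb F g :=
  Subtype.ext (by
    change (!![_, _, _; _, _, _; _, _, _] * !![_, _, _; _, _, _; _, _, _] : Matrix (Fin 3) (Fin 3) F) =
      !![_, _, _; _, _, _; _, _, _] * !![_, _, _; _, _, _; _, _, _]
    ext s t
    fin_cases s <;> fin_cases t <;> simp [Matrix.mul_apply, Fin.sum_univ_three])

theorem len_SL_two [Finite F] (hF : Odd (Nat.card F)) : 4 ≤ len (⊤ : Subgroup SL(2, F)) := by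
  obtain ⟨k, m, hk, -, e, -⟩ := H10.exists_two_part hF (H10.two_le_card_field (F := F))
  obtain ⟨p, hp⟩ := CharP.exists F
  have hpp := CharP.char_is_prime F p
  have hd := H10.char_dvd_card (F := F) p
  refine len_top_sylow (n := 3) Nat.prime_two hpp ?_ ?_ ?_
  · rintro rfl
    exact (Nat.not_even_iff_odd.2 hF) (even_iff_two_dvd.2 hd)
  · rw [H10.card_SL_two, e]
    exact (Nat.pow_dvd_pow 2 (by omega)).mul_right m
  · rw [H10.card_SL_two]
    exact (hd.mul_right _).mul_right _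

theorem len_rowStab_bot [Finite F] (hF : Odd (Nat.card F)) : 6 ≤ len (rowStab (⊥ : Subgroup Fˣ)) := by
  obtain ⟨p, hp⟩ := CharP.exists F
  have hpp := CharP.char_is_prime F p
  have hd := H10.char_dvd_card (F := F) p
  have h1 : 2 ≤ len (transl F).range := le_len_of_pow_dvd hpp (by
    rw [← Nat.card_congr (MonoidHom.ofInjective transl_inj).toEquiv, Nat.card_congr Multiplicative.toAdd,
      Nat.card_prod, pow_two]
    exact mul_dvd_mul hd hd)
  have h2 := (len_SL_two hF).trans (len_range (H3.NG.emb_inj (F := F)))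
  have hn : (H3.NG.emb F).range ≤ 𝐍((transl F).range) := by
    rintro _ ⟨g, rfl⟩
    refine mem_normalizer_fintype ?_
    rintro _ ⟨v, rfl⟩
    exact ⟨_, by rw [emb_transl, mul_inv_cancel_right]⟩
  have h3 := len_add_of_disj (N := (transl F).range) (K := (H3.NG.emb F).range)
    (H := (transl F).range ⊔ (H3.NG.emb F).range) ⟨le_sup_left, sup_le le_normalizer hn⟩ le_sup_right (by
      rw [eq_bot_iff]
      rintro _ ⟨⟨v, rfl⟩, g, hg⟩
      have e := fun i j => congrFun (congrFun (congrArg Subtype.val hg) i) j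
      have : v = 1 := Multiplicative.toAdd.injective (Prod.ext (e 0 2).symm (e 1 2).symm)
      rw [this, map_one]
      exact one_mem _)
  have h4 : (transl F).range ⊔ (H3.NG.emb F).range ≤ rowStab ⊥ := by
    refine sup_le ?_ ?_
    · rintro _ ⟨v, rfl⟩
      exact mem_rowStab.2 ⟨rfl, rfl, 1, one_mem _, rfl⟩
    · rintro _ ⟨v, rfl⟩
      exact mem_rowStab.2 ⟨rfl, rfl, 1, one_mem _, rfl⟩
  have := len_mono h4
  omega

theorem len_PSL_three [Finite F] (hF : Odd (Nat.card F)) : 8 ≤ len (⊤ : Subgroup PSL(3, F)) := by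
  have h2 : (2 : F) ≠ 0 := H10.two_ne_zero_of_odd_card hF
  have hne : (-1 : F) ≠ 1 := fun e => h2 (by linear_combination -e)
  let A : Subgroup Fˣ := zpowers (-1)
  have hA : ∀ c ∈ A, c = 1 ∨ c = -1 := by
    rintro _ ⟨i, rfl⟩
    rcases Int.even_or_odd i with h | h
    · exact Or.inl h.neg_one_zpow
    · exact Or.inr h.neg_one_zpow
  let d : SL(3, F) := ⟨!![-1, 0, 0; 0, 1, 0; 0, 0, -1], by simp [det_fin_three]⟩
  have h1 : rowStab (⊥ : Subgroup Fˣ) < rowStab A := by
    refine lt_of_le_of_ne (fun g hg => ?_) fun e => ?_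
    · obtain ⟨c, hc, h⟩ := hg
      exact ⟨c, (bot_le : ⊥ ≤ A) hc, h⟩
    · have : d ∈ rowStab A := mem_rowStab.2 ⟨rfl, rfl, -1, mem_zpowers _, rfl⟩
      rw [← e, mem_rowStab] at this
      obtain ⟨-, -, c, hc, h⟩ := this
      rw [mem_bot.1 hc] at h
      exact hne h
  have h3 := len_le_map_of_disj (QuotientGroup.mk' (center SL(3, F))) (H := rowStab A) (by
    rw [QuotientGroup.ker_mk', eq_bot_iff]
    rintro g ⟨hg, hz⟩
    obtain ⟨-, -, c, hc, h⟩ := mem_rowStab.1 hg
    obtain ⟨r, hr, hr'⟩ := Matrix.SpecialLinearGroup.mem_center_iff.1 hz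
    have e : r = c := by rw [← h, ← hr']; simp
    rcases hA c hc with rfl | rfl
    · exact Subtype.ext (by rw [← hr', e]; simp)
    · exact absurd (by simpa [e] using hr) (H3.NG.neg_one_cube h2))
  have h4 : (rowStab A).map (QuotientGroup.mk' (center SL(3, F))) ≠ ⊤ := fun e => by
    let w : SL(3, F) := ⟨!![1, 0, 0; 0, 1, 0; 1, 0, 1], by simp [det_fin_three]⟩
    obtain ⟨g, hg, h⟩ : QuotientGroup.mk' (center SL(3, F)) w ∈ (rowStab A).map _ := e ▸ mem_top _
    obtain ⟨z, hz, rfl⟩ := (QuotientGroup.mk'_eq_mk' _).1 h.symm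
    obtain ⟨r, hr, hr'⟩ := Matrix.SpecialLinearGroup.mem_center_iff.1 hz
    have h0 := (mem_rowStab.1 hg).1
    rw [Matrix.SpecialLinearGroup.coe_mul, ← hr'] at h0
    have : r = 0 := by simpa [w, Matrix.mul_apply, Fin.sum_univ_three] using h0
    simp [this] at hr
  have := len_lt_top h4
  have := len_lt h1
  have := len_rowStab_bot hF
  exact le_trans (by omega) (show len ((rowStab A).map (QuotientGroup.mk' (center SL(3, F)))) + 1 ≤ _ from len_lt_top h4)

end H72.Ch
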