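import Mathlib
import Cfsg.Agent.Base
import Cfsg.Agent.Lib.Chain.Gen
import Cfsg.Agent.Lib.MinDeg8.U3Main
import Cfsg.Agent.Lib.SL2.Borel
import Cfsg.Agent.Lib.Suzuki.Model
import Cfsg.Agent.Lib.GL.SylowSL2

/-! Chain lengths of `U₃(q)`, `Sz(q)` and `L₂(2^a)`. -/

set_option autoImplicit false
set_option linter.style.haveILetI false
set_option linter.unusedSectionVars false

namespace H72.Ch

open Cfsg H45 H69 Subgroup Matrix H11.U
open scoped MatrixGroups

open ArithmeticFunction in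
theorem omega_three {G : Type*} [Group G] [Finite G] {H : Subgroup G} (hs : Group.IsSolvable H)
    {p r s a b c : ℕ} (hp : p.Prime) (hr : r.Prime) (hs' : s.Prime) (h : p ^ a * r ^ b * s ^ c ∣ Nat.card H) :
    a + b + c ≤ len H := by
  have := le_len_of_dvd hs h
  rwa [cardFactors_mul (Nat.mul_ne_zero (pow_ne_zero _ hp.ne_zero) (pow_ne_zero _ hr.ne_zero))
    (pow_ne_zero _ hs'.ne_zero), cardFactors_mul (pow_ne_zero _ hp.ne_zero) (pow_ne_zero _ hr.ne_zero),
    cardFactors_apply_prime_pow hp, cardFactors_apply_prime_pow hr, cardFactors_apply_prime_pow hs'] at this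

section unitary

variable (F : Type*) [Field F] [Fintype F] (q : ℕ) [IsSq F q]

theorem card_PSU_three :
    Nat.gcd 3 (q + 1) * Nat.card (PSU 3 F q) = q ^ 3 * (q ^ 2 - 1) * (q ^ 3 + 1) := by
  rw [← card_SU_eq_mul_card_PSU (by norm_num), H8.U3.card_G]

theorem exists_borel_PSU : ∃ H : Subgroup (PSU 3 F q), H ≠ ⊤ ∧ Group.IsSolvable H ∧
    Nat.gcd 3 (q + 1) * Nat.card H = q ^ 3 * (q ^ 2 - 1) := by
  obtain ⟨e, he⟩ := H8.U3.exists_iso F q
  have hi := (H8.U3.index_map_mk (H8.U3.center_le_St (F := F) (q := q) e)).trans (H8.U3.index_St he)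
  have hq := two_le_q F q
  refine ⟨(H8.U3.St q e).map (QuotientGroup.mk' (center (SU 3 F q))), fun h => ?_, ?_, ?_⟩
  · rw [h, index_top] at hi
    have : 0 < q ^ 3 := by positivity
    omega
  · obtain ⟨p, k, hp, -, hqk, -⟩ := exists_char_pow F q
    haveI := Fact.mk hp
    have h1 : IsPGroup p (H8.U3.Fx q e) := .of_card (n := k * 3) (by rw [H8.U3.card_Fx he, hqk, pow_mul])
    have h2 : IsPGroup p (H8.U3.lam (q := q) he.1).ker :=
      (h1.comap_subtype (K := H8.U3.St q e)).to_le fun g hg => (H8.U3.lam_eq_one_iff he.1).1 hg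
    haveI := solv_of_pgroup h2
    haveI : Group.IsSolvable (H8.U3.St q e) :=
      Group.isSolvable_of_ker_le_range (H8.U3.lam (q := q) he.1).ker.subtype (H8.U3.lam he.1) (by rw [range_subtype])
    exact Group.isSolvable_of_surjective
      (MonoidHom.subgroupMap_surjective (QuotientGroup.mk' (center (SU 3 F q))) (H8.U3.St q e))
  · have h1 := card_PSU_three F q
    rw [← card_mul_index ((H8.U3.St q e).map (QuotientGroup.mk' (center (SU 3 F q)))), hi, ← mul_assoc] at h1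
    exact Nat.eq_of_mul_eq_mul_right (Nat.succ_pos _) h1

theorem len_PSU_odd (ho : Odd q) : 7 ≤ len (⊤ : Subgroup (PSU 3 F q)) ∧
    (q ≠ 3 → q ≠ 5 → 8 ≤ len (⊤ : Subgroup (PSU 3 F q))) := by
  obtain ⟨H, h1, h2, h3⟩ := exists_borel_PSU F q
  obtain ⟨p, k, hp, -, hqk, hk⟩ := exists_char_pow F q
  have hq := two_le_q F q
  have hlt := len_lt_top h1
  obtain ⟨m, hm⟩ : ∃ m, q ^ 2 - 1 = Nat.gcd 3 (q + 1) * (8 * m) := by
    have h8 : 8 ∣ q ^ 2 - 1 := by
      have := Int.natCast_dvd_natCast.1 (show ((8 : ℕ) : ℤ) ∣ ((q ^ 2 - 1 : ℕ) : ℤ) by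
        rw [Nat.cast_sub (Nat.one_le_pow _ _ (by omega))]
        push_cast
        exact Int.eight_dvd_sq_sub_one_of_odd (by exact_mod_cast ho))
      exact this
    have hd : Nat.gcd 3 (q + 1) ∣ q ^ 2 - 1 := by
      rw [H8.U3.sq_sub_one_eq]
      exact (Nat.gcd_dvd_right _ _).mul_left _
    have hc : (Nat.gcd 3 (q + 1)).Coprime 8 := Nat.Coprime.coprime_dvd_left (Nat.gcd_dvd_left _ _) (by norm_num)
    obtain ⟨m, hm⟩ := hc.mul_dvd_of_dvd_of_dvd hd h8
    exact ⟨m, by rw [hm, mul_assoc]⟩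
  have hH : Nat.card H = q ^ 3 * (8 * m) :=
    Nat.eq_of_mul_eq_mul_left (Nat.gcd_pos_of_pos_left (q + 1) (show 0 < 3 by norm_num)) (by rw [h3, hm]; ring)
  have hp3 : p ^ 3 ∣ q ^ 3 := pow_dvd_pow_of_dvd (hqk ▸ dvd_pow_self p hk.ne') 3
  constructor
  · have := omega_three h2 (a := 3) (b := 3) (c := 0) hp Nat.prime_two Nat.prime_two (by
      rw [hH, pow_zero, mul_one]
      exact mul_dvd_mul hp3 (Dvd.intro m (by norm_num)))
    omega
  · intro h3' h5
    have hm1 : m ≠ 1 := by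
      rintro rfl
      have h9 : q ^ 2 = 9 ∨ q ^ 2 = 25 := by
        have : 1 ≤ q ^ 2 := Nat.one_le_pow _ _ (by omega)
        rcases (Nat.dvd_prime Nat.prime_three).1 (Nat.gcd_dvd_left 3 (q + 1)) with e | e <;> rw [e] at hm <;> omega
      rcases h9 with e | e
      · exact h3' (Nat.pow_left_injective two_ne_zero (show q ^ 2 = 3 ^ 2 from e))
      · exact h5 (Nat.pow_left_injective two_ne_zero (show q ^ 2 = 5 ^ 2 from e))
    obtain ⟨r, hr, hrm⟩ := Nat.exists_prime_and_dvd hm1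
    have := omega_three h2 (a := 3) (b := 3) (c := 1) hp Nat.prime_two hr (by
      rw [hH, pow_one, mul_assoc]
      exact mul_dvd_mul hp3 (mul_dvd_mul (by norm_num) hrm))
    omega

theorem len_PSU_even {n : ℕ} (hn : 2 ≤ n) (hq : q = 2 ^ n) : 9 ≤ len (⊤ : Subgroup (PSU 3 F q)) := by
  obtain ⟨H, h1, h2, h3⟩ := exists_borel_PSU F q
  have hlt := len_lt_top h1
  have h4 : 2 ^ 2 ∣ q := hq ▸ Nat.pow_dvd_pow 2 hn
  have h4' : 4 ≤ q := Nat.le_of_dvd (by rw [hq]; positivity) h4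
  obtain ⟨m, hm⟩ := Nat.gcd_dvd_right 3 (q + 1)
  have hH : Nat.card H = q ^ 3 * (q - 1) * m :=
    Nat.eq_of_mul_eq_mul_left (Nat.gcd_pos_of_pos_left (q + 1) (show 0 < 3 by norm_num)) (by
      rw [h3, H8.U3.sq_sub_one_eq]
      conv_lhs => rw [hm]
      ring)
  have hm1 : m ≠ 1 := by
    rintro rfl
    have := Nat.gcd_le_left (q + 1) (show 0 < 3 by norm_num)
    omega
  obtain ⟨r, hr, hrm⟩ := Nat.exists_prime_and_dvd hm1
  obtain ⟨s, hs, hsm⟩ := Nat.exists_prime_and_dvd (show q - 1 ≠ 1 by omega)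
  have := omega_three h2 (a := 6) (b := 1) (c := 1) Nat.prime_two hs hr (by
    rw [hH, pow_one, pow_one]
    exact mul_dvd_mul (mul_dvd_mul (by simpa using pow_dvd_pow_of_dvd h4 3) hsm) hrm)
  omega

end unitary

theorem len_Sz {G : Type*} [Group G] [Finite G] {F : Type*} [Field F] [Fintype F] {m : ℕ} [hz : H14.Sz.SzF F m]
    (S : H14.Sz.Model G F m) : 4 * m + 4 ≤ len (⊤ : Subgroup G) := by
  have h1 : S.B ≠ ⊤ := fun e => by
    have := S.index_B
    rw [e, index_top] at this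
    have : 0 < Fintype.card F ^ 2 := by positivity
    omega
  have h2 := len_lt_top h1
  have h8 : 2 ^ 3 ∣ Fintype.card F := hz.hF ▸ Nat.pow_dvd_pow 2 (by have := hz.hm; omega)
  have h8' := Nat.le_of_dvd Fintype.card_pos h8
  obtain ⟨r, hr, hrm⟩ := Nat.exists_prime_and_dvd (show Fintype.card F - 1 ≠ 1 by omega)
  have := len_sylow (H := S.B) (n := (2 * m + 1) * 2) Nat.prime_two hr (by rintro rfl; omega)
    (by rw [S.card_B, pow_mul, ← hz.hF]; exact dvd_mul_right _ _) (by rw [S.card_B]; exact hrm.mul_left _)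
  omega

section even

variable {F : Type*} [Field F] [Finite F] {a : ℕ}

theorem card_PSL_even (ha : 1 ≤ a) (hF : Nat.card F = 2 ^ a) :
    Nat.card PSL(2, F) = Nat.card F * (Nat.card F - 1) * (Nat.card F + 1) := by
  have h2 : 2 ^ 1 ∣ Nat.card F := hF ▸ Nat.pow_dvd_pow 2 ha
  have h0 := H10.two_le_card_field (F := F)
  rw [← H10.card_PSL_two, (Nat.coprime_two_left.2 (Nat.odd_iff.2 (by omega))).gcd_eq_one, one_mul]

theorem exists_borel_PSL (ha : 1 ≤ a) (hF : Nat.card F = 2 ^ a) : ∃ H : Subgroup PSL(2, F), H ≠ ⊤ ∧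
    Group.IsSolvable H ∧ Nat.card H = Nat.card F * (Nat.card F - 1) := by
  have h0 := H10.two_le_card_field (F := F)
  haveI := Fintype.ofFinite F
  obtain ⟨n, rfl⟩ : ∃ n, a = n + 1 := ⟨a - 1, by omega⟩
  haveI : CharP F 2 := H14.Sz.charP_two_of_card (n := n) (by rwa [← Nat.card_eq_fintype_card])
  refine ⟨H29.borelPSL F, fun e => ?_, ?_, ?_⟩
  · have := H29.index_borelPSL (F := F)
    rw [e, index_top] at this
    omega
  · rw [← H29.normalizer_unitriPSL]
    exact solv_of_normal_syl (isSylowIn_of_le (H29.unitriSylowPSL F 2) le_normalizer) le_rfl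
  · have := (H29.borelPSL F).card_mul_index
    rw [H29.index_borelPSL, card_PSL_even ha hF] at this
    exact Nat.eq_of_mul_eq_mul_right (Nat.succ_pos _) this

theorem len_PSL_even (ha : 2 ≤ a) (hF : Nat.card F = 2 ^ a) : a + 2 ≤ len (⊤ : Subgroup PSL(2, F)) ∧
    (4 ≤ a → 7 ≤ len (⊤ : Subgroup PSL(2, F))) := by
  obtain ⟨H, h1, h2, h3⟩ := exists_borel_PSL (by omega) hF
  have h4 : 2 ^ 2 ∣ Nat.card F := hF ▸ Nat.pow_dvd_pow 2 ha
  have h0 := H10.two_le_card_field (F := F)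
  have hlt := len_lt_top h1
  obtain ⟨r, hr, hrm⟩ := Nat.exists_prime_and_dvd (show Nat.card F - 1 ≠ 1 by omega)
  have := len_sylow (H := H) (n := a) Nat.prime_two hr (by rintro rfl; omega)
    (by rw [h3, ← hF]; exact dvd_mul_right _ _) (by rw [h3]; exact hrm.mul_left _)
  refine ⟨by omega, fun h => ?_⟩
  rcases h.eq_or_lt with rfl | h
  · have := omega_three h2 (a := 4) (b := 1) (c := 1) Nat.prime_two Nat.prime_three Nat.prime_five
      (by rw [h3, hF]; norm_num)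
    omega
  · omega

end even

end H72.Ch
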